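import Cfsg.Agent.Lib.Classical.OrthMinIndex.Translates

/-!
# Orbits of the radical of the stabiliser of a singular point in an arbitrary action
-/

set_option autoImplicit false
set_option linter.unusedSectionVars false
set_option linter.unusedSimpArgs false

namespace Cfsg.Agent.Classical.OrthMinIndex

open Cfsg.Agent.Forms Cfsg.Agent.Forms.QuadStd Cfsg.Agent.Forms.Reflections
open Cfsg.Agent.Classical.Orth Module

open scoped _root_.Classical

variable {F : Type*} [Field F] [Fintype F] {ι : Type} [Fintype ι] [DecidableEq ι]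
variable {Q : QuadraticForm F (ι → F)}

local notation "Vec" => (ι → F)
local notation "B" => QuadraticMap.polar Q

variable {α : Type*} [Fintype α] [MulAction (Cfsg.Omega F ⇑Q) α]
variable (hQ : (QuadraticMap.polarBilin Q).Nondegenerate) (hn : 7 ≤ Fintype.card ι)

/-- The root element as an element of `Ω`. -/
noncomputable def el (a w : ι → F) : Cfsg.Omega F ⇑Q := ⟨Ei Q a w, Ei_omega hQ (by omega) a w⟩

/-- The parameters of the root elements centred at `a` that fix `y`. -/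
noncomputable def Xs (y : α) (a : ι → F) : AddSubgroup (ι → F) :=
  AddSubgroup.closure {w | QuadraticMap.polar Q a w = 0 ∧ el hQ hn a w • y = y}

variable {a : ι → F} (ha : Q a = 0) (ha0 : a ≠ 0)

theorem el_mul {a w w' : Vec} (ha : Q a = 0) (hw : B a w = 0) (hw' : B a w' = 0) :
    el hQ hn a w * el hQ hn a w' = el hQ hn a (w + w') :=
  Subtype.ext (Ei_mul ha hw hw')

theorem el_zero (a : Vec) : el hQ hn a 0 = 1 := Subtype.ext (Ei_zero a)

theorem el_inv {a w : Vec} (ha : Q a = 0) (hw : B a w = 0) :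
    (el hQ hn a w)⁻¹ = el hQ hn a (-w) :=
  Subtype.ext (Ei_inv ha hw)

theorem el_conj (g : Cfsg.Omega F ⇑Q) (a w : Vec) :
    g * el hQ hn a w * g⁻¹ = el hQ hn (act g.1 a) (act g.1 w) :=
  Subtype.ext (Ei_conj g.1 a w)

include ha in
theorem mem_Xs {y : α} {w : Vec} :
    w ∈ Xs hQ hn y a ↔ B a w = 0 ∧ el hQ hn a w • y = y := by
  refine ⟨fun h => ?_, fun h => AddSubgroup.subset_closure h⟩
  induction h using AddSubgroup.closure_induction with
  | mem w hw => exact hw
  | zero => exact ⟨by simp [QuadraticMap.polar], by rw [el_zero, one_smul]⟩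
  | add u v _ _ hu hv =>
    exact ⟨by rw [QuadraticMap.polar_add_right, hu.1, hv.1, add_zero],
      by rw [← el_mul hQ hn ha hu.1 hv.1, mul_smul, hv.2, hu.2]⟩
  | neg u _ hu =>
    exact ⟨by rw [QuadraticMap.polar_neg_right, hu.1, neg_zero],
      by rw [← el_inv hQ hn ha hu.1, inv_smul_eq_iff, hu.2]⟩

/-- The annihilator of the fixing parameters. -/
noncomputable def Us (y : α) (a : ι → F) : AddSubgroup (ι → F) := ann Q (Xs hQ hn y a)

include ha in
theorem line_le_Xs (y : α) : (Ln a).toAddSubgroup ≤ Xs hQ hn y a := by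
  intro v hv
  obtain ⟨c, rfl⟩ := Submodule.mem_span_singleton.1 hv
  refine (mem_Xs hQ hn ha).2 ⟨by rw [QuadraticMap.polar_smul_right, polar_self_zero ha, smul_zero], ?_⟩
  rw [show el hQ hn a (c • a) = 1 from Subtype.ext (Ei_smul_self c ha), one_smul]

include ha in
theorem Xs_le (y : α) : Xs hQ hn y a ≤ (sperp Q {a}).toAddSubgroup :=
  fun _ hw => mem_sperp1.2 ((mem_Xs hQ hn ha).1 hw).1

theorem ann_line (hQ : (QuadraticMap.polarBilin Q).Nondegenerate) (a : Vec) :
    ann Q (Ln a).toAddSubgroup = (sperp Q {a}).toAddSubgroup := ann_sub hQ _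

include hQ in
theorem ann_sperp (s : Set Vec) :
    ann Q (sperp Q s).toAddSubgroup = (Submodule.span F s).toAddSubgroup := by
  rw [ann_sub hQ, Max.Orth.perp_perp hQ]

include ha in
theorem line_le_Us (y : α) : ∀ v ∈ Ln a, v ∈ Us hQ hn y a := fun v hv => by
  have := ann_le (Q := Q) (Xs_le hQ hn ha y)
  rw [ann_sperp hQ] at this
  exact this hv

include ha in
theorem perp_Us (y : α) : ∀ v ∈ Us hQ hn y a, B a v = 0 := fun v hv => by
  have := ann_le (Q := Q) (line_le_Xs hQ hn ha y)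
  rw [ann_line hQ] at this
  exact mem_sperp1.1 (this hv)

include ha in
theorem Xs_move (g : Cfsg.Omega F ⇑Q) {t : F} (ht : t ≠ 0) {a' : Vec} (ha' : Q a' = 0)
    (hga : act g.1 a = t • a') (y : α) :
    Xs hQ hn (g • y) a' = (Xs hQ hn y a).map (sA g.1 t) := by
  ext w
  constructor
  · intro hw
    obtain ⟨h1, h2⟩ := (mem_Xs hQ hn ha').1 hw
    have hB : B a (act g.1⁻¹ w) = 0 := by
      rw [← act_polar g.1, hga, act_cancel_inv, QuadraticMap.polar_smul_left, h1, smul_zero]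
    refine ⟨t⁻¹ • act g.1⁻¹ w, (mem_Xs hQ hn ha).2 ⟨?_, ?_⟩, ?_⟩
    · rw [QuadraticMap.polar_smul_right, hB, smul_zero]
    · have e : el hQ hn a (t⁻¹ • act g.1⁻¹ w) = g⁻¹ * el hQ hn a' w * g := by
        refine Subtype.ext ?_
        show Ei Q a (t⁻¹ • act g.1⁻¹ w) = g.1⁻¹ * Ei Q a' w * g.1
        have h3 := Ei_conj g.1⁻¹ a' w
        rw [inv_inv] at h3
        have hga' : act g.1⁻¹ a' = t⁻¹ • a := by
          have h5 := Spinor.act_inv_cancel g.1 a
          rw [hga, map_smul] at h5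
          rw [← h5, smul_smul, inv_mul_cancel₀ ht, one_smul]
        rw [h3, hga', Ei_smul t⁻¹ ha hB]
      rw [e, mul_smul, mul_smul, h2, inv_smul_smul]
    · rw [sA_apply, map_smul, act_cancel_inv, smul_smul, mul_inv_cancel₀ ht, one_smul]
  · rintro ⟨v, hv, rfl⟩
    obtain ⟨h1, h2⟩ := (mem_Xs hQ hn ha).1 hv
    have h0 : B a' (act g.1 v) = 0 := by
      have h4 : B (act g.1 a) (act g.1 v) = 0 := by rw [act_polar, h1]
      rw [hga, QuadraticMap.polar_smul_left, smul_eq_mul, mul_eq_zero] at h4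
      exact h4.resolve_left ht
    refine (mem_Xs hQ hn ha').2 ⟨by rw [sA_apply, QuadraticMap.polar_smul_right, h0, smul_zero], ?_⟩
    have e : el hQ hn a' (sA g.1 t v) = g * el hQ hn a v * g⁻¹ := by
      refine Subtype.ext ?_
      show Ei Q a' (t • act g.1 v) = g.1 * Ei Q a v * g.1⁻¹
      rw [Ei_conj, hga, Ei_smul t ha' h0]
    rw [e, mul_smul, mul_smul, inv_smul_smul, h2]

include ha in
theorem Us_move (g : Cfsg.Omega F ⇑Q) {t : F} (ht : t ≠ 0) {a' : Vec} (ha' : Q a' = 0)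
    (hga : act g.1 a = t • a') (y : α) :
    Us hQ hn (g • y) a' = (Us hQ hn y a).map (sA g.1 t⁻¹) := by
  rw [Us, Us, Xs_move hQ hn ha g ht ha' hga]
  let e : (ι → F) ≃ₗ[F] (ι → F) :=
    LinearEquiv.ofLinear (act g.1) (act g.1⁻¹) (LinearMap.ext (act_cancel_inv g.1))
      (LinearMap.ext (Spinor.act_inv_cancel g.1))
  let φ := e.trans (LinearEquiv.smulOfUnit (Units.mk0 t⁻¹ (inv_ne_zero ht)))
  let ψ := e.trans (LinearEquiv.smulOfUnit (Units.mk0 t ht))
  exact ann_map (φ := φ) (ψ := ψ) (fun u w => by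
    show B (t⁻¹ • act g.1 u) (t • act g.1 w) = B u w
    rw [QuadraticMap.polar_smul_left, QuadraticMap.polar_smul_right, act_polar, smul_eq_mul,
      smul_eq_mul, ← mul_assoc, inv_mul_cancel₀ ht, one_mul]) _

include ha in
theorem Xs_map (g : Cfsg.Omega F ⇑Q) {t : F} (ht : t ≠ 0) (hga : act g.1 a = t • a) (y : α) :
    Xs hQ hn (g • y) a = (Xs hQ hn y a).map (sA g.1 t) :=
  Xs_move hQ hn ha g ht ha hga y

include ha in
theorem Us_map (g : Cfsg.Omega F ⇑Q) {t : F} (ht : t ≠ 0) (hga : act g.1 a = t • a) (y : α) :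
    Us hQ hn (g • y) a = (Us hQ hn y a).map (sA g.1 t⁻¹) :=
  Us_move hQ hn ha g ht ha hga y

include ha in
theorem Us_el (y : α) {w : Vec} (hw : B a w = 0) :
    Us hQ hn (el hQ hn a w • y) a = Us hQ hn y a := by
  rw [Us, Us]
  congr 1
  ext v
  rw [mem_Xs hQ hn ha, mem_Xs hQ hn ha]
  refine and_congr_right fun hv => ?_
  rw [← mul_smul, el_mul hQ hn ha hv hw, add_comm, ← el_mul hQ hn ha hw hv, mul_smul,
    smul_left_cancel_iff]

/-- The orbit of the radical. -/
noncomputable def Qorb (y : α) (a : ι → F) : Finset α :=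
  (Finset.univ.filter fun w : ι → F => QuadraticMap.polar Q a w = 0).image
    fun w => el hQ hn a w • y

theorem mem_Qorb {y z : α} {a : Vec} :
    z ∈ Qorb hQ hn y a ↔ ∃ w, B a w = 0 ∧ el hQ hn a w • y = z := by
  simp [Qorb]

include ha ha0 in
theorem card_Qorb (y : α) :
    (Qorb hQ hn y a).card * Fintype.card F = Nat.card (Us hQ hn y a) := by
  set S := Finset.univ.filter fun w : Vec => B a w = 0 with hS
  have hScard : S.card = Fintype.card F ^ (Fintype.card ι - 1) := by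
    rw [← natCard_sperp1 hQ ha0, Nat.card_eq_fintype_card, hS]
    exact (Fintype.card_of_subtype _ fun w => by rw [mem_sperp1]; simp).symm
  have hfib : S.card = (Qorb hQ hn y a).card * Nat.card (Xs hQ hn y a) := by
    rw [Finset.card_eq_sum_card_image (fun w => el hQ hn a w • y) S]
    refine Finset.sum_const_nat fun z hz => ?_
    obtain ⟨w₀, hw₀, rfl⟩ := Finset.mem_image.1 hz
    simp only [hS, Finset.mem_filter, Finset.mem_univ, true_and] at hw₀
    rw [Nat.card_eq_fintype_card,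
      Fintype.card_of_subtype (Finset.univ.filter fun v => v ∈ Xs hQ hn y a) (fun v => by simp)]
    refine Finset.card_bij (fun w _ => w - w₀) (fun w hw => ?_) (fun _ _ _ _ h => sub_left_injective h)
      fun v hv => ⟨v + w₀, ?_, add_sub_cancel_right v w₀⟩
    · simp only [hS, Finset.mem_filter, Finset.mem_univ, true_and] at hw ⊢
      have hsub : B a (w - w₀) = 0 := by rw [QuadraticMap.polar_sub_right, hw.1, hw₀, sub_zero]
      refine (mem_Xs hQ hn ha).2 ⟨hsub, ?_⟩
      rw [← smul_left_cancel_iff (el hQ hn a w₀), ← mul_smul, el_mul hQ hn ha hw₀ hsub,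
        add_sub_cancel, hw.2]
    · simp only [hS, Finset.mem_filter, Finset.mem_univ, true_and] at hv ⊢
      obtain ⟨h1, h2⟩ := (mem_Xs hQ hn ha).1 hv
      exact ⟨by rw [QuadraticMap.polar_add_right, h1, hw₀, add_zero],
        by rw [add_comm, ← el_mul hQ hn ha hw₀ h1, mul_smul, h2]⟩
  have hc := card_ann hQ (Xs hQ hn y a)
  refine Nat.eq_of_mul_eq_mul_left (Nat.card_pos : 0 < Nat.card (Xs hQ hn y a)) ?_
  rw [Us, hc, ← mul_assoc, mul_comm (Nat.card _), ← hfib, hScard, ← pow_succ]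
  congr 1
  omega

/-- The orbit of the stabiliser of the line. -/
noncomputable def Korb (y : α) (a : ι → F) : Finset α :=
  Finset.univ.filter fun z => ∃ g : Cfsg.Omega F ⇑Q, ∃ t : F, t ≠ 0 ∧ act g.1 a = t • a ∧ g • y = z

theorem mem_Korb {y z : α} {a : Vec} : z ∈ Korb (Q := Q) y a ↔
    ∃ g : Cfsg.Omega F ⇑Q, ∃ t : F, t ≠ 0 ∧ act g.1 a = t • a ∧ g • y = z := by
  simp [Korb]

include ha in
theorem Us_mem_Tr {y z : α} (h : z ∈ Korb (Q := Q) y a) :
    Us hQ hn z a ∈ Tr Q a (Us hQ hn y a) := by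
  obtain ⟨g, t, ht, hga, rfl⟩ := mem_Korb.1 h
  exact mem_Tr.2 ⟨g.1, g.2, t, ht, hga, Us_map hQ hn ha g ht hga y⟩

include ha in
theorem Qorb_sub {y z : α} (h : z ∈ Korb (Q := Q) y a) {v : α} (hv : v ∈ Qorb hQ hn z a) :
    v ∈ Korb (Q := Q) y a ∧ Us hQ hn v a = Us hQ hn z a := by
  obtain ⟨g, t, ht, hga, rfl⟩ := mem_Korb.1 h
  obtain ⟨w, hw, rfl⟩ := (mem_Qorb hQ hn).1 hv
  refine ⟨mem_Korb.2 ⟨el hQ hn a w * g, t, ht, ?_, mul_smul _ _ _⟩, Us_el hQ hn ha _ hw⟩
  show act (Ei Q a w * g.1) a = _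
  rw [act_mul, hga, map_smul, act_Ei_self ha hw]

include ha ha0 in
/-- The length of an orbit of the stabiliser of the line. -/
theorem orb_bound (y : α) :
    (Tr Q a (Us hQ hn y a)).card * Nat.card (Us hQ hn y a) ≤
      Fintype.card F * (Korb (Q := Q) y a).card := by
  rw [Finset.card_eq_sum_card_fiberwise (f := fun z => Us hQ hn z a)
    (s := Korb (Q := Q) y a) (t := Tr Q a (Us hQ hn y a)) fun z hz => Us_mem_Tr hQ hn ha hz,
    Finset.mul_sum]
  refine Finset.card_nsmul_le_sum _ _ _ fun U' hU' => ?_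
  obtain ⟨g, hg, t, ht, hga, rfl⟩ := mem_Tr.1 hU'
  set z := (⟨g, hg⟩ : Cfsg.Omega F ⇑Q) • y
  have hz : z ∈ Korb (Q := Q) y a := mem_Korb.2 ⟨⟨g, hg⟩, t, ht, hga, rfl⟩
  have hUz : Us hQ hn z a = (Us hQ hn y a).map (sA g t⁻¹) := Us_map hQ hn ha ⟨g, hg⟩ ht hga y
  rw [← natCard_Tr hU', ← hUz, ← card_Qorb hQ hn ha ha0, mul_comm]
  refine Nat.mul_le_mul_left _ (Finset.card_le_card fun v hv => ?_)
  obtain ⟨h1, h2⟩ := Qorb_sub hQ hn ha hz hv
  exact Finset.mem_filter.2 ⟨h1, h2⟩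

include ha ha0 in
/-- Two radical orbits with the same annihilator double the bound. -/
theorem orb_bound_two {y y' : α} (hy' : y' ∈ Korb (Q := Q) y a)
    (hU : Us hQ hn y' a = Us hQ hn y a) (hne : y' ∉ Qorb hQ hn y a) :
    2 * ((Tr Q a (Us hQ hn y a)).card * Nat.card (Us hQ hn y a)) ≤
      Fintype.card F * (Korb (Q := Q) y a).card := by
  rw [Finset.card_eq_sum_card_fiberwise (f := fun z => Us hQ hn z a)
    (s := Korb (Q := Q) y a) (t := Tr Q a (Us hQ hn y a)) fun z hz => Us_mem_Tr hQ hn ha hz,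
    Finset.mul_sum, mul_left_comm]
  refine Finset.card_nsmul_le_sum _ _ _ fun U' hU' => ?_
  obtain ⟨g, hg, t, ht, hga, rfl⟩ := mem_Tr.1 hU'
  set G : Cfsg.Omega F ⇑Q := ⟨g, hg⟩ with hG
  set z := G • y
  set z' := G • y'
  have hz : z ∈ Korb (Q := Q) y a := mem_Korb.2 ⟨G, t, ht, hga, rfl⟩
  have hz' : z' ∈ Korb (Q := Q) y a := by
    obtain ⟨h, s, hs, hha, rfl⟩ := mem_Korb.1 hy'
    refine mem_Korb.2 ⟨G * h, s * t, mul_ne_zero hs ht, ?_, mul_smul _ _ _⟩
    show act (g * h.1) a = _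
    rw [act_mul, hha, map_smul, hga, smul_smul]
  have hUz : Us hQ hn z a = (Us hQ hn y a).map (sA g t⁻¹) := Us_map hQ hn ha G ht hga y
  have hUz' : Us hQ hn z' a = (Us hQ hn y a).map (sA g t⁻¹) := by
    rw [Us_map hQ hn ha G ht hga y', hU]
  have hdisj : Disjoint (Qorb hQ hn z a) (Qorb hQ hn z' a) := by
    rw [Finset.disjoint_left]
    intro v hv hv'
    obtain ⟨w, hw, rfl⟩ := (mem_Qorb hQ hn).1 hv
    obtain ⟨w', hw', he⟩ := (mem_Qorb hQ hn).1 hv'
    refine hne ((mem_Qorb hQ hn).2 ⟨t⁻¹ • act g⁻¹ (-w' + w), ?_, ?_⟩)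
    · rw [QuadraticMap.polar_smul_right, ← act_polar g, hga, act_cancel_inv,
        QuadraticMap.polar_smul_left, QuadraticMap.polar_add_right, QuadraticMap.polar_neg_right,
        hw, hw']
      simp
    · have e : el hQ hn a (-w' + w) = G * el hQ hn a (t⁻¹ • act g⁻¹ (-w' + w)) * G⁻¹ := by
        refine Subtype.ext ?_
        show Ei Q a (-w' + w) = g * Ei Q a (t⁻¹ • act g⁻¹ (-w' + w)) * g⁻¹
        have h0 : B a (-w' + w) = 0 := by
          rw [QuadraticMap.polar_add_right, QuadraticMap.polar_neg_right, hw, hw']; simp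
        rw [Ei_conj, hga, map_smul, act_cancel_inv,
          Ei_smul t ha (by rw [QuadraticMap.polar_smul_right, h0, smul_zero]), smul_smul,
          mul_inv_cancel₀ ht, one_smul]
      have he2 : el hQ hn a (-w' + w) • z = z' := by
        rw [← el_mul hQ hn ha (by rw [QuadraticMap.polar_neg_right, hw', neg_zero]) hw, mul_smul,
          ← he, ← el_inv hQ hn ha hw', inv_smul_smul]
      rw [e, mul_smul, mul_smul, inv_smul_smul, smul_left_cancel_iff] at he2
      exact he2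
  have c1 : (Qorb hQ hn z a).card * Fintype.card F = Nat.card (Us hQ hn y a) := by
    rw [card_Qorb hQ hn ha ha0, hUz, natCard_Tr hU']
  have c2 : (Qorb hQ hn z' a).card * Fintype.card F = Nat.card (Us hQ hn y a) := by
    rw [card_Qorb hQ hn ha ha0, hUz', natCard_Tr hU']
  calc 2 * Nat.card (Us hQ hn y a)
      = Fintype.card F * ((Qorb hQ hn z a) ∪ (Qorb hQ hn z' a)).card := by
        rw [Finset.card_union_of_disjoint hdisj, mul_add, mul_comm, ← c1]
        rw [mul_comm _ (Fintype.card F)] at c2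
        rw [c2, ← c1]; ring
    _ ≤ _ := by
      refine Nat.mul_le_mul_left _ (Finset.card_le_card fun v hv => Finset.mem_filter.2 ?_)
      rcases Finset.mem_union.1 hv with hv | hv
      · exact ⟨(Qorb_sub hQ hn ha hz hv).1, (Qorb_sub hQ hn ha hz hv).2.trans hUz⟩
      · exact ⟨(Qorb_sub hQ hn ha hz' hv).1, (Qorb_sub hQ hn ha hz' hv).2.trans hUz'⟩

theorem Korb_self (y : α) (a : Vec) : y ∈ Korb (Q := Q) y a :=
  mem_Korb.2 ⟨1, 1, one_ne_zero, by simp [act_one], one_smul _ _⟩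

theorem card_two {y y' : α} {a : Vec} (h : y' ∉ Korb (Q := Q) y a) :
    (Korb (Q := Q) y a).card + (Korb (Q := Q) y' a).card ≤ Fintype.card α := by
  rw [← Finset.card_union_of_disjoint]
  · exact Finset.card_le_univ _
  · rw [Finset.disjoint_left]
    intro z hz hz'
    obtain ⟨g, t, ht, hga, rfl⟩ := mem_Korb.1 hz
    obtain ⟨g', t', ht', hga', he⟩ := mem_Korb.1 hz'
    refine h (mem_Korb.2 ⟨g'⁻¹ * g, t / t', div_ne_zero ht ht', ?_, by
      rw [mul_smul, ← he, inv_smul_smul]⟩)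
    refine act_injective g'.1 ?_
    show act g'.1 (act (g'.1⁻¹ * g.1) a) = act g'.1 ((t / t') • a)
    rw [act_mul, act_cancel_inv, hga, map_smul, hga', smul_smul, div_mul_cancel₀ _ ht']

end Cfsg.Agent.Classical.OrthMinIndex
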