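import Cfsg.Agent.Lib.Classical.OrthMinIndex.Eich

/-!
# The annihilator of an additive group of vectors under the trace of the polar form
-/

set_option autoImplicit false
set_option linter.unusedSectionVars false

namespace Cfsg.Agent.Classical.OrthMinIndex

open Cfsg.Agent.Forms Cfsg.Agent.Forms.QuadStd Cfsg.Agent.Forms.Reflections
open Cfsg.Agent.Classical.Orth

variable {F : Type*} [Field F] [Fintype F] {ι : Type} [Fintype ι] [DecidableEq ι]
variable {Q : QuadraticForm F (ι → F)}

local notation "Vec" => (ι → F)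
local notation "B" => QuadraticMap.polar Q
local notation "pc" => ringChar F

instance instFactChar : Fact (ringChar F).Prime := ⟨CharP.char_is_prime F (ringChar F)⟩

/-- The trace to the prime field. -/
noncomputable def tr (F : Type*) [Field F] [Fintype F] : F →+ ZMod (ringChar F) :=
  letI := ZMod.algebra F (ringChar F)
  (Algebra.trace (ZMod (ringChar F)) F).toAddMonoidHom

theorem exists_tr_ne {a : F} (ha : a ≠ 0) : ∃ b, tr F (b * a) ≠ 0 := by
  letI := ZMod.algebra F pc
  obtain ⟨b, hb⟩ := FiniteField.trace_to_zmod_nondegenerate F ha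
  exact ⟨b, by rw [mul_comm]; exact hb⟩

/-- The vectors whose trace pairing with every member vanishes. -/
noncomputable def ann (Q : QuadraticForm F (ι → F)) (X : AddSubgroup (ι → F)) :
    AddSubgroup (ι → F) where
  carrier := {u | ∀ w ∈ X, tr F (QuadraticMap.polar Q u w) = 0}
  add_mem' {a b} ha hb w hw := by
    rw [QuadraticMap.polar_add_left, map_add, ha w hw, hb w hw, add_zero]
  zero_mem' w _ := by simp
  neg_mem' {a} ha w hw := by rw [QuadraticMap.polar_neg_left, map_neg, ha w hw, neg_zero]

theorem mem_ann {X : AddSubgroup Vec} {u : Vec} :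
    u ∈ ann Q X ↔ ∀ w ∈ X, tr F (B u w) = 0 := Iff.rfl

theorem ann_le {X Y : AddSubgroup Vec} (h : X ≤ Y) : ann Q Y ≤ ann Q X :=
  fun _ hu w hw => hu w (h hw)

theorem le_ann_comm {X Y : AddSubgroup Vec} (h : X ≤ ann Q Y) : Y ≤ ann Q X :=
  fun y hy x hx => by rw [QuadraticMap.polar_comm]; exact h hx y hy

theorem ann_map {φ ψ : Vec ≃ₗ[F] Vec} (h : ∀ u w, B (φ u) (ψ w) = B u w) (X : AddSubgroup Vec) :
    ann Q (X.map (ψ : Vec →ₗ[F] Vec).toAddMonoidHom) =
      (ann Q X).map (φ : Vec →ₗ[F] Vec).toAddMonoidHom := by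
  ext u
  constructor
  · intro hu
    refine ⟨φ.symm u, fun w hw => ?_, φ.apply_symm_apply u⟩
    rw [← h, φ.apply_symm_apply]
    exact hu _ ⟨w, hw, rfl⟩
  · rintro ⟨u, hu, rfl⟩ _ ⟨w, hw, rfl⟩
    show tr F (B (φ u) (ψ w)) = 0
    rw [h]; exact hu w hw

theorem mem_ann_sub {S : Submodule F Vec} {u : Vec} :
    u ∈ ann Q S.toAddSubgroup ↔ ∀ s ∈ S, B u s = 0 := by
  refine ⟨fun h s hs => ?_, fun h w hw => by rw [h w hw, map_zero]⟩
  by_contra h0
  obtain ⟨b, hb⟩ := exists_tr_ne h0
  refine hb ?_
  have := h (b • s) (S.smul_mem b hs)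
  rwa [QuadraticMap.polar_smul_right, smul_eq_mul] at this

theorem natCard_vec : Nat.card Vec = Fintype.card F ^ Fintype.card ι := by
  rw [Nat.card_eq_fintype_card, Fintype.card_fun]

theorem natCard_sub (S : Submodule F Vec) :
    Nat.card S.toAddSubgroup = Fintype.card F ^ Module.finrank F S := by
  show Nat.card S = _
  rw [Module.natCard_eq_pow_finrank (K := F), Nat.card_eq_fintype_card]

variable (hQ : (QuadraticMap.polarBilin Q).Nondegenerate)
include hQ

theorem card_ann (X : AddSubgroup Vec) :
    Nat.card X * Nat.card (ann Q X) = Fintype.card F ^ Fintype.card ι := by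
  letI := ZMod.algebra F pc
  let f : LinearMap.BilinForm (ZMod pc) Vec :=
    LinearMap.mk₂ (ZMod pc) (fun u w => tr F (B u w))
      (fun a b w => by rw [QuadraticMap.polar_add_left, map_add])
      (fun c a w => ZMod.map_smul (AddMonoidHom.mk' (fun u => tr F (B u w))
        fun a b => by rw [QuadraticMap.polar_add_left, map_add]) c a)
      (fun a b w => by rw [QuadraticMap.polar_add_right, map_add])
      (fun c a w => ZMod.map_smul (AddMonoidHom.mk' (fun w => tr F (B a w))
        fun b w => by rw [QuadraticMap.polar_add_right, map_add]) c w)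
  have hf : f.Nondegenerate := by
    have key : ∀ u : Vec, (∀ w, tr F (B u w) = 0) → u = 0 := by
      intro u hu
      refine hQ.1 u fun w => ?_
      show B u w = 0
      by_contra h0
      obtain ⟨b, hb⟩ := exists_tr_ne h0
      exact hb (by have := hu (b • w); rwa [QuadraticMap.polar_smul_right, smul_eq_mul] at this)
    exact ⟨key, fun u hu => key u fun w => by rw [QuadraticMap.polar_comm]; exact hu w⟩
  set S := AddSubgroup.toZModSubmodule pc X with hS
  have hp := LinearMap.BilinForm.finrank_orthogonal hf S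
  have e : Nat.card (ann Q X) = Nat.card (LinearMap.BilinForm.orthogonal f S) := by
    refine Nat.card_congr (Equiv.subtypeEquivRight fun u => ?_)
    rw [LinearMap.BilinForm.mem_orthogonal_iff]
    constructor
    · intro hu w hw
      show tr F (B w u) = 0
      rw [QuadraticMap.polar_comm]; exact hu w hw
    · intro hu w hw
      rw [QuadraticMap.polar_comm]; exact hu w hw
  have e2 : Nat.card X = Nat.card S := rfl
  have hle := Submodule.finrank_le S
  rw [← natCard_vec (F := F) (ι := ι), e, e2, Module.natCard_eq_pow_finrank (K := ZMod pc) (V := S),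
    Module.natCard_eq_pow_finrank (K := ZMod pc) (V := (LinearMap.BilinForm.orthogonal f S : Submodule _ Vec)),
    Module.natCard_eq_pow_finrank (K := ZMod pc) (V := Vec), ← pow_add, hp]
  congr 1
  omega

theorem ann_ann (X : AddSubgroup Vec) : ann Q (ann Q X) = X := by
  symm
  have h1 := card_ann hQ X
  have h2 := card_ann hQ (ann Q X)
  have hne : Nat.card (ann Q X) ≠ 0 := Nat.card_pos.ne'
  refine AddSubgroup.eq_of_le_of_card_ge (le_ann_comm le_rfl) ?_
  rw [← h1, mul_comm (Nat.card X)] at h2
  exact le_of_eq (Nat.eq_of_mul_eq_mul_left (Nat.pos_of_ne_zero hne) h2)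

theorem ann_sub (S : Submodule F Vec) :
    ann Q S.toAddSubgroup = (Max.Orth.perp Q S).toAddSubgroup := by
  ext u
  rw [mem_ann_sub, Submodule.mem_toAddSubgroup, Max.Orth.mem_perp]
  exact forall₂_congr fun s _ => by rw [QuadraticMap.polar_comm]

end Cfsg.Agent.Classical.OrthMinIndex
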