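import Mathlib

/-!
# Inequalities for the three families
-/

set_option autoImplicit false

namespace Cfsg.Agent.Classical.OrthMinIndex

theorem pred_mul_add {q : ℕ} (hq : 1 ≤ q) (X : ℕ) : (q - 1) * X + X = q * X := by
  obtain ⟨u, rfl⟩ := Nat.exists_eq_add_of_le hq
  rw [Nat.add_sub_cancel_left]; ring

theorem succ_mul_sub {E K a : ℕ} (h : K ≤ E * a) : (E + 1) * (K - a) ≤ E * K := by
  rcases le_or_gt a K with h' | h'
  · obtain ⟨d, rfl⟩ := Nat.exists_eq_add_of_le h'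
    rw [Nat.add_sub_cancel_left]
    nlinarith
  · rw [Nat.sub_eq_zero_of_le h'.le, mul_zero]; exact Nat.zero_le _

section plus

variable {q Y z T A A₀ P : ℕ}

/-- Plus type, at least four field elements. -/
theorem plus_four (hq : 4 ≤ q) (hY0 : Y = q ^ 2 ∨ q ^ 3 ≤ Y) (hz : z + q * Y = q ^ 3 * Y ^ 2 + q ^ 2 * Y)
    (hT : (q - 1) * T + 1 = z) (hT2 : T ≤ 2 * (q ^ 2 * Y ^ 2))
    (hA : A + q * Y = q ^ 2 * Y ^ 2) (hA₀ : A₀ + q * Y + q = q ^ 2 * Y ^ 2 + q ^ 2 * Y)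
    (hP : P + q * Y + q ^ 2 = q * Y ^ 2 + q ^ 2 * Y) :
    8 * ((q - 1) * T) ≤ 9 * q * A ∧ (q - 1) * T ≤ (q - 1) * (q ^ 2 * Y ^ 2) + 2 * A ∧
      T * q * (q ^ 2 * Y) ≤ 2 * (A₀ * P) ∧
      (q ^ 2 * Y ^ 2 + 1) * q * ((q ^ 2 * Y - q) * (q ^ 2 * Y - q ^ 2)) ≤ q ^ 2 * Y * (A₀ * P) ∧
      T * q * ((q ^ 2 * Y - q) * (q ^ 2 * Y - q ^ 2)) ≤ A₀ * P * (q ^ 2 * Y + q) := by
  have hY : q ^ 2 ≤ Y := hY0.elim (fun h => h.ge) fun h =>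
    (Nat.pow_le_pow_right (by omega) (by norm_num : 2 ≤ 3)).trans h
  have hY16 : 16 ≤ Y := le_trans (by nlinarith) hY
  have h16 : q * q * 16 ≤ q * q * Y := Nat.mul_le_mul_left _ hY16
  have hA0' : q ^ 2 * Y ^ 2 ≤ A₀ := by nlinarith
  have hP' : q * Y ^ 2 ≤ P := by nlinarith
  have hM : q ^ 2 * Y ^ 2 * (q * Y ^ 2) ≤ A₀ * P := Nat.mul_le_mul hA0' hP'
  have hK : q ^ 2 * Y - q ^ 2 + q ^ 2 = q ^ 2 * Y := by
    have : q ^ 2 ≤ q ^ 2 * Y := Nat.le_mul_of_pos_right _ (by omega)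
    omega
  refine ⟨?_, ?_, ?_, ?_, ?_⟩
  · nlinarith
  · nlinarith [pred_mul_add (show 1 ≤ q by omega) (q ^ 2 * Y ^ 2)]
  · refine le_trans ?_ (Nat.mul_le_mul_left _ hM)
    calc T * q * (q ^ 2 * Y) ≤ 2 * (q ^ 2 * Y ^ 2) * q * (q ^ 2 * Y) := by gcongr
      _ = 2 * (q ^ 3 * Y ^ 3) * q ^ 2 := by ring
      _ ≤ 2 * (q ^ 3 * Y ^ 3) * Y := Nat.mul_le_mul_left _ hY
      _ = _ := by ring
  · set E := q ^ 2 * Y ^ 2
    set K := q ^ 2 * Y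
    have h1 : (E + 1) * (K - q ^ 2) ≤ E * K := succ_mul_sub (by
      calc K = q ^ 2 * Y * 1 := (mul_one _).symm
        _ ≤ q ^ 2 * Y * (Y * q ^ 2) := Nat.mul_le_mul_left _
            (Nat.one_le_iff_ne_zero.2 (Nat.mul_pos (by omega) (pow_pos (by omega) 2)).ne')
        _ = _ := by ring)
    calc (E + 1) * q * ((K - q) * (K - q ^ 2)) = q * (K - q) * ((E + 1) * (K - q ^ 2)) := by ring
      _ ≤ q * K * (E * K) := Nat.mul_le_mul (Nat.mul_le_mul_left _ (Nat.sub_le K q)) h1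
      _ = K * (q ^ 2 * Y ^ 3 * q * q ^ 2) := by ring
      _ ≤ K * (q ^ 2 * Y ^ 3 * q * Y) := by gcongr
      _ = K * (q ^ 2 * Y ^ 2 * (q * Y ^ 2)) := by ring
      _ ≤ _ := Nat.mul_le_mul_left _ hM
  · rcases hY0 with h | h
    · subst h
      have hq2 : q ^ 2 ≤ q ^ 2 * q ^ 2 := Nat.le_mul_of_pos_right _ (by positivity)
      have hqq : q ≤ q ^ 2 * q ^ 2 := (Nat.le_self_pow (by norm_num) q).trans hq2
      refine le_of_eq ?_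
      zify [hq2, hqq, show 1 ≤ q by omega] at hT hz hA₀ hP ⊢
      have e1 : (A₀ : ℤ) = q * ((q : ℤ) ^ 3 - 1) * ((q : ℤ) ^ 2 + 1) := by linear_combination hA₀
      have e2 : (P : ℤ) = q ^ 2 * ((q : ℤ) ^ 2 - 1) * ((q : ℤ) + 1) := by linear_combination hP
      have e3 : (T : ℤ) = ((q : ℤ) ^ 2 + 1) * ((q : ℤ) + 1) * ((q : ℤ) ^ 3 + 1) := by
        refine mul_left_cancel₀ (show ((q : ℤ) - 1) ≠ 0 by omega) ?_
        linear_combination hT + hz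
      rw [e1, e2, e3]; ring
    · have h2 : 2 * q ^ 2 ≤ Y := le_trans (by rw [show q ^ 3 = q * q ^ 2 by ring]; gcongr; omega) h
      set K := q ^ 2 * Y
      calc T * q * ((K - q) * (K - q ^ 2)) ≤ T * q * (K * K) := by
            gcongr <;> exact Nat.sub_le _ _
        _ ≤ A₀ * P * K := by
            calc T * q * (K * K) ≤ 2 * (q ^ 2 * Y ^ 2) * q * (K * K) := by gcongr
              _ = q ^ 3 * Y ^ 3 * K * (2 * q ^ 2) := by ring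
              _ ≤ q ^ 3 * Y ^ 3 * K * Y := Nat.mul_le_mul_left _ h2
              _ = q ^ 2 * Y ^ 2 * (q * Y ^ 2) * K := by ring
              _ ≤ _ := Nat.mul_le_mul_right _ hM
        _ ≤ A₀ * P * (K + q) := Nat.mul_le_mul_left _ (Nat.le_add_right _ _)

/-- Plus type over two elements. -/
theorem plus_two (hY : 4 ≤ Y) (hT : T + 2 * Y = 8 * Y ^ 2)
    (hA : A + 2 * Y = 4 * Y ^ 2) (hA₀ : A₀ + 2 * Y + 2 = 4 * Y ^ 2 + 4 * Y)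
    (hP : P + 2 * Y + 4 = 2 * Y ^ 2 + 4 * Y) :
    T ≤ A₀ + A ∧ T ≤ 4 * Y ^ 2 + A ∧ 3 * T ≤ 8 * A ∧
      T * 2 * ((4 * Y - 2) * (4 * Y - 4)) ≤ 4 * Y * (A₀ * P) := by
  have hY2 : 4 * Y ≤ Y ^ 2 := by nlinarith
  refine ⟨by omega, by omega, by omega, ?_⟩
  zify [show 2 ≤ 4 * Y by omega, show 4 ≤ 4 * Y by omega] at hT hA₀ hP ⊢
  have e1 : (A₀ : ℤ) = 2 * (2 * Y - 1) * (Y + 1) := by linear_combination hA₀
  have e2 : (P : ℤ) = 2 * (Y + 2) * (Y - 1) := by linear_combination hP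
  have e3 : (T : ℤ) = 2 * Y * (4 * Y - 1) := by linear_combination hT
  rw [e1, e2, e3]
  have hY' : (4 : ℤ) ≤ Y := by exact_mod_cast hY
  have h0 : 0 ≤ ((Y : ℤ) - 1) * ((Y : ℤ) - 4) * (16 * Y * (2 * Y - 1) * (Y - 1)) := by
    have : (0 : ℤ) ≤ (Y : ℤ) - 1 := by omega
    have : (0 : ℤ) ≤ (Y : ℤ) - 4 := by omega
    have : (0 : ℤ) ≤ 2 * (Y : ℤ) - 1 := by omega
    positivity
  nlinarith

end plus

section minus

variable {q Y z T A A₀ P : ℕ}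

/-- Minus type, common bounds. -/
theorem minus_low (hq : 2 ≤ q) (hY : q ^ 2 ≤ Y)
    (hA₀ : A₀ + q ^ 2 * Y + q = q ^ 2 * Y ^ 2 + q * Y)
    (hP : P + q ^ 2 * Y + q ^ 2 = q * Y ^ 2 + q * Y) :
    3 * (q ^ 2 * Y ^ 2) ≤ 4 * A₀ ∧ q * Y ^ 2 ≤ 2 * P := by
  have hY4 : 4 ≤ Y := le_trans (by nlinarith) hY
  constructor
  · nlinarith [Nat.mul_le_mul_left (q * q * Y) hY4]
  · rcases eq_or_lt_of_le hq with h | h
    · subst h; nlinarith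
    · have h3 : 3 ≤ q := h
      nlinarith [Nat.mul_le_mul_left (q * Y) hY, Nat.mul_le_mul_left (q ^ 2 * Y) h3,
        Nat.mul_le_mul_left (q ^ 2) hY4]

/-- Minus type, at least four field elements. -/
theorem minus_four (hq : 4 ≤ q) (hY : q ^ 2 ≤ Y) (hz : z + q ^ 2 * Y = q ^ 3 * Y ^ 2 + q * Y)
    (hT : (q - 1) * T + 1 = z) (hT2 : T ≤ 2 * (q ^ 2 * Y ^ 2))
    (hA : A = q ^ 2 * Y ^ 2 + q * Y) (hA₀ : A₀ + q ^ 2 * Y + q = q ^ 2 * Y ^ 2 + q * Y)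
    (hP : P + q ^ 2 * Y + q ^ 2 = q * Y ^ 2 + q * Y) :
    8 * ((q - 1) * T) ≤ 9 * q * A ∧ (q - 1) * T ≤ (q - 1) * (q ^ 2 * Y ^ 2) + 2 * A ∧
      T * q * (q * Y) ≤ 2 * (A₀ * P) ∧
      (q ^ 2 * Y ^ 2 + 1) * q * ((q * Y - q) * (q * Y - q ^ 2)) ≤ q * Y * (A₀ * P) := by
  obtain ⟨h0, hp⟩ := minus_low (by omega) hY hA₀ hP
  have hM : 3 * (q ^ 3 * Y ^ 4) ≤ 8 * (A₀ * P) := by
    calc 3 * (q ^ 3 * Y ^ 4) = (3 * (q ^ 2 * Y ^ 2)) * (q * Y ^ 2) := by ring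
      _ ≤ (4 * A₀) * (2 * P) := Nat.mul_le_mul h0 hp
      _ = _ := by ring
  have hYq : 4 * q ≤ Y := le_trans (by nlinarith) hY
  refine ⟨?_, ?_, ?_, ?_⟩
  · nlinarith
  · nlinarith [pred_mul_add (show 1 ≤ q by omega) (q ^ 2 * Y ^ 2)]
  · have : 8 * (T * q * (q * Y)) ≤ 2 * (8 * (A₀ * P)) := by
      calc 8 * (T * q * (q * Y)) ≤ 8 * (2 * (q ^ 2 * Y ^ 2) * q * (q * Y)) := by gcongr
        _ = 4 * (q ^ 3 * Y ^ 3) * (4 * q) := by ring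
        _ ≤ 4 * (q ^ 3 * Y ^ 3) * Y := Nat.mul_le_mul_left _ hYq
        _ = 4 * (q ^ 3 * Y ^ 4) := by ring
        _ ≤ 2 * (3 * (q ^ 3 * Y ^ 4)) := by omega
        _ ≤ _ := Nat.mul_le_mul_left _ hM
    omega
  · have hK : q * Y - q ^ 2 + q ^ 2 = q * Y := by
      have : q * q ≤ q * Y := Nat.mul_le_mul_left _ (le_trans (by omega) hYq)
      rw [← sq] at this
      omega
    set E := q ^ 2 * Y ^ 2
    set K := q * Y
    have h1 : (E + 1) * (K - q ^ 2) ≤ E * K := by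
      have : K ≤ E * q ^ 2 := by
        calc K = q * Y * 1 := (mul_one _).symm
          _ ≤ q * Y * (q * Y * q ^ 2) := Nat.mul_le_mul_left _ (Nat.one_le_iff_ne_zero.2
              (Nat.mul_pos (Nat.mul_pos (by omega) (by omega)) (pow_pos (by omega) 2)).ne')
          _ = _ := by ring
      exact succ_mul_sub this
    have : 8 * ((E + 1) * q * ((K - q) * (K - q ^ 2))) ≤ 8 * (K * (A₀ * P)) := by
      calc 8 * ((E + 1) * q * ((K - q) * (K - q ^ 2)))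
          = 8 * (q * (K - q) * ((E + 1) * (K - q ^ 2))) := by ring
        _ ≤ 8 * (q * K * (E * K)) := Nat.mul_le_mul_left _
            (Nat.mul_le_mul (Nat.mul_le_mul_left _ (Nat.sub_le K q)) h1)
        _ = 2 * (K * (q ^ 3 * Y ^ 3)) * (4 * q) := by ring
        _ ≤ 2 * (K * (q ^ 3 * Y ^ 3)) * Y := Nat.mul_le_mul_left _ hYq
        _ = K * (2 * (q ^ 3 * Y ^ 4)) := by ring
        _ ≤ K * (3 * (q ^ 3 * Y ^ 4)) := by gcongr; norm_num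
        _ ≤ K * (8 * (A₀ * P)) := Nat.mul_le_mul_left _ hM
        _ = _ := by ring
    omega

/-- Minus type over three elements. -/
theorem minus_three (hY : 9 ≤ Y) (hT : 2 * T + 9 * Y + 1 = 27 * Y ^ 2 + 3 * Y)
    (hA : A = 9 * Y ^ 2 + 3 * Y) (hA₀ : A₀ + 9 * Y + 3 = 9 * Y ^ 2 + 3 * Y)
    (hP : P + 9 * Y + 9 = 3 * Y ^ 2 + 3 * Y) :
    T ≤ A₀ + A ∧ 2 * T ≤ 2 * (9 * Y ^ 2) + A ∧ T ≤ 2 * A ∧
      T * 3 * ((3 * Y - 3) * (3 * Y - 9)) ≤ 3 * Y * (A₀ * P) := by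
  have hY2 : 9 * Y ≤ Y ^ 2 := by nlinarith
  refine ⟨by omega, by omega, by omega, ?_⟩
  zify [show 3 ≤ 3 * Y by omega, show 9 ≤ 3 * Y by omega] at hT hA₀ hP ⊢
  have e1 : (A₀ : ℤ) = 3 * (3 * Y + 1) * (Y - 1) := by linear_combination hA₀
  have e2 : (P : ℤ) = 3 * (Y - 3) * (Y + 1) := by linear_combination hP
  rw [e1, e2]
  have hY' : (9 : ℤ) ≤ Y := by exact_mod_cast hY
  have key : (T : ℤ) ≤ Y * (3 * Y + 1) * (Y + 1) := by nlinarith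
  have h0 : (0 : ℤ) ≤ 27 * (Y - 1) * (Y - 3) := by
    have : (0 : ℤ) ≤ (Y : ℤ) - 1 := by omega
    have : (0 : ℤ) ≤ (Y : ℤ) - 3 := by omega
    positivity
  nlinarith [mul_le_mul_of_nonneg_right key h0]

/-- Minus type over two elements. -/
theorem minus_two (hY : 4 ≤ Y) (hT : T + 4 * Y + 1 = 8 * Y ^ 2 + 2 * Y)
    (hA : A = 4 * Y ^ 2 + 2 * Y) (hA₀ : A₀ + 4 * Y + 2 = 4 * Y ^ 2 + 2 * Y)
    (hP : P + 4 * Y + 4 = 2 * Y ^ 2 + 2 * Y) :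
    T ≤ A₀ + A ∧ T ≤ 4 * Y ^ 2 + A ∧ 3 * T ≤ 8 * A ∧
      T * 2 * ((2 * Y - 2) * (2 * Y - 4)) ≤ 2 * Y * (A₀ * P) := by
  have hY2 : 4 * Y ≤ Y ^ 2 := by nlinarith
  refine ⟨by omega, by omega, by omega, ?_⟩
  zify [show 2 ≤ 2 * Y by omega, show 4 ≤ 2 * Y by omega] at hT hA₀ hP ⊢
  have e1 : (A₀ : ℤ) = 2 * (2 * Y + 1) * (Y - 1) := by linear_combination hA₀
  have e2 : (P : ℤ) = 2 * (Y + 1) * (Y - 2) := by linear_combination hP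
  rw [e1, e2]
  have hY' : (4 : ℤ) ≤ Y := by exact_mod_cast hY
  have key : (T : ℤ) ≤ Y * (2 * Y + 1) * (Y + 1) := by nlinarith
  have h0 : (0 : ℤ) ≤ 8 * (Y - 1) * (Y - 2) := by
    have : (0 : ℤ) ≤ (Y : ℤ) - 1 := by omega
    have : (0 : ℤ) ≤ (Y : ℤ) - 2 := by omega
    positivity
  nlinarith [mul_le_mul_of_nonneg_right key h0]

end minus

section odd

variable {q Y z T A A₀ P : ℕ}

/-- Odd dimension, at least five field elements. -/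
theorem odd_five (hq : 5 ≤ q) (hY : q ^ 2 ≤ Y) (hT : (q - 1) * T + 1 = q ^ 2 * Y ^ 2)
    (hT2 : T ≤ 2 * (q * Y ^ 2)) (hA : A + q * Y = q * Y ^ 2) (hA₀ : A₀ + q = q * Y ^ 2)
    (hP : P + q ^ 2 = Y ^ 2) :
    8 * ((q - 1) * T) ≤ 9 * q * A ∧ (q - 1) * T ≤ (q - 1) * (q * Y ^ 2) + 2 * A ∧
      T * q * (q * Y) ≤ 3 * (A₀ * P) ∧
      (q * Y ^ 2 + 1) * q * ((q * Y - q) * (q * Y - q ^ 2)) ≤ q * Y * (A₀ * P) := by
  have hY25 : 25 ≤ Y := le_trans (by nlinarith) hY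
  have hYq : q ≤ Y := le_trans (Nat.le_self_pow (by norm_num) q) hY
  refine ⟨?_, ?_, ?_, ?_⟩
  · nlinarith [Nat.mul_le_mul_left (q * q * Y) hY25]
  · nlinarith [pred_mul_add (show 1 ≤ q by omega) (q * Y ^ 2)]
  · refine le_trans (Nat.mul_le_mul_right _ (Nat.mul_le_mul_right _ hT2)) ?_
    zify at hA₀ hP ⊢
    have e1 : (A₀ : ℤ) = q * ((Y : ℤ) ^ 2 - 1) := by linear_combination hA₀
    have e2 : (P : ℤ) = (Y : ℤ) ^ 2 - (q : ℤ) ^ 2 := by linear_combination hP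
    rw [e1, e2]
    have h1 : (q : ℤ) ^ 2 * Y ^ 3 ≤ Y ^ 4 := by
      calc (q : ℤ) ^ 2 * Y ^ 3 ≤ (Y : ℤ) * Y ^ 3 := by
            gcongr; exact_mod_cast hY
        _ = _ := by ring
    have h2 : 3 * ((q : ℤ) ^ 2 + 1) ≤ (Y : ℤ) ^ 2 := by
      have : (q : ℤ) ^ 2 ≤ Y := by exact_mod_cast hY
      nlinarith
    have h3 : 2 * ((q : ℤ) ^ 2 * Y ^ 3) ≤ 3 * ((Y ^ 2 - 1) * ((Y : ℤ) ^ 2 - q ^ 2)) := by
      nlinarith [mul_le_mul_of_nonneg_left h2 (sq_nonneg (Y : ℤ))]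
    nlinarith [mul_le_mul_of_nonneg_left h3 (show (0 : ℤ) ≤ q by positivity)]
  · have hq2 : q ^ 2 ≤ q * Y := by rw [sq]; exact Nat.mul_le_mul_left _ hYq
    zify [Nat.le_mul_of_pos_right q (show 0 < Y by omega), hq2] at hA₀ hP ⊢
    have e1 : (A₀ : ℤ) = q * ((Y : ℤ) ^ 2 - 1) := by linear_combination hA₀
    have e2 : (P : ℤ) = (Y : ℤ) ^ 2 - (q : ℤ) ^ 2 := by linear_combination hP
    rw [e1, e2]
    have h1 : ((q : ℤ) * Y ^ 2 + 1) * q ≤ (Y : ℤ) * (Y + 1) * (Y + q) := by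
      have : (q : ℤ) ^ 2 ≤ Y := by exact_mod_cast hY
      nlinarith
    have h0 : (0 : ℤ) ≤ (q : ℤ) ^ 2 * (Y - 1) * (Y - q) := by
      have : (0 : ℤ) ≤ (Y : ℤ) - 1 := by omega
      have : (0 : ℤ) ≤ (Y : ℤ) - q := by omega
      positivity
    nlinarith [mul_le_mul_of_nonneg_right h1 h0]

/-- Odd dimension over three elements. -/
theorem odd_three (hY : 9 ≤ Y) (hT : 2 * T + 3 * Y = 9 * Y ^ 2)
    (hA : A + 3 * Y = 3 * Y ^ 2) (hA₀ : A₀ + 3 = 3 * Y ^ 2) (hP : P + 9 = Y ^ 2) :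
    T ≤ A₀ + A ∧ 2 * T ≤ 2 * (3 * Y ^ 2) + A ∧ T ≤ 2 * (3 * Y ^ 2) ∧
      T * 3 * ((3 * Y - 3) * (3 * Y - 9)) ≤ 3 * Y * (A₀ * P) := by
  have hY2 : 9 * Y ≤ Y ^ 2 := by nlinarith
  refine ⟨by omega, by omega, by omega, ?_⟩
  zify [show 3 ≤ 3 * Y by omega, show 9 ≤ 3 * Y by omega] at hT hA₀ hP ⊢
  have e1 : (A₀ : ℤ) = 3 * ((Y : ℤ) ^ 2 - 1) := by linear_combination hA₀
  have e2 : (P : ℤ) = (Y : ℤ) ^ 2 - 9 := by linear_combination hP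
  rw [e1, e2]
  have hY' : (9 : ℤ) ≤ Y := by exact_mod_cast hY
  have key : 3 * (T : ℤ) ≤ Y * (Y + 1) * (Y + 3) := by nlinarith
  have h0 : (0 : ℤ) ≤ 9 * (Y - 1) * (Y - 3) := by
    have : (0 : ℤ) ≤ (Y : ℤ) - 1 := by omega
    have : (0 : ℤ) ≤ (Y : ℤ) - 3 := by omega
    positivity
  nlinarith [mul_le_mul_of_nonneg_right key h0]

end odd

end Cfsg.Agent.Classical.OrthMinIndex
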