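import Cfsg.Agent.Lib.Classical.OrthMinIndex.Count
import Cfsg.Agent.Lib.Classical.OrthForms

/-!
# The numbers of vectors of a given value for the standard forms
-/

set_option autoImplicit false
set_option linter.unusedSectionVars false
set_option linter.unusedSimpArgs false

namespace Cfsg.Agent.Classical.OrthMinIndex

open Matrix Cfsg.Agent.Forms Cfsg.Agent.Forms.QuadStd Cfsg.Agent.Forms.PlusStd
open Cfsg.Agent.Classical.Orth Cfsg.Agent.Classical.OrthCount Cfsg.Agent.Classical.OrthForms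

open scoped _root_.Classical

variable {F : Type*} [Field F] [Fintype F] {q : ℕ} (hF : Fintype.card F = q)

/-- The number of vectors of a given value. -/
noncomputable def vals {κ : Type} (P : (κ → F) → F) (c : F) : ℕ :=
  Nat.card {v : κ → F // P v = c}

theorem vals_congr {κ ι : Type} [Fintype ι] [DecidableEq ι] (e : κ ≃ ι) (P : (κ → F) → F)
    (R : (ι → F) → F) (h : ∀ v : ι → F, P (v ∘ e) = R v) (c : F) : vals P c = vals R c := by
  refine Nat.card_congr ((Equiv.arrowCongr e (Equiv.refl F)).subtypeEquiv fun v => ?_)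
  show P v = c ↔ R (v ∘ e.symm) = c
  rw [← h, Function.comp_assoc, Equiv.symm_comp_self, Function.comp_id]

theorem cnt_top {ι : Type} [Fintype ι] [DecidableEq ι] (Q : QuadraticForm F (ι → F)) (c : F) :
    cnt Q ⊤ c = vals ⇑Q c :=
  Nat.card_congr (Equiv.subtypeEquivRight fun v => by simp)

theorem cnt_top_zero {ι : Type} [Fintype ι] [DecidableEq ι] (Q : QuadraticForm F (ι → F)) :
    cnt Q ⊤ 0 = zeros ⇑Q := cnt_top Q 0

include hF

theorem vals_hypQ {ι : Type} [Fintype ι] [DecidableEq ι] (Q : QuadraticForm F (ι → F)) (c : F) :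
    vals ⇑(hypQ Q) c + q ^ Fintype.card ι = q * vals ⇑Q c + q ^ (Fintype.card ι + 1) := by
  have e : {v : Fin 2 ⊕ ι → F // hypQ Q v = c} ≃ Σ w : ι → F, {p : F × F // p.1 * p.2 = c - Q w} :=
    { toFun := fun v => ⟨v.1 ∘ Sum.inr, (v.1 (Sum.inl 0), v.1 (Sum.inl 1)),
        eq_sub_of_add_eq v.2⟩
      invFun := fun s => ⟨Sum.elim ![s.2.1.1, s.2.1.2] s.1, by
        rw [hypQ_apply]; simp [Sum.elim_comp_inr, s.2.2]⟩
      left_inv := fun v => by
        refine Subtype.ext (funext fun i => ?_)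
        rcases i with i | i
        · fin_cases i <;> rfl
        · rfl
      right_inv := fun s => rfl }
  rw [vals, Nat.card_congr e, Nat.card_sigma,
    Finset.sum_congr rfl (fun w _ => card_mul_eq hF (c - Q w))]
  simp only [sub_eq_zero]
  rw [Finset.sum_ite, Finset.sum_const, Finset.sum_const, smul_eq_mul, smul_eq_mul]
  have hz : (Finset.univ.filter fun w : ι → F => c = Q w).card = vals ⇑Q c := by
    rw [vals, Nat.card_eq_fintype_card, Fintype.card_subtype]
    congr 1
    ext w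
    simp [eq_comm]
  have hsum : (Finset.univ.filter fun w : ι → F => c = Q w).card +
      (Finset.univ.filter fun w : ι → F => ¬ c = Q w).card = q ^ Fintype.card ι := by
    rw [Finset.card_filter_add_card_filter_not, Finset.card_univ, Fintype.card_fun, hF]
  rw [hz] at hsum ⊢
  have : 1 < q := hF ▸ Fintype.one_lt_card
  obtain ⟨r, rfl⟩ : ∃ r, q = r + 1 := ⟨q - 1, by omega⟩
  rw [show 2 * (r + 1) - 1 = 2 * r + 1 by omega, Nat.add_sub_cancel, pow_succ (r + 1), ← hsum]
  ring

/-- One step of the recursion, in closed form. -/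
theorem vals_step {v w e : ℕ} {n k : ℕ} (h : v + q ^ n = q * w + q ^ (n + 1))
    (ih : q * w + q ^ k = q ^ n + e) : q * v + q ^ (k + 1) = q ^ (n + 2) + q * e := by
  have : q * v + q * q ^ n + q * q ^ k = q * q ^ n + q ^ (n + 2) + q * e := by
    rw [show q * v + q * q ^ n = q * (v + q ^ n) by ring, h,
      show q * (q * w + q ^ (n + 1)) + q * q ^ k = q * (q * w + q ^ k) + q * q ^ (n + 1) by ring, ih]
    ring
  rw [show q ^ (k + 1) = q * q ^ k by ring]
  omega

theorem vals_plus_eq (m : ℕ) {c : F} (hc : c ≠ 0) :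
    q * vals ⇑(plusQ F m) c + q ^ m = q ^ (2 * m) := by
  induction m with
  | zero =>
    have h : vals ⇑(plusQ F 0) c = 0 := by
      rw [vals, Nat.card_eq_zero]
      exact Or.inl ⟨fun v => hc (by
        rw [← v.2, show v.1 = 0 from funext fun i => isEmptyElim i, QuadraticMap.map_zero])⟩
    rw [h]; simp
  | succ m ih =>
    have h := vals_hypQ hF (plusQ F m) c
    rw [Fintype.card_sum, Fintype.card_fin, ← two_mul] at h
    rw [vals_congr (plusIdx m) _ _ (plus_split m)]
    have := vals_step hF (e := 0) h (by rw [ih, add_zero])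
    rw [show 2 * (m + 1) = 2 * m + 2 by ring, this, mul_zero, add_zero]

theorem vals_odd_eq (m : ℕ) (c : F) :
    q * vals ⇑(oddQ F m) c + q ^ (m + 1) =
      q ^ (2 * m + 1) + q ^ (m + 1) * vals ⇑(oddQ F 0) c := by
  induction m with
  | zero => rw [mul_zero, zero_add, pow_one]; ring
  | succ m ih =>
    have h := vals_hypQ hF (oddQ F m) c
    rw [Fintype.card_sum, Fintype.card_sum, Fintype.card_fin, Fintype.card_unit, ← two_mul,
      add_comm 1 (2 * m)] at h
    rw [vals_congr (oddIdx m) _ _ (odd_split m)]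
    have := vals_step hF h ih
    rw [show 2 * (m + 1) + 1 = 2 * m + 1 + 2 by ring, this]
    ring

theorem vals_odd_zero_pos {c s : F} (hs : s * s = c) (hs0 : s ≠ -s) :
    2 ≤ vals ⇑(oddQ F 0) c := by
  rw [vals, Nat.card_eq_fintype_card]
  have hv : ∀ t : F, oddQ F 0 (fun _ => t) = t * t := fun t => by
    rw [oddQ_apply, show (fun _ : Unit ⊕ (Fin 0 ⊕ Fin 0) => t) ∘ Sum.inr = 0 from
      funext fun i => isEmptyElim i, QuadraticMap.map_zero, add_zero, sq]
  refine Fintype.one_lt_card_iff.2 ⟨⟨fun _ => s, by rw [hv, hs]⟩,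
    ⟨fun _ => -s, by rw [hv, neg_mul_neg, hs]⟩, fun h => hs0 ?_⟩
  exact congrFun (congrArg Subtype.val h) (Sum.inl ())

theorem vals_odd_zero_none {c : F} (hc : ¬ IsSquare c) : vals ⇑(oddQ F 0) c = 0 := by
  rw [vals, Nat.card_eq_zero]
  refine Or.inl ⟨fun v => hc ⟨v.1 (Sum.inl ()), ?_⟩⟩
  have h := v.2
  rw [oddQ_apply, show v.1 ∘ Sum.inr = 0 from funext fun i => isEmptyElim i,
    QuadraticMap.map_zero, add_zero, sq] at h
  exact h.symm

omit hF

theorem bin_value {a b : F}
    (hab : ∀ z₁ z₂ : F, z₁ ^ 2 + a * z₁ * z₂ + b * z₂ ^ 2 = 0 → z₁ = 0 ∧ z₂ = 0) (c : F) :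
    ∃ z₁ z₂ : F, z₁ ^ 2 + a * z₁ * z₂ + b * z₂ ^ 2 = c := by
  by_cases h2 : (2 : F) = 0
  · have : CharP F 2 := CharTwo.of_one_ne_zero_of_two_eq_zero one_ne_zero h2
    obtain ⟨t, ht⟩ := FiniteField.isSquare_of_char_two (ringChar.eq F 2) c
    exact ⟨t, 0, by rw [ht]; ring⟩
  · have h4 : (4 : F) ≠ 0 := by
      rw [show (4 : F) = 2 * 2 by norm_num]; exact mul_ne_zero h2 h2
    have hd : b - a * a / 4 ≠ 0 := by
      intro h
      refine disc_ne_zero hab ?_
      field_simp at h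
      linear_combination h
    obtain ⟨x, y, hxy⟩ := Bases.exists_sq_add_sq h2 one_ne_zero hd c
    refine ⟨x - a * y / 2, y, ?_⟩
    rw [← hxy]
    field_simp
    ring

theorem min0_apply (a b : F) (v : (Fin 0 ⊕ Fin 0) ⊕ Fin 2 → F) :
    minQ F 0 a b v = v (Sum.inr 0) ^ 2 + a * v (Sum.inr 0) * v (Sum.inr 1) + b * v (Sum.inr 1) ^ 2 := by
  rw [minQ_apply, show v ∘ Sum.inl = 0 from funext fun i => isEmptyElim i, QuadraticMap.map_zero,
    zero_add]

include hF in
theorem vals_min_zero {a b : F}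
    (hab : ∀ z₁ z₂ : F, z₁ ^ 2 + a * z₁ * z₂ + b * z₂ ^ 2 = 0 → z₁ = 0 ∧ z₂ = 0) {c : F}
    (hc : c ≠ 0) : vals ⇑(minQ F 0 a b) c = q + 1 := by
  have mulN : ∀ d, d ≠ 0 → ∀ e, vals ⇑(minQ F 0 a b) e ≤ vals ⇑(minQ F 0 a b) (d * e) := by
    intro d hd e
    obtain ⟨u₁, u₂, hu⟩ := bin_value hab d
    rw [vals, vals, Nat.card_eq_fintype_card, Nat.card_eq_fintype_card]
    have hN : ∀ v : (Fin 0 ⊕ Fin 0) ⊕ Fin 2 → F, minQ F 0 a b
        (Sum.elim (0 : Fin 0 ⊕ Fin 0 → F) ![u₁ * v (.inr 0) - b * u₂ * v (.inr 1),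
          u₁ * v (.inr 1) + u₂ * v (.inr 0) + a * u₂ * v (.inr 1)]) =
        d * minQ F 0 a b v := fun v => by
      simp only [min0_apply, Sum.elim_inr, Matrix.cons_val_zero, Matrix.cons_val_one]
      rw [← hu]; ring
    refine Fintype.card_le_of_injective (fun v => ⟨_, (hN v.1).trans (by rw [v.2])⟩) ?_
    intro v w h
    have h0 := congrFun (congrArg Subtype.val h) (Sum.inr 0)
    have h1 := congrFun (congrArg Subtype.val h) (Sum.inr 1)
    simp only [Sum.elim_inr, Matrix.cons_val_zero, Matrix.cons_val_one] at h0 h1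
    have hz : minQ F 0 a b (v.1 - w.1) * d = 0 := by
      rw [mul_comm, ← hN, min0_apply]
      simp only [Sum.elim_inr, Matrix.cons_val_zero, Matrix.cons_val_one, Pi.sub_apply]
      have e0 : u₁ * (v.1 (.inr 0) - w.1 (.inr 0)) - b * u₂ * (v.1 (.inr 1) - w.1 (.inr 1)) = 0 := by
        linear_combination h0
      have e1 : u₁ * (v.1 (.inr 1) - w.1 (.inr 1)) + u₂ * (v.1 (.inr 0) - w.1 (.inr 0)) +
          a * u₂ * (v.1 (.inr 1) - w.1 (.inr 1)) = 0 := by linear_combination h1
      rw [e0, e1]; ring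
    obtain ⟨z0, z1⟩ := hab _ _ ((min0_apply a b _).symm.trans ((mul_eq_zero.1 hz).resolve_right hd))
    refine Subtype.ext (sub_eq_zero.1 (funext fun i => ?_))
    rcases i with i | i
    · exact isEmptyElim i
    · fin_cases i <;> assumption
  have heq : ∀ e, e ≠ 0 → vals ⇑(minQ F 0 a b) e = vals ⇑(minQ F 0 a b) c := fun e he => by
    refine le_antisymm ?_ ?_
    · have := mulN (c / e) (div_ne_zero hc he) e
      rwa [div_mul_cancel₀ _ he] at this
    · have := mulN (e / c) (div_ne_zero he hc) c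
      rwa [div_mul_cancel₀ _ hc] at this
  have hz : vals ⇑(minQ F 0 a b) 0 = 1 := by
    rw [vals, Nat.card_eq_one_iff_unique]
    refine ⟨⟨fun u v => ?_⟩, ⟨⟨0, QuadraticMap.map_zero _⟩⟩⟩
    suffices key : ∀ w : {w // minQ F 0 a b w = 0}, w.1 = 0 from
      Subtype.ext ((key u).trans (key v).symm)
    intro w
    obtain ⟨h0, h1⟩ := hab _ _ ((min0_apply a b _).symm.trans w.2)
    funext i
    rcases i with i | i
    · exact isEmptyElim i
    · fin_cases i <;> assumption
  have htot : ∑ e : F, vals ⇑(minQ F 0 a b) e = q ^ 2 := by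
    simp only [vals]
    rw [← Nat.card_sigma, Nat.card_congr (Equiv.sigmaFiberEquiv _), Nat.card_eq_fintype_card,
      Fintype.card_fun, hF]
    simp
  rw [← Finset.add_sum_erase _ _ (Finset.mem_univ (0 : F)), hz,
    Finset.sum_const_nat (fun e he => heq e (Finset.ne_of_mem_erase he)),
    Finset.card_erase_of_mem (Finset.mem_univ _), Finset.card_univ, hF] at htot
  have hq : 1 < q := hF ▸ Fintype.one_lt_card
  refine Nat.eq_of_mul_eq_mul_left (show 0 < q - 1 by omega) ?_
  obtain ⟨r, rfl⟩ : ∃ r, q = r + 1 := ⟨q - 1, by omega⟩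
  rw [Nat.add_sub_cancel] at htot ⊢
  have : 1 + r * vals ⇑(minQ F 0 a b) c = 1 + r * (r + 1 + 1) := by rw [htot]; ring
  omega

include hF in
theorem vals_min_eq (k : ℕ) {a b : F}
    (hab : ∀ z₁ z₂ : F, z₁ ^ 2 + a * z₁ * z₂ + b * z₂ ^ 2 = 0 → z₁ = 0 ∧ z₂ = 0) {c : F}
    (hc : c ≠ 0) : q * vals ⇑(minQ F k a b) c = q ^ (2 * k + 2) + q ^ (k + 1) := by
  suffices h : q * vals ⇑(minQ F k a b) c + q ^ (k + 2) =
      q ^ (2 * k + 2) + (q ^ (k + 1) + q ^ (k + 2)) by omega
  induction k with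
  | zero => rw [vals_min_zero hF hab hc]; ring
  | succ k ih =>
    have h := vals_hypQ hF (minQ F k a b) c
    rw [Fintype.card_sum, Fintype.card_sum, Fintype.card_fin, Fintype.card_fin, ← two_mul] at h
    rw [vals_congr (minIdx k) _ _ (min_split k a b)]
    have := vals_step hF h ih
    rw [show k + 1 + 2 = k + 2 + 1 by ring, this]
    ring

end Cfsg.Agent.Classical.OrthMinIndex
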