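import Cfsg.Agent.Lib.Classical.OrthMinIndex.Classify
import Cfsg.Agent.Lib.Classical.OrthMinIndex.Values

/-!
# The numerical hypotheses from lower bounds
-/

set_option autoImplicit false
set_option linter.unusedSectionVars false
set_option linter.unusedSimpArgs false

namespace Cfsg.Agent.Classical.OrthMinIndex

open Cfsg.Agent.Forms Cfsg.Agent.Forms.QuadStd
open Cfsg.Agent.Classical.Orth Module

open scoped _root_.Classical

variable {F : Type*} [Field F] [Fintype F] {ι : Type} [Fintype ι] [DecidableEq ι]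
variable {Q : QuadraticForm F (ι → F)}

theorem char_sqs {q : ℕ} (hq : Fintype.card F = q) :
    1 ≤ (sqs F).card ∧ 2 ≤ ringChar F ∧ (Odd q → 3 ≤ ringChar F) ∧
      (4 ≤ q → 2 ≤ (sqs F).card ∧ 9 * q ^ 2 ≤ 8 * (q - 1) * (ringChar F * (sqs F).card)) := by
  obtain ⟨h1, h2⟩ := two_mul_sqs (F := F)
  obtain ⟨k, hp, hk⟩ := FiniteField.card F (ringChar F)
  have hq1 := Fintype.one_lt_card (α := F)
  rw [hq] at h1 h2 hk hq1
  have hodd : ringChar F ≠ 2 → 3 ≤ ringChar F := fun h => by have := hp.two_le; omega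
  refine ⟨by omega, hp.two_le, fun ho => hodd fun h => ?_, fun h4 => ⟨by omega, ?_⟩⟩
  · rw [h] at hk
    rw [hk] at ho
    simp [Nat.odd_pow_iff k.ne_zero, Nat.odd_iff] at ho
  set s := (sqs F).card
  set p := ringChar F with hpdef
  obtain ⟨u, rfl⟩ : ∃ u, q = u + 1 := ⟨q - 1, by omega⟩
  simp only [Nat.add_sub_cancel] at *
  by_cases h : p = 2
  · have h20 : (2 : F) = 0 := by
      have := CharP.cast_eq_zero F (ringChar F)
      rw [← hpdef, h] at this
      exact_mod_cast this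
    rw [h2 h20, h]
    nlinarith
  have hp3 := hodd h
  rcases lt_or_ge u 7 with hu | hu
  · have hpu : p = u + 1 := by
      have hk1 : (k : ℕ) = 1 := by
        by_contra hne
        have : 2 ≤ (k : ℕ) := by have := k.pos; omega
        have h5 := Nat.pow_le_pow_right hp.pos this
        have : 9 ≤ p ^ 2 := Nat.pow_le_pow_left hp3 2
        omega
      rw [hk1, pow_one] at hk
      exact hk.symm
    rw [hpu]
    interval_cases u <;> omega
  · nlinarith [Nat.mul_le_mul hp3 h1]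

theorem mul_sub_le {E K q : ℕ} (h : K ≤ E * q ^ 2) :
    (E + 1) * (K - q ^ 2) ≤ E * K := by
  rcases le_or_gt (q ^ 2) K with h' | h'
  · obtain ⟨d, rfl⟩ := Nat.exists_eq_add_of_le h'
    rw [Nat.add_sub_cancel_left]
    nlinarith
  · rw [Nat.sub_eq_zero_of_le h'.le, mul_zero]; exact Nat.zero_le _

/-- The hypotheses from the counts. -/
theorem spec_of {q D T σ A A₀ P : ℕ} (hF : Fintype.card F = q) (hD : Fintype.card ι = D + 2)
    (hn : 5 ≤ D) (h8 : q = 2 → 6 ≤ D) (hσ2 : 2 * σ ≤ D + 2)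
    (hσ : ∀ W : Submodule F (ι → F), (∀ v ∈ W, Q v = 0) → finrank F W ≤ σ)
    (hT : T * (q - 1) + 1 ≤ cnt Q ⊤ 0) (hT2 : T ≤ 2 * q ^ D)
    (hA : ∀ c, c ≠ 0 → (q - 1) * q ^ D + A ≤ cnt Q ⊤ c)
    (hA₀ : (q - 1) * q ^ D + A₀ + q ≤ cnt Q ⊤ 0)
    (hP : (q - 1) * q ^ D + (q - 1) * q ^ (D - 1) + q ^ 2 + P ≤ cnt Q ⊤ 0)
    (hbig : 2 * q ^ 3 ≤ A ∧ 2 * q ^ 3 ≤ A₀)
    (hfour : 4 ≤ q → 8 * ((q - 1) * T) ≤ 9 * q * A ∧ (q - 1) * T ≤ (q - 1) * q ^ D + 2 * A ∧
      T * q * q ^ σ ≤ ringChar F * (A₀ * P) ∧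
      (q ^ D + 1) * q * ((q ^ σ - q) * (q ^ σ - q ^ 2)) ≤ q ^ σ * (A₀ * P) ∧
      (2 * σ = D + 2 → T * q * ((q ^ σ - q) * (q ^ σ - q ^ 2)) ≤ A₀ * P * (q ^ σ + q)))
    (hsmall : q < 4 → T ≤ A₀ + A ∧ (q - 1) * T ≤ (q - 1) * q ^ D + A ∧
      T * q * ((q ^ σ - q) * (q ^ σ - q ^ 2)) ≤ q ^ σ * (A₀ * P))
    (hthree : q = 3 → T + 2 * (2 * q ^ D) ≤ cnt Q ⊤ 1 + cnt Q ⊤ (-1))
    (htwo : q = 2 → 3 * T ≤ 8 * A) :
    Spec Q T (Pts Q).card σ := by
  subst hF
  set q := Fintype.card F with hq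
  obtain ⟨hs1, hp2, -, hs4⟩ := char_sqs (F := F) hq.symm
  have e2 : Fintype.card ι - 2 = D := by omega
  have e3 : Fintype.card ι - 3 = D - 1 := by omega
  have nA_ge : ∀ c, c ≠ 0 → A ≤ nA Q c := fun c hc => by
    have := hA c hc
    rw [nA, e2, ← hq]; omega
  have nS0_ge : A₀ ≤ nS Q 0 := by
    rw [nS, if_pos rfl, nA, e2, ← hq]; omega
  have nS_ge : ∀ c, c ≠ 0 → (sqs F).card * A ≤ nS Q c := fun c hc => by
    rw [nS, if_neg hc]; exact Nat.mul_le_mul_left _ (nA_ge c hc)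
  have nS_ge1 : ∀ c, c ≠ 0 → A ≤ nS Q c := fun c hc =>
    (Nat.le_mul_of_pos_left _ hs1).trans (nS_ge c hc)
  have nM_ge : A₀ * P ≤ nM Q := by
    refine Nat.mul_le_mul nS0_ge ?_
    rw [nA, e2, e3, ← hq]; omega
  have hq1 : 1 < q := Fintype.one_lt_card
  have hTN : T ≤ (Pts Q).card := by
    have h := card_Pts (Q := Q)
    rw [← hq] at h
    refine Nat.le_of_mul_le_mul_right ?_ (show 0 < q - 1 by omega)
    omega
  refine
    { hn := by omega
      h8 := fun h => by have := h8 h; omega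
      hN := card_Pts
      hTN := hTN
      hT2 := by rw [e2]; exact hT2
      hσ2 := by omega
      hσ := hσ
      small := fun c => ?_
      nons := fun h4 c hc => ?_
      three := fun h3 => ?_
      two := fun h2 => ?_
      line := fun c hc => ?_
      proper := fun h4 => (hfour h4).2.2.1.trans (Nat.mul_le_mul_left _ nM_ge)
      ext := fun h4 => by
        rw [e2]; exact (hfour h4).2.2.2.1.trans (Nat.mul_le_mul_left _ nM_ge)
      few := fun h4 => (hsmall h4).2.2.trans (Nat.mul_le_mul_left _ nM_ge)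
      maximal := fun h4 hmax => ((hfour h4).2.2.2.2 (by omega)).trans
        (Nat.mul_le_mul_right _ nM_ge) }
  · rw [e2, ← hq]
    have h : 2 * q ^ 3 ≤ nS Q c := by
      by_cases hc : c = 0
      · subst hc; exact hbig.2.trans nS0_ge
      · exact hbig.1.trans (nS_ge1 c hc)
    calc T * (q ^ 2 * (q - 1)) ≤ (2 * q ^ D) * (q ^ 2 * q) :=
          Nat.mul_le_mul hT2 (Nat.mul_le_mul_left _ (Nat.sub_le q 1))
      _ = q ^ D * (2 * q ^ 3) := by ring
      _ ≤ q ^ D * nS Q c := Nat.mul_le_mul_left _ h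
  · obtain ⟨h1, -⟩ := hfour h4
    have hs := (hs4 h4).2
    rw [← hq]
    refine le_trans ?_ (Nat.mul_le_mul_left _ (nS_ge c hc))
    refine Nat.le_of_mul_le_mul_left ?_ (show 0 < 8 * (q - 1) by omega)
    calc 8 * (q - 1) * (T * q) = q * (8 * ((q - 1) * T)) := by ring
      _ ≤ q * (9 * q * A) := Nat.mul_le_mul_left _ h1
      _ = 9 * q ^ 2 * A := by ring
      _ ≤ 8 * (q - 1) * (ringChar F * (sqs F).card) * A := Nat.mul_le_mul_right _ hs
      _ = _ := by ring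
  · refine ⟨fun c hc => (hsmall (by omega)).1.trans (Nat.add_le_add nS0_ge (nS_ge1 c hc)), ?_⟩
    have h := hthree h3
    rw [nS, if_neg one_ne_zero, nS, if_neg (neg_ne_zero.2 one_ne_zero)]
    refine le_trans ?_ (Nat.add_le_add (Nat.le_mul_of_pos_left _ hs1) (Nat.le_mul_of_pos_left _ hs1))
    have h3' : q = 3 := h3
    rw [nA, nA, e2, h3, show (3 : ℕ) - 1 = 2 from rfl]
    rw [h3'] at h
    omega
  · exact ⟨(hsmall (by omega)).1.trans (Nat.add_le_add nS0_ge (nS_ge1 1 one_ne_zero)),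
      (htwo h2).trans (Nat.mul_le_mul_left _ (nS_ge1 1 one_ne_zero))⟩
  · rw [e2, ← hq]
    rcases le_or_gt 4 q with h4 | h4
    · refine (hfour h4).2.1.trans (Nat.add_le_add_left ?_ _)
      exact (Nat.mul_le_mul_right _ (hs4 h4).1).trans (nS_ge c hc)
    · exact (hsmall h4).2.1.trans (Nat.add_le_add_left (nS_ge1 c hc) _)

end Cfsg.Agent.Classical.OrthMinIndex
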