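import Cfsg.Agent.Lib.Classical.OrthMinIndex.Action

/-!
# Points whose radical fixes a given point
-/

set_option autoImplicit false
set_option linter.unusedSectionVars false
set_option linter.unusedSimpArgs false

namespace Cfsg.Agent.Classical.OrthMinIndex

open Cfsg.Agent.Forms Cfsg.Agent.Forms.QuadStd Cfsg.Agent.Forms.Reflections
open Cfsg.Agent.Classical.Orth Module
open Cfsg.Agent.Forms.Max.Orth (centres centres_map centres_smul exists_eich_move exists_frame omega_le_of_centres)

open scoped _root_.Classical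

variable {F : Type*} [Field F] [Fintype F] {ι : Type} [Fintype ι] [DecidableEq ι]
variable {Q : QuadraticForm F (ι → F)}

local notation "Vec" => (ι → F)
local notation "B" => QuadraticMap.polar Q

theorem centres_spread {M : Subgroup (Cfsg.isometryGroup F ⇑Q)} {a c d : Vec}
    (ha : a ∈ centres M) (hc : c ∈ centres M) (hd : Q d = 0) (hac : B c a ≠ 0) (had : B d a ≠ 0) :
    d ∈ centres M := by
  obtain ⟨h, he⟩ := exists_eich_move (a := a) (u := (B c a)⁻¹ • c) (v := (B d a)⁻¹ • d) ha.1
    (by rw [Orth.map_smul', Orth.map_smul', hc.1, hd, mul_zero, mul_zero])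
    (by rw [QuadraticMap.polar_smul_left, smul_eq_mul, inv_mul_cancel₀ hac])
    (by rw [QuadraticMap.polar_smul_left, smul_eq_mul, inv_mul_cancel₀ had])
  have hC := centres_map (ha.2 _ ha.1 h) (centres_smul (B c a)⁻¹ hc)
  rw [he] at hC
  simpa [smul_smul, mul_inv_cancel₀ had] using centres_smul (B d a) hC

variable {α : Type*} [Fintype α] [MulAction (Cfsg.Omega F ⇑Q) α]
variable (hQ : (QuadraticMap.polarBilin Q).Nondegenerate) (hn : 7 ≤ Fintype.card ι)

/-- All root elements centred at `a` fix `y`. -/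
def IsF (y : α) (a : ι → F) : Prop :=
  ∀ w : ι → F, QuadraticMap.polar Q a w = 0 → el hQ hn a w • y = y

theorem isF_orth {y : α} {a c : Vec} (ha : Q a = 0) (hc : Q c = 0) (hFa : IsF hQ hn y a)
    (hFc : IsF hQ hn y c) (hac : B a c ≠ 0) (g : Cfsg.Omega F ⇑Q) : g • y = y := by
  set M := (MulAction.stabilizer (Cfsg.Omega F ⇑Q) y).map (Cfsg.Omega F ⇑Q).subtype with hM
  have mem : ∀ a, Q a = 0 → IsF hQ hn y a → a ∈ centres M := fun a ha hF =>
    ⟨ha, fun w h1 h2 => ⟨el hQ hn a w, hF w h2, by
      show Ei Q a w = _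
      rw [Ei_eq h1 h2]⟩⟩
  have ma := mem a ha hFa
  have mc := mem c hc hFc
  have hca : B c a ≠ 0 := by rwa [QuadraticMap.polar_comm]
  obtain ⟨f⟩ := exists_frame hQ (show 5 ≤ Fintype.card ι by omega)
  have all : ∀ d, d ≠ 0 → Q d = 0 → d ∈ centres M := by
    intro d hd0 hd
    by_cases h1 : B d a = 0
    swap
    · exact centres_spread ma mc hd hca h1
    by_cases h2 : B d c = 0
    swap
    · exact centres_spread mc ma hd hac h2
    have ha0 : a ≠ 0 := fun h => hac (by rw [h]; simp [QuadraticMap.polar])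
    obtain ⟨e, he, hae, hde⟩ := exists_common_nonorth hQ f ha0 hd0 ha hd fun k hk => hd0 (by
      have h3 : k * B a c = 0 := by
        rw [← smul_eq_mul, ← QuadraticMap.polar_smul_left, ← hk, h2]
      rw [hk, (mul_eq_zero.1 h3).resolve_right hac, zero_smul])
    exact centres_spread (centres_spread ma mc he hca (by rwa [QuadraticMap.polar_comm])) ma hd hae hde
  obtain ⟨h, hh, he⟩ := omega_le_of_centres hQ (show 5 ≤ Fintype.card ι by omega) all g.2
  rw [← Subtype.ext (show (h : Cfsg.isometryGroup F ⇑Q) = g.1 from he)]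
  exact hh

end Cfsg.Agent.Classical.OrthMinIndex
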