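import Cfsg.Agent.Lib.Classical.OrthMinIndex.Action

/-!
# The length of an orbit of the stabiliser of a singular point
-/

set_option autoImplicit false
set_option linter.unusedSectionVars false
set_option linter.unusedSimpArgs false
set_option maxHeartbeats 400000

namespace Cfsg.Agent.Classical.OrthMinIndex

open Cfsg.Agent.Forms Cfsg.Agent.Forms.QuadStd Cfsg.Agent.Forms.Reflections
open Cfsg.Agent.Classical.Orth Module

open scoped _root_.Classical

variable {F : Type*} [Field F] [Fintype F] {ι : Type} [Fintype ι] [DecidableEq ι]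
variable {Q : QuadraticForm F (ι → F)}

local notation "Vec" => (ι → F)
local notation "B" => QuadraticMap.polar Q

/-- The singular points. -/
noncomputable def Pts (Q : QuadraticForm F (ι → F)) : Finset (Submodule F (ι → F)) :=
  (Finset.univ.filter fun a : ι → F => Q a = 0 ∧ a ≠ 0).image Ln

theorem mem_Pts {L : Submodule F Vec} : L ∈ Pts Q ↔ ∃ a, Q a = 0 ∧ a ≠ 0 ∧ Ln a = L := by
  simp [Pts, and_assoc]

theorem mem_Ln_ne {a v : Vec} (hv : v ∈ Ln a) (hv0 : v ≠ 0) : ∃ k : F, k ≠ 0 ∧ v = k • a := by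
  obtain ⟨k, rfl⟩ := Submodule.mem_span_singleton.1 hv
  exact ⟨k, fun h => hv0 (by rw [h, zero_smul]), rfl⟩

theorem Ln_eq_of_mem {a v : Vec} (hv : v ∈ Ln a) (hv0 : v ≠ 0) : Ln v = Ln a := by
  obtain ⟨k, hk, rfl⟩ := mem_Ln_ne hv hv0
  exact Submodule.span_singleton_smul_eq (isUnit_iff_ne_zero.2 hk) a

theorem card_Pts : (Pts Q).card * (Fintype.card F - 1) + 1 = cnt Q ⊤ 0 := by
  set S := Finset.univ.filter fun a : Vec => Q a = 0 ∧ a ≠ 0 with hS
  have h1 : S.card = (Pts Q).card * (Fintype.card F - 1) := by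
    rw [Finset.card_eq_sum_card_image Ln S]
    refine Finset.sum_const_nat fun L hL => ?_
    obtain ⟨a, ha, rfl⟩ := Finset.mem_image.1 hL
    simp only [hS, Finset.mem_filter, Finset.mem_univ, true_and] at ha
    rw [← Finset.card_univ, ← Finset.card_erase_of_mem (Finset.mem_univ (0 : F))]
    symm
    refine Finset.card_bij (fun k _ => k • a) (fun k hk => ?_)
      (fun k _ k' _ h => smul_left_injective F ha.2 h) fun v hv => ?_
    · have hk0 : k ≠ 0 := (Finset.mem_erase.1 hk).1
      simp only [hS, Finset.mem_filter, Finset.mem_univ, true_and]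
      exact ⟨⟨by rw [Orth.map_smul', ha.1, mul_zero], smul_ne_zero hk0 ha.2⟩,
        Ln_eq_of_mem (Submodule.smul_mem _ k (Submodule.mem_span_singleton_self a))
          (smul_ne_zero hk0 ha.2)⟩
    · simp only [hS, Finset.mem_filter, Finset.mem_univ, true_and] at hv
      have hm : v ∈ Ln a := hv.2 ▸ Submodule.mem_span_singleton_self v
      obtain ⟨k, hk, rfl⟩ := mem_Ln_ne hm hv.1.2
      exact ⟨k, Finset.mem_erase.2 ⟨hk, Finset.mem_univ _⟩, rfl⟩
  rw [← h1, cnt, Nat.card_eq_fintype_card, Fintype.card_subtype,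
    ← Finset.card_insert_of_notMem (a := (0 : Vec)) (s := S) (by simp [hS])]
  congr 1
  ext v
  by_cases hv : v = 0 <;> simp [hS, hv]

/-- The number of vectors of value `c` orthogonal to a singular point. -/
noncomputable def nA (Q : QuadraticForm F (ι → F)) (c : F) : ℕ :=
  cnt Q ⊤ c - (Fintype.card F - 1) * Fintype.card F ^ (Fintype.card ι - 2)

/-- The number of vectors of class `c` orthogonal to a singular point and off it. -/
noncomputable def nS (Q : QuadraticForm F (ι → F)) (c : F) : ℕ :=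
  if c = 0 then nA Q 0 - Fintype.card F else (sqs F).card * nA Q c

/-- The number of mutually orthogonal singular pairs over a singular point. -/
noncomputable def nM (Q : QuadraticForm F (ι → F)) : ℕ :=
  nS Q 0 * (nA Q 0 - (Fintype.card F - 1) * Fintype.card F ^ (Fintype.card ι - 3) -
    Fintype.card F ^ 2)

/-- The numerical hypotheses: `T` the index, `N` the number of singular points, `σ` the Witt index. -/
structure Spec (Q : QuadraticForm F (ι → F)) (T N σ : ℕ) : Prop where
  hn : 7 ≤ Fintype.card ι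
  h8 : Fintype.card F = 2 → 8 ≤ Fintype.card ι
  hN : N * (Fintype.card F - 1) + 1 = cnt Q ⊤ 0
  hTN : T ≤ N
  hT2 : T ≤ 2 * Fintype.card F ^ (Fintype.card ι - 2)
  hσ2 : 2 * σ ≤ Fintype.card ι
  hσ : ∀ W : Submodule F (ι → F), (∀ v ∈ W, Q v = 0) → finrank F W ≤ σ
  small : ∀ c, T * (Fintype.card F ^ 2 * (Fintype.card F - 1)) ≤
    Fintype.card F ^ (Fintype.card ι - 2) * nS Q c
  nons : 4 ≤ Fintype.card F → ∀ c, c ≠ 0 → T * Fintype.card F ≤ ringChar F * nS Q c
  three : Fintype.card F = 3 →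
    (∀ c, c ≠ 0 → T ≤ nS Q 0 + nS Q c) ∧ T ≤ nS Q 1 + nS Q (-1)
  two : Fintype.card F = 2 → T ≤ nS Q 0 + nS Q 1 ∧ 3 * T ≤ 8 * nS Q 1
  line : ∀ c, c ≠ 0 → (Fintype.card F - 1) * T ≤
    (Fintype.card F - 1) * Fintype.card F ^ (Fintype.card ι - 2) + nS Q c
  proper : 4 ≤ Fintype.card F → T * Fintype.card F * Fintype.card F ^ σ ≤ ringChar F * nM Q
  ext : 4 ≤ Fintype.card F → (Fintype.card F ^ (Fintype.card ι - 2) + 1) * Fintype.card F *
    ((Fintype.card F ^ σ - Fintype.card F) * (Fintype.card F ^ σ - Fintype.card F ^ 2)) ≤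
      Fintype.card F ^ σ * nM Q
  few : Fintype.card F < 4 → T * Fintype.card F *
    ((Fintype.card F ^ σ - Fintype.card F) * (Fintype.card F ^ σ - Fintype.card F ^ 2)) ≤
      Fintype.card F ^ σ * nM Q
  maximal : 4 ≤ Fintype.card F → 2 * σ = Fintype.card ι → T * Fintype.card F *
    ((Fintype.card F ^ σ - Fintype.card F) * (Fintype.card F ^ σ - Fintype.card F ^ 2)) ≤
      nM Q * (Fintype.card F ^ σ + Fintype.card F)

theorem dvd_gap {p : ℕ} (hp : p.Prime) {k a b : ℕ} (ha : a ∣ p ^ k) (hb : b ∣ p ^ k) (hab : a < b) :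
    a * p ≤ b := by
  obtain ⟨i, -, rfl⟩ := (Nat.dvd_prime_pow hp).1 ha
  obtain ⟨j, -, rfl⟩ := (Nat.dvd_prime_pow hp).1 hb
  rw [← pow_succ]
  exact Nat.pow_le_pow_right hp.pos ((Nat.pow_lt_pow_iff_right hp.one_lt).1 hab)

theorem natCard_gap {U V : AddSubgroup Vec} (hUV : U ≤ V) (hne : U ≠ V) :
    Nat.card U * ringChar F ≤ Nat.card V := by
  obtain ⟨k, hp, hk⟩ := FiniteField.card F (ringChar F)
  have hd : ∀ W : AddSubgroup Vec, Nat.card W ∣ ringChar F ^ ((k : ℕ) * Fintype.card ι) := fun W => by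
    have := AddSubgroup.card_addSubgroup_dvd_card W
    rwa [natCard_vec, hk, ← pow_mul] at this
  refine dvd_gap hp (hd U) (hd V) (lt_of_not_ge fun h => hne ?_)
  exact AddSubgroup.eq_of_le_of_card_ge hUV h

theorem smul_mem_small_aux (h4 : Fintype.card F < 4) (c : F) : c = 0 ∨ c = 1 ∨ c = -1 := by
  by_contra hcon
  simp only [not_or] at hcon
  by_cases h2 : (1 : F) = -1
  · have h3 : ({0, 1, c} : Finset F).card = 3 := by
      rw [Finset.card_insert_of_notMem (by simp [Ne.symm hcon.1]),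
        Finset.card_pair (Ne.symm hcon.2.1)]
    have hle := Finset.card_le_univ ({0, 1, c} : Finset F)
    obtain ⟨k, hp, hk⟩ := FiniteField.card F (ringChar F)
    have h20 : (2 : F) = 0 := by linear_combination h2
    have h22 : ringChar F ∣ 2 := (ringChar.spec F 2).1 (by exact_mod_cast h20)
    rw [(Nat.prime_dvd_prime_iff_eq hp Nat.prime_two).1 h22] at hk
    have hk2 : 2 ≤ (k : ℕ) := by
      by_contra hlt
      have : (k : ℕ) = 1 := by have := k.pos; omega
      rw [this] at hk; omega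
    have := Nat.pow_le_pow_right (show 1 ≤ 2 by omega) hk2
    omega
  · have h3 : ({0, 1, -1, c} : Finset F).card = 4 := by
      rw [Finset.card_insert_of_notMem (by simp [Ne.symm hcon.1]),
        Finset.card_insert_of_notMem (by simp [Ne.symm hcon.2.1, h2]),
        Finset.card_pair (Ne.symm hcon.2.2)]
    have hle := Finset.card_le_univ ({0, 1, -1, c} : Finset F)
    omega

/-- Over the two smallest fields every additive group is a subspace. -/
theorem smul_mem_small (h4 : Fintype.card F < 4) (U : AddSubgroup Vec) (c : F) {v : Vec}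
    (hv : v ∈ U) : c • v ∈ U := by
  have key := smul_mem_small_aux h4 c
  rcases key with rfl | rfl | rfl
  · rw [zero_smul]; exact zero_mem _
  · rwa [one_smul]
  · rw [neg_one_smul]; exact neg_mem hv

/-- An additive group closed under scalars. -/
noncomputable def toSub (U : AddSubgroup (ι → F)) (h : ∀ (c : F), ∀ v ∈ U, c • v ∈ U) :
    Submodule F (ι → F) where
  carrier := U
  add_mem' := U.add_mem
  zero_mem' := U.zero_mem
  smul_mem' := h

theorem mono_frac {q k K : ℕ} (h1 : q ^ 2 ≤ k) (hq : 1 ≤ q) (h2 : k ≤ K) :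
    K * ((k - q) * (k - q ^ 2)) ≤ k * ((K - q) * (K - q ^ 2)) := by
  have hq2 : q ≤ q ^ 2 := Nat.le_self_pow (by omega) q
  zify [h1, h1.trans h2, hq2.trans h1, hq2.trans (h1.trans h2)]
  have e1 : (q : ℤ) ^ 2 ≤ k := by exact_mod_cast h1
  have e2 : (k : ℤ) ≤ K := by exact_mod_cast h2
  have e3 : (1 : ℤ) ≤ q := by exact_mod_cast hq
  have e4 : (q : ℤ) ^ 3 ≤ k * K := by
    have : (q : ℤ) ^ 4 ≤ (k : ℤ) * K := by
      calc (q : ℤ) ^ 4 = (q : ℤ) ^ 2 * (q : ℤ) ^ 2 := by ring
        _ ≤ (k : ℤ) * K := mul_le_mul e1 (e1.trans e2) (by positivity) (by positivity)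
    have : (q : ℤ) ^ 3 ≤ q ^ 4 := pow_le_pow_right₀ e3 (by norm_num)
    linarith
  nlinarith [mul_nonneg (sub_nonneg.2 e2) (sub_nonneg.2 e4)]

theorem orbit_arith {O t k q s r : ℕ} (hk : 0 < k) (h1 : t * k ≤ q * O) (h2 : s * r ≤ t * (k - q)) :
    s * r ≤ q * O := by
  refine h2.trans (le_trans ?_ h1)
  exact Nat.mul_le_mul_left _ (Nat.sub_le k q)

section counts

variable (hQ : (QuadraticMap.polarBilin Q).Nondegenerate) {a : ι → F} (ha : Q a = 0) (ha0 : a ≠ 0)
include hQ ha ha0

theorem cnt_eq_nA (c : F) : cnt Q (sperp Q {a}) c = nA Q c := by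
  rw [nA, cnt_a hQ ha ha0 c]; omega

theorem card_Sx_eq (c : F) : (Sx Q a c).card = nS Q c := by
  rw [nS]
  split_ifs with h
  · subst h; rw [← cnt_eq_nA hQ ha ha0, ← card_Sx_zero ha ha0]; omega
  · rw [card_Sx ha h, cnt_eq_nA hQ ha ha0]

theorem card_pairs {x : Vec} (hx : Q x = 0) (hax : B a x = 0) (hxa : x ∉ Ln a) :
    (Sx Q a 0).card * (Phi Q a x).card = nM Q := by
  rw [nM, card_Sx_eq hQ ha ha0, ← cnt_eq_nA hQ ha ha0, cnt_ax hQ ha0 hx hax hxa]
  have := card_Phi ha ha0 hx hax hxa
  congr 1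
  omega

end counts

variable {α : Type*} [Fintype α] [MulAction (Cfsg.Omega F ⇑Q) α]
variable (hQ : (QuadraticMap.polarBilin Q).Nondegenerate) (hn : 7 ≤ Fintype.card ι)

/-- The radical is regular on the orbit of `y`. -/
def IsA (y : α) (a : ι → F) : Prop := ∀ w ∈ Xs hQ hn y a, w ∈ Ln a

/-- The annihilator lies in a line through the centre. -/
def IsL (y : α) (a : ι → F) : Prop :=
  ∃ x ∈ Us hQ hn y a, x ∉ Ln a ∧
    ∀ u ∈ Us hQ hn y a, u ∈ Submodule.span F ({a, x} : Set (ι → F))

/-- The annihilator is a totally singular subspace. -/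
def IsE (y : α) (a : ι → F) : Prop :=
  4 ≤ Fintype.card F ∧ ∃ W : Submodule F (ι → F), Us hQ hn y a = W.toAddSubgroup ∧
    (∀ v ∈ W, Q v = 0) ∧ 3 ≤ finrank F W ∧
    Fintype.card F * (Fintype.card F ^ (Fintype.card ι - 2) + 1) ≤
      (Tr Q a (Us hQ hn y a)).card * Nat.card (Us hQ hn y a)

variable {a : ι → F} (ha : Q a = 0) (ha0 : a ≠ 0) (y : α)
include ha ha0

theorem line_bound {x : Vec} (hx : x ∈ Us hQ hn y a) (hxa : x ∉ Ln a)
    (hU : ∀ u ∈ Us hQ hn y a, u ∈ Submodule.span F ({a, x} : Set Vec)) :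
    nS Q (Q x) ≤ (Korb (Q := Q) y a).card * (Fintype.card F - 1) := by
  set U := Us hQ hn y a with hUdef
  set q := Fintype.card F
  have h1 : (Sx Q a (Q x)).card * 1 ≤ (Tr Q a U).card * (Nat.card U - q) :=
    double_count _ _ (Ln a) (fun z hz => (mem_Sx.1 hz).2.1)
      (class_bound hQ hn ha ha0 (line_le_Us hQ hn ha y) (perp_Us hQ hn ha y) hx hxa
        (one_le_through hQ hn ha ha0 (line_le_Us hQ hn ha y) (perp_Us hQ hn ha y) hx))
      fun U' h => off_le hQ hn ha ha0 (line_le_Us hQ hn ha y) (perp_Us hQ hn ha y) h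
  rw [mul_one, card_Sx_eq hQ ha ha0] at h1
  have h2 := orb_bound hQ hn ha ha0 y
  have hk : Nat.card U ≤ q ^ 2 := by
    refine (AddSubgroup.card_le_of_le (K := (Submodule.span F ({a, x} : Set Vec)).toAddSubgroup) hU).trans ?_
    rw [natCard_sub]
    exact Nat.pow_le_pow_right Fintype.card_pos (finrank_span2 a x)
  have hk0 : 0 < Nat.card U := Nat.card_pos
  have hq : 1 ≤ q := Fintype.card_pos
  have h3 : q * (Nat.card U - q) ≤ (q - 1) * Nat.card U := by
    rw [Nat.mul_sub, Nat.sub_mul, one_mul, ← sq]; omega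
  refine Nat.le_of_mul_le_mul_left ?_ hq
  calc q * nS Q (Q x) ≤ q * ((Tr Q a U).card * (Nat.card U - q)) := Nat.mul_le_mul_left _ h1
    _ = (Tr Q a U).card * (q * (Nat.card U - q)) := by ring
    _ ≤ (Tr Q a U).card * ((q - 1) * Nat.card U) := Nat.mul_le_mul_left _ h3
    _ = (q - 1) * ((Tr Q a U).card * Nat.card U) := by ring
    _ ≤ (q - 1) * (q * (Korb (Q := Q) y a).card) := Nat.mul_le_mul_left _ h2
    _ = _ := by ring

variable {T N σ : ℕ} (hS : Spec Q T N σ)
include hS

theorem line_le (hL : IsL hQ hn y a) :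
    T ≤ Fintype.card F ^ (Fintype.card ι - 2) + (Korb (Q := Q) y a).card ∨
      N ≤ Fintype.card F ^ (Fintype.card ι - 2) + (Korb (Q := Q) y a).card + 1 := by
  obtain ⟨x, hx, hxa, hU⟩ := hL
  have h := line_bound hQ hn ha ha0 y hx hxa hU
  set O := (Korb (Q := Q) y a).card
  have hq : 1 < Fintype.card F := Fintype.one_lt_card
  by_cases hQx : Q x = 0
  · refine Or.inr (Nat.le_of_mul_le_mul_left ?_ (show 0 < Fintype.card F - 1 by omega))
    rw [hQx, nS, if_pos rfl, nA, ← hS.hN] at h
    rw [mul_add, mul_add, mul_one, mul_comm (Fintype.card F - 1) N]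
    have : (Fintype.card F - 1) * O = O * (Fintype.card F - 1) := mul_comm _ _
    omega
  · refine Or.inl (Nat.le_of_mul_le_mul_left ?_ (show 0 < Fintype.card F - 1 by omega))
    have := hS.line _ hQx
    rw [mul_add, mul_comm (Fintype.card F - 1) O]
    omega

/-- The annihilator of the translates covers a class. -/
theorem small_bound {x z : Vec} (hX : ∀ w ∈ Xs hQ hn y a, w ∈ Submodule.span F ({a, x} : Set Vec))
    (hz : z ∈ Xs hQ hn y a) (hza : z ∉ Ln a) : T ≤ (Korb (Q := Q) y a).card := by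
  set U := Us hQ hn y a with hUdef
  set X := Xs hQ hn y a with hXdef
  set q := Fintype.card F with hq
  set D := Fintype.card ι - 2 with hD
  have hzp : B a z = 0 := ((mem_Xs hQ hn ha).1 hz).1
  have hrep : ∀ U' ∈ Tr Q a U, ∃ (g : Cfsg.Omega F ⇑Q) (t : F), t ≠ 0 ∧ act g.1 a = t • a ∧
      U' = Us hQ hn (g • y) a ∧ ann Q U' = Xs hQ hn (g • y) a ∧ Nat.card (ann Q U') = Nat.card X := by
    intro U' hU'
    obtain ⟨g, hg, t, ht, hga, rfl⟩ := mem_Tr.1 hU'
    have e := Us_map hQ hn ha ⟨g, hg⟩ ht hga y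
    have e2 : ann Q (U.map (sA g t⁻¹)) = Xs hQ hn ((⟨g, hg⟩ : Cfsg.Omega F ⇑Q) • y) a := by
      rw [hUdef, ← e, Us, ann_ann hQ]
    refine ⟨⟨g, hg⟩, t, ht, hga, e.symm, e2, ?_⟩
    rw [e2, Xs_map hQ hn ha ⟨g, hg⟩ ht hga]
    exact AddSubgroup.card_map_of_injective (sA_injective g ht)
  set T' := (Tr Q a U).image (ann Q)
  have h1 : (Sx Q a (Q z)).card * 1 ≤ T'.card * (Nat.card X - q) := by
    refine double_count _ _ (Ln a) (fun v hv => (mem_Sx.1 hv).2.1) (fun v hv => ?_) fun W hW => ?_
    · obtain ⟨hav, hva, s, hs, hQv⟩ := mem_Sx.1 hv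
      obtain ⟨g, hg, hga, hgz⟩ := move_pair hQ hn hs ha ha0 hzp (u' := s⁻¹ • v)
        (by rw [QuadraticMap.polar_smul_right, hav, smul_zero]) hza
        (fun h => hva (by
          simpa [smul_smul, mul_inv_cancel₀ hs] using Submodule.smul_mem _ s h))
        (by rw [Orth.map_smul', hQv]; field_simp)
      refine Finset.card_pos.2 ⟨ann Q (Us hQ hn ((⟨g, hg⟩ : Cfsg.Omega F ⇑Q) • y) a), ?_⟩
      refine Finset.mem_filter.2 ⟨Finset.mem_image.2 ⟨_, Us_mem_Tr hQ hn ha
        (mem_Korb.2 ⟨⟨g, hg⟩, s, hs, hga, rfl⟩), rfl⟩, ?_⟩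
      rw [Us, ann_ann hQ, Xs_map hQ hn ha ⟨g, hg⟩ hs hga]
      exact ⟨z, hz, by rw [sA_apply, hgz, smul_smul, mul_inv_cancel₀ hs, one_smul]⟩
    · obtain ⟨U', hU', rfl⟩ := Finset.mem_image.1 hW
      obtain ⟨g, t, ht, hga, -, e2, e3⟩ := hrep U' hU'
      have h := card_off_line ha0 (U := ann Q U') (by rw [e2]; exact line_le_Xs hQ hn ha _)
      rw [e3] at h
      omega
  rw [mul_one, card_Sx_eq hQ ha ha0] at h1
  have h2 := orb_bound hQ hn ha ha0 y
  have h3 : Nat.card X * Nat.card U = q ^ (D + 2) := by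
    rw [hUdef, Us, card_ann hQ]
    congr 1
    omega
  have hX2 : Nat.card X ≤ q ^ 2 := by
    refine (AddSubgroup.card_le_of_le (K := (Submodule.span F ({a, x} : Set Vec)).toAddSubgroup) hX).trans ?_
    rw [natCard_sub]
    exact Nat.pow_le_pow_right Fintype.card_pos (finrank_span2 a x)
  have hq1 : 1 < q := Fintype.one_lt_card
  have h4 : (Nat.card X - q) * Nat.card X ≤ q * (q ^ 2 * (q - 1)) := by
    calc (Nat.card X - q) * Nat.card X ≤ (q ^ 2 - q) * q ^ 2 := by gcongr
      _ = _ := by rw [show q ^ 2 - q = q * (q - 1) by rw [Nat.mul_sub, mul_one, sq]]; ring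
  set O := (Korb (Q := Q) y a).card
  have h5 := hS.small (Q z)
  rw [← hq, ← hD] at h5
  have hpos : 0 < q * (q * (q ^ 2 * (q - 1))) := by
    have : 0 < q - 1 := by omega
    positivity
  refine Nat.le_of_mul_le_mul_right ?_ hpos
  calc T * (q * (q * (q ^ 2 * (q - 1)))) = q ^ 2 * (T * (q ^ 2 * (q - 1))) := by ring
    _ ≤ q ^ 2 * (q ^ D * nS Q (Q z)) := Nat.mul_le_mul_left _ h5
    _ = Nat.card X * Nat.card U * nS Q (Q z) := by rw [h3]; ring
    _ ≤ Nat.card X * Nat.card U * ((Tr Q a U).card * (Nat.card X - q)) :=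
        Nat.mul_le_mul_left _ (h1.trans (Nat.mul_le_mul_right _ Finset.card_image_le))
    _ = ((Tr Q a U).card * Nat.card U) * ((Nat.card X - q) * Nat.card X) := by ring
    _ ≤ (q * O) * (q * (q ^ 2 * (q - 1))) := Nat.mul_le_mul h2 h4
    _ = _ := by ring

theorem class_le {x : Vec} (hx : x ∈ Us hQ hn y a) (hxa : x ∉ Ln a) {r : ℕ}
    (hr : r ≤ ((Tr Q a (Us hQ hn y a)).filter (x ∈ ·)).card) :
    nS Q (Q x) * r ≤ (Tr Q a (Us hQ hn y a)).card * (Nat.card (Us hQ hn y a) - Fintype.card F) := by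
  rw [← card_Sx_eq hQ ha ha0]
  exact double_count _ _ (Ln a) (fun z hz => (mem_Sx.1 hz).2.1)
    (class_bound hQ hn ha ha0 (line_le_Us hQ hn ha y) (perp_Us hQ hn ha y) hx hxa hr)
    fun U' h => off_le hQ hn ha ha0 (line_le_Us hQ hn ha y) (perp_Us hQ hn ha y) h

theorem pair_le {x x' : Vec} (hx : x ∈ Us hQ hn y a) (hxa : x ∉ Ln a) (hx' : x' ∈ Us hQ hn y a)
    (hxa' : x' ∉ Ln a) (hne : ∀ s : F, s ≠ 0 → Q x' ≠ s * s * Q x)
    (hp : ∀ u ∈ Us hQ hn y a, u ∉ Ln a →
      ringChar F ≤ ((Tr Q a (Us hQ hn y a)).filter (u ∈ ·)).card) :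
    (nS Q (Q x) + nS Q (Q x')) * ringChar F ≤ Fintype.card F * (Korb (Q := Q) y a).card := by
  set U := Us hQ hn y a
  have hd := Sx_disjoint (Q := Q) (a := a) hne
  have h : (Sx Q a (Q x) ∪ Sx Q a (Q x')).card * ringChar F ≤
      (Tr Q a U).card * (Nat.card U - Fintype.card F) := by
    refine double_count _ _ (Ln a) (fun z hz => ?_) (fun z hz => ?_)
      fun U' h => off_le hQ hn ha ha0 (line_le_Us hQ hn ha y) (perp_Us hQ hn ha y) h
    · rcases Finset.mem_union.1 hz with hz | hz <;> exact (mem_Sx.1 hz).2.1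
    · rcases Finset.mem_union.1 hz with hz | hz
      · exact class_bound hQ hn ha ha0 (line_le_Us hQ hn ha y) (perp_Us hQ hn ha y) hx hxa
          (hp x hx hxa) z hz
      · exact class_bound hQ hn ha ha0 (line_le_Us hQ hn ha y) (perp_Us hQ hn ha y) hx' hxa'
          (hp x' hx' hxa') z hz
  rw [Finset.card_union_of_disjoint hd, card_Sx_eq hQ ha ha0, card_Sx_eq hQ ha ha0] at h
  exact orbit_arith Nat.card_pos (orb_bound hQ hn ha ha0 y) h

theorem nonsing_case (hnl : ∀ x, ∃ v ∈ Us hQ hn y a, v ∉ Submodule.span F ({a, x} : Set Vec))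
    (hp : ∀ u ∈ Us hQ hn y a, u ∉ Ln a →
      ringChar F ≤ ((Tr Q a (Us hQ hn y a)).filter (u ∈ ·)).card)
    {u : Vec} (hu : u ∈ Us hQ hn y a) (hQu : Q u ≠ 0) : T ≤ (Korb (Q := Q) y a).card := by
  set U := Us hQ hn y a with hUdef
  set q := Fintype.card F with hq
  set O := (Korb (Q := Q) y a).card
  have hua : u ∉ Ln a := fun h => by
    obtain ⟨k, rfl⟩ := Submodule.mem_span_singleton.1 h
    exact hQu (by rw [Orth.map_smul', ha, mul_zero])
  have horb := orb_bound hQ hn ha ha0 y
  have hq1 : 1 < q := Fintype.one_lt_card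
  rcases le_or_gt 4 q with h4 | h4
  · have h := orbit_arith Nat.card_pos horb (class_le hQ hn ha ha0 y hS hu hua (hp u hu hua))
    have h' := hS.nons h4 _ hQu
    rw [mul_comm (nS Q (Q u))] at h
    exact Nat.le_of_mul_le_mul_right ((h'.trans h).trans (le_of_eq (mul_comm _ _))) (by omega)
  obtain ⟨k, hprime, hk⟩ := FiniteField.card F (ringChar F)
  have hpq : ringChar F = q := by
    have : (k : ℕ) = 1 := by
      by_contra h1
      have : 2 ≤ (k : ℕ) := by have := k.pos; omega
      have h2 := Nat.pow_le_pow_right hprime.pos this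
      have := hprime.two_le
      rw [← hk, ← hq] at h2
      nlinarith
    rw [this, pow_one] at hk
    exact hk.symm
  have hfin : ∀ x x', x ∈ U → x ∉ Ln a → x' ∈ U → x' ∉ Ln a →
      (∀ s : F, s ≠ 0 → Q x' ≠ s * s * Q x) → T ≤ nS Q (Q x) + nS Q (Q x') → T ≤ O := by
    intro x x' hx hxa hx' hxa' hne hle
    have h := pair_le hQ hn ha ha0 y hS hx hxa hx' hxa' hne hp
    rw [hpq, mul_comm] at h
    exact hle.trans (Nat.le_of_mul_le_mul_left h (by omega))
  by_cases hs : ∃ v ∈ U, v ∉ Ln a ∧ Q v = 0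
  · obtain ⟨v, hv, hva, hQv⟩ := hs
    refine hfin v u hv hva hu hua (fun s _ => by rw [hQv, mul_zero]; exact hQu) ?_
    rw [hQv]
    rcases (show q = 2 ∨ q = 3 by omega) with h2 | h3
    · have h1 : Q u = 1 := by
        rcases smul_mem_small_aux (by omega) (Q u) with h | h | h
        · exact absurd h hQu
        · exact h
        · rw [h]
          have h20 : (2 : F) = 0 := by
            have := FiniteField.cast_card_eq_zero F
            rw [← hq, h2] at this
            exact_mod_cast this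
          linear_combination -h20
      rw [h1]; exact (hS.two h2).1
    · exact (hS.three h3).1 _ hQu
  push Not at hs
  obtain ⟨v, hv, hvs⟩ := hnl u
  have out : ∀ (c : F), c • u + v ∉ Ln a := fun c h => hvs (by
    have h2 : c • u ∈ Submodule.span F ({a, u} : Set Vec) :=
      Submodule.smul_mem _ c (Submodule.subset_span (by simp))
    have h3 : c • u + v ∈ Submodule.span F ({a, u} : Set Vec) :=
      Submodule.span_mono (by simp) h
    simpa using Submodule.sub_mem _ h3 h2)
  have hva : v ∉ Ln a := by simpa using out 0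
  have hvu : Q v ≠ 0 := hs v hv hva
  rcases (show q = 2 ∨ q = 3 by omega) with h2 | h3
  · have h20 : (2 : F) = 0 := by
      have := FiniteField.cast_card_eq_zero F
      rw [← hq, h2] at this
      exact_mod_cast this
    have one : ∀ c : F, c ≠ 0 → c = 1 := fun c hc => by
      rcases smul_mem_small_aux (by omega) c with h | h | h
      · exact absurd h hc
      · exact h
      · rw [h]; linear_combination -h20
    have val : ∀ w ∈ U, w ∉ Ln a → Q w = 1 := fun w hw hwa => one _ (hs w hw hwa)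
    have huv : u + v ∈ U := U.add_mem hu hv
    have huva : u + v ∉ Ln a := by simpa using out 1
    have hBuv : B u v = 1 := by
      have h := val _ huv huva
      rw [map_add', val u hu hua, val v hv hva] at h
      linear_combination h - h20
    have hU3 : ∀ w ∈ U, w ∈ Submodule.span F ({a, u, v} : Set Vec) := by
      intro w hw
      by_contra hws
      have m : ∀ t ∈ Submodule.span F ({a, u, v} : Set Vec), t + w ∉ Ln a := fun t ht h =>
        hws (by
          have h3 : t + w ∈ Submodule.span F ({a, u, v} : Set Vec) :=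
            Submodule.span_mono (by simp) h
          simpa using Submodule.sub_mem _ h3 ht)
      have su : u ∈ Submodule.span F ({a, u, v} : Set Vec) := Submodule.subset_span (by simp)
      have sv : v ∈ Submodule.span F ({a, u, v} : Set Vec) := Submodule.subset_span (by simp)
      have hwa : w ∉ Ln a := by simpa using m 0 (zero_mem _)
      have e1 := val _ (U.add_mem hu hw) (m u su)
      have e2 := val _ (U.add_mem hv hw) (m v sv)
      have e3 := val _ (U.add_mem huv hw) (m _ (add_mem su sv))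
      rw [map_add', val u hu hua, val w hw hwa] at e1
      rw [map_add', val v hv hva, val w hw hwa] at e2
      rw [map_add', val _ huv huva, val w hw hwa, QuadraticMap.polar_add_left] at e3
      exact one_ne_zero (show (1 : F) = 0 by linear_combination -e3 + e1 + e2)
    have hk8 : Nat.card U ≤ 8 := by
      refine (AddSubgroup.card_le_of_le
        (K := (Submodule.span F ({a, u, v} : Set Vec)).toAddSubgroup) hU3).trans ?_
      rw [natCard_sub, ← hq, h2]
      exact (Nat.pow_le_pow_right (by norm_num) (finrank_span3 a u v)).trans (by norm_num)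
    have h := class_le hQ hn ha ha0 y hS hu hua (four_le_through hQ hn ha ha0
      (line_le_Us hQ hn ha y) (perp_Us hQ hn ha y) hu hv hvs hk8 (hq ▸ h2) (hS.h8 (hq ▸ h2)) hua)
    rw [val u hu hua, ← hUdef] at h
    rw [← hq, h2] at h horb
    have h3T := (hS.two h2).2
    set k := Nat.card U
    set t := (Tr Q a U).card
    have e : 4 * (t * (k - 2)) ≤ 3 * (t * k) := by
      rw [show 4 * (t * (k - 2)) = t * (4 * (k - 2)) by ring,
        show 3 * (t * k) = t * (3 * k) by ring]
      exact Nat.mul_le_mul_left _ (by omega)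
    omega
  · have h20 : (2 : F) ≠ 0 := fun h => by
      have h22 : ringChar F ∣ 2 := (ringChar.spec F 2).1 (by exact_mod_cast h)
      rw [hpq, h3] at h22
      omega
    have sq1 : ∀ s : F, s ≠ 0 → s * s = 1 := fun s hs => by
      have := FiniteField.pow_card_sub_one_eq_one s hs
      rw [← hq, h3] at this
      linear_combination this
    have hplus : u + v ∈ U ∧ u + v ∉ Ln a := ⟨U.add_mem hu hv, by simpa using out 1⟩
    have hminus : -u + v ∈ U ∧ -u + v ∉ Ln a := ⟨U.add_mem (U.neg_mem hu) hv, by simpa using out (-1)⟩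
    obtain ⟨x', hx', hxa', hne⟩ : ∃ x' ∈ U, x' ∉ Ln a ∧ Q x' ≠ Q u := by
      by_contra hcon
      push Not at hcon
      have e1 := hcon _ hv hva
      have e2 := hcon _ hplus.1 hplus.2
      have e3 := hcon _ hminus.1 hminus.2
      rw [map_add', e1] at e2 e3
      rw [QuadraticMap.map_neg, QuadraticMap.polar_neg_left] at e3
      exact hQu (by
        have h0 : (2 : F) * Q u = 0 := by linear_combination e2 + e3
        exact (mul_eq_zero.1 h0).resolve_left h20)
    have hx0 := hs _ hx' hxa'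
    refine hfin u x' hu hua hx' hxa' (fun s hs0 => by rw [sq1 s hs0, one_mul]; exact hne) ?_
    have hopp : Q x' = -Q u := by
      rcases mul_self_eq_mul_self_iff.1 ((sq1 _ hx0).trans (sq1 _ hQu).symm) with h | h
      · exact absurd h hne
      · exact h
    rw [hopp]
    rcases mul_self_eq_one_iff.1 (sq1 _ hQu) with h | h
    · rw [h]; exact (hS.three h3).2
    · rw [h, neg_neg, add_comm]; exact (hS.three h3).2

theorem ts_count {x v : Vec} (hx : x ∈ Us hQ hn y a) (hv : v ∈ Us hQ hn y a)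
    (hts : ∀ u ∈ Us hQ hn y a, Q u = 0) (hxa : x ∉ Ln a)
    (hvs : v ∉ Submodule.span F ({a, x} : Set Vec)) {L : ℕ}
    (hL : ∀ U' ∈ Tr Q a (Us hQ hn y a), x ∈ U' →
      L ≤ Nat.card ↥(U' ⊓ (Submodule.span F ({a, x} : Set Vec)).toAddSubgroup)) :
    nM Q ≤ (Tr Q a (Us hQ hn y a)).card *
      ((Nat.card (Us hQ hn y a) - Fintype.card F) * (Nat.card (Us hQ hn y a) - L)) := by
  have hxv : B x v = 0 := by
    rw [QuadraticMap.polar, hts _ (add_mem hx hv), hts x hx, hts v hv]; simp
  rw [← card_pairs hQ ha ha0 (hts x hx) (perp_Us hQ hn ha y x hx) hxa]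
  exact ts_bound hQ hn ha ha0 (line_le_Us hQ hn ha y) (perp_Us hQ hn ha y) hx hv (hts x hx)
    (hts v hv) hxv hxa hvs hL

theorem ts_case (hnl : ∀ x, ∃ v ∈ Us hQ hn y a, v ∉ Submodule.span F ({a, x} : Set Vec))
    (hts : ∀ u ∈ Us hQ hn y a, Q u = 0) :
    T ≤ (Korb (Q := Q) y a).card ∨ IsE hQ hn y a := by
  set U := Us hQ hn y a with hUdef
  set q := Fintype.card F with hq
  set D := Fintype.card ι - 2 with hD
  set O := (Korb (Q := Q) y a).card
  have hline := line_le_Us hQ hn ha y
  have horb := orb_bound hQ hn ha ha0 y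
  rw [← hUdef] at horb hline
  have hq1 : 1 < q := Fintype.one_lt_card
  obtain ⟨x, hx, hxs⟩ := hnl a
  have hxa : x ∉ Ln a := fun h => hxs (Submodule.span_mono (by simp) h)
  obtain ⟨v, hv, hvs⟩ := hnl x
  have hspan : ∀ w ∈ Submodule.span F (U : Set Vec), Q w = 0 := by
    intro w hw
    have : Q w = 0 ∧ ∀ u ∈ U, B w u = 0 := by
      induction hw using Submodule.span_induction with
      | mem u hu => exact ⟨hts u hu, fun u' hu' => by
          rw [QuadraticMap.polar, hts _ (add_mem hu hu'), hts u hu, hts u' hu']; simp⟩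
      | zero => exact ⟨by simp, fun u _ => by simp [QuadraticMap.polar]⟩
      | smul c u _ h => exact ⟨by rw [Orth.map_smul', h.1, mul_zero], fun u' hu' => by
          rw [QuadraticMap.polar_smul_left, h.2 u' hu', smul_zero]⟩
      | add u u' hu hu' h h' =>
        refine ⟨?_, fun w hw => by rw [QuadraticMap.polar_add_left, h.2 w hw, h'.2 w hw, add_zero]⟩
        have key : B u u' = 0 := by
          clear h'
          induction hu' using Submodule.span_induction with
          | mem w hw => exact h.2 w hw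
          | zero => simp [QuadraticMap.polar]
          | add p r _ _ hp hr => rw [QuadraticMap.polar_add_right, hp, hr, add_zero]
          | smul c p _ hp => rw [QuadraticMap.polar_smul_right, hp, smul_zero]
        rw [map_add', h.1, h'.1, key]; simp
    exact this.1
  have hσ := hS.hσ _ hspan
  by_cases hcl : ∀ c : F, ∀ u ∈ U, c • u ∈ U
  · have hW : U = (toSub U hcl).toAddSubgroup := rfl
    set W := toSub U hcl with hWdef
    have hWts : ∀ w ∈ W, Q w = 0 := fun w hw => hts w hw
    have hWσ := hS.hσ W hWts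
    have h3 : 3 ≤ finrank F W := by
      by_contra hlt
      have hle : Submodule.span F ({a, x} : Set Vec) ≤ W := Submodule.span_le.2 (by
        rintro t (h | h) <;> subst h
        · exact hline _ (Submodule.mem_span_singleton_self _)
        · exact hx)
      have hd2 : finrank F ↥(Submodule.span F ({a, x} : Set Vec)) = 2 := by
        have hli : LinearIndependent F ![a, x] := (LinearIndependent.pair_iff' ha0).2
          fun c hc => hxa (Submodule.mem_span_singleton.2 ⟨c, hc⟩)
        have h := finrank_span_eq_card hli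
        rwa [Fintype.card_fin, show Set.range ![a, x] = {a, x} by
          simp [Matrix.range_cons, Matrix.range_empty, Set.pair_comm]] at h
      have := Submodule.eq_of_le_of_finrank_le hle (by rw [hd2]; omega)
      exact hvs (this ▸ (show v ∈ W from hv))
    have hcount := ts_count hQ hn ha ha0 y hS hx hv hts hxa hvs (L := q ^ 2) (by
      intro U' hU' hxU'
      obtain ⟨g, hg, t, ht, hga, rfl⟩ := mem_Tr.1 hU'
      have hsm : ∀ c : F, ∀ w ∈ (Us hQ hn y a).map (sA g t⁻¹),
          c • w ∈ (Us hQ hn y a).map (sA g t⁻¹) := by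
        rintro c _ ⟨u, hu, rfl⟩
        exact ⟨c • u, hcl c u hu, by rw [sA_apply, sA_apply, map_smul, smul_comm]⟩
      have hle : (Submodule.span F ({a, x} : Set Vec)).toAddSubgroup ≤
          (Us hQ hn y a).map (sA g t⁻¹) := by
        intro w hw
        obtain ⟨α', β', rfl⟩ := Submodule.mem_span_pair.1 hw
        exact add_mem (hsm _ _ (line_le_Tr hline (mem_Tr.2 ⟨g, hg, t, ht, hga, rfl⟩) a
          (Submodule.mem_span_singleton_self a))) (hsm _ _ hxU')
      rw [inf_eq_right.2 hle, natCard_sub]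
      refine Nat.pow_le_pow_right Fintype.card_pos ?_
      have hli : LinearIndependent F ![a, x] := (LinearIndependent.pair_iff' ha0).2
          fun c hc => hxa (Submodule.mem_span_singleton.2 ⟨c, hc⟩)
      have h := finrank_span_eq_card hli
      rw [Fintype.card_fin, show Set.range ![a, x] = {a, x} by
        simp [Matrix.range_cons, Matrix.range_empty, Set.pair_comm]] at h
      omega)
    have hK : Nat.card U = q ^ finrank F W := by rw [hW, natCard_sub]
    set k := Nat.card U
    set K := q ^ σ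
    set t := (Tr Q a U).card
    set M := nM Q
    have hk2 : q ^ 3 ≤ k := hK ▸ Nat.pow_le_pow_right (by omega) h3
    have hq23 : q ^ 2 < q ^ 3 := Nat.pow_lt_pow_right hq1 (by norm_num)
    have hqq : q ≤ q ^ 2 := Nat.le_self_pow (by norm_num) q
    have hkK : k ≤ K := hK ▸ Nat.pow_le_pow_right (by omega) hWσ
    have hmono := mono_frac (show q ^ 2 ≤ k by omega) (show 1 ≤ q by omega) hkK
    have hfK : 0 < (K - q) * (K - q ^ 2) := Nat.mul_pos (by omega) (by omega)
    have key : K * M ≤ t * k * ((K - q) * (K - q ^ 2)) :=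
      calc K * M ≤ K * (t * ((k - q) * (k - q ^ 2))) := Nat.mul_le_mul_left _ hcount
        _ = t * (K * ((k - q) * (k - q ^ 2))) := by ring
        _ ≤ t * (k * ((K - q) * (K - q ^ 2))) := Nat.mul_le_mul_left _ hmono
        _ = _ := by ring
    rcases le_or_gt 4 q with h4 | h4
    · refine Or.inr ⟨h4, W, hW, hWts, h3, ?_⟩
      refine Nat.le_of_mul_le_mul_right ?_ hfK
      rw [← hq, ← hD, ← hUdef]
      refine (le_of_eq ?_).trans ((hS.ext h4).trans key)
      rw [← hq, ← hD]; ring
    · refine Or.inl (Nat.le_of_mul_le_mul_right ?_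
        (Nat.mul_pos (show 0 < q by omega) hfK))
      calc T * (q * ((K - q) * (K - q ^ 2))) = T * q * ((K - q) * (K - q ^ 2)) := by ring
        _ ≤ t * k * ((K - q) * (K - q ^ 2)) := (hS.few h4).trans key
        _ ≤ q * O * ((K - q) * (K - q ^ 2)) := Nat.mul_le_mul_right _ horb
        _ = _ := by ring
  · have h4 : 4 ≤ q := by
      by_contra h
      exact hcl fun c u hu => smul_mem_small (by omega) U c hu
    have hgap := natCard_gap (U := U) (V := (Submodule.span F (U : Set Vec)).toAddSubgroup)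
      (fun u hu => Submodule.subset_span hu) fun e => hcl fun c u hu => by
        have hm : c • u ∈ (Submodule.span F (U : Set Vec)).toAddSubgroup :=
          Submodule.smul_mem _ c (Submodule.subset_span hu)
        rwa [← e] at hm
    rw [natCard_sub] at hgap
    have hkp : Nat.card U * ringChar F ≤ q ^ σ :=
      hgap.trans (Nat.pow_le_pow_right (by omega) hσ)
    have hcount := ts_count hQ hn ha ha0 y hS hx hv hts hxa hvs (L := q) (by
      intro U' hU' _
      have hle : (Ln a).toAddSubgroup ≤ U' ⊓ (Submodule.span F ({a, x} : Set Vec)).toAddSubgroup :=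
        le_inf (line_le_Tr hline hU') (Submodule.span_mono (by simp))
      rw [hq, ← natCard_Ln ha0]
      exact AddSubgroup.card_le_of_le hle)
    set k := Nat.card U
    set t := (Tr Q a U).card
    have hk0 : 0 < k := Nat.card_pos
    have hp0 : 0 < ringChar F := (CharP.char_is_prime F (ringChar F)).pos
    refine Or.inl (Nat.le_of_mul_le_mul_right ?_
      (Nat.mul_pos (show 0 < q by omega) (Nat.mul_pos hk0 hp0)))
    calc T * (q * (k * ringChar F)) ≤ T * (q * q ^ σ) := by gcongr
      _ = T * q * q ^ σ := by ring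
      _ ≤ ringChar F * nM Q := hS.proper h4
      _ ≤ ringChar F * (t * ((k - q) * (k - q))) := Nat.mul_le_mul_left _ hcount
      _ ≤ ringChar F * (t * (k * k)) := by gcongr <;> exact Nat.sub_le k q
      _ = (t * k) * (k * ringChar F) := by ring
      _ ≤ (q * O) * (k * ringChar F) := Nat.mul_le_mul_right _ horb
      _ = _ := by ring

/-- The trichotomy. -/
theorem classify (hF : ∃ x ∈ Us hQ hn y a, x ∉ Ln a) (hA : ¬ IsA hQ hn y a) :
    T ≤ Fintype.card α ∨ IsL hQ hn y a ∨ IsE hQ hn y a := by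
  by_cases hL : IsL hQ hn y a
  · exact Or.inr (Or.inl hL)
  have hnl : ∀ x, ∃ v ∈ Us hQ hn y a, v ∉ Submodule.span F ({a, x} : Set Vec) := by
    intro x
    by_contra hcon
    push Not at hcon
    obtain ⟨x₀, hx₀, hxa⟩ := hF
    refine hL ⟨x₀, hx₀, hxa, fun u hu => ?_⟩
    obtain ⟨p, r, hpr⟩ := Submodule.mem_span_pair.1 (hcon x₀ hx₀)
    have hr : r ≠ 0 := fun h => hxa (by
      rw [← hpr, h, zero_smul, add_zero]
      exact Submodule.smul_mem _ p (Submodule.mem_span_singleton_self a))
    obtain ⟨p', r', hpr'⟩ := Submodule.mem_span_pair.1 (hcon u hu)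
    refine Submodule.mem_span_pair.2 ⟨p' - r' / r * p, r' / r, ?_⟩
    rw [← hpr, ← hpr']
    match_scalars <;> field_simp <;> ring
  have hle : (Korb (Q := Q) y a).card ≤ Fintype.card α := Finset.card_le_univ _
  obtain ⟨z, hz, hza⟩ : ∃ z ∈ Xs hQ hn y a, z ∉ Ln a := by
    simpa [IsA] using hA
  by_cases hsm : ∃ x, ∀ w ∈ Xs hQ hn y a, w ∈ Submodule.span F ({a, x} : Set Vec)
  · obtain ⟨x, hx⟩ := hsm
    exact Or.inl ((small_bound hQ hn ha ha0 y hS hx hz hza).trans hle)
  have hp : ∀ u ∈ Us hQ hn y a, u ∉ Ln a →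
      ringChar F ≤ ((Tr Q a (Us hQ hn y a)).filter (u ∈ ·)).card := by
    intro u hu _
    obtain ⟨v, hv, hvs⟩ := hnl u
    rcases through_or_small hQ hn ha ha0 (line_le_Us hQ hn ha y) (perp_Us hQ hn ha y) hu hv hvs with h | h
    · exact h
    · exact absurd ⟨u, fun w hw => h w (by rwa [Us, ann_ann hQ])⟩ hsm
  by_cases hts : ∀ u ∈ Us hQ hn y a, Q u = 0
  · rcases ts_case hQ hn ha ha0 y hS hnl hts with h | h
    · exact Or.inl (h.trans hle)
    · exact Or.inr (Or.inr h)
  · push Not at hts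
    obtain ⟨u, hu, hQu⟩ := hts
    exact Or.inl ((nonsing_case hQ hn ha ha0 y hS hnl hp hu hQu).trans hle)

end Cfsg.Agent.Classical.OrthMinIndex
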