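import Cfsg.Agent.Lib.Classical.OrthMinIndex.Linear

/-!
# Counting vectors of a given value
-/

set_option autoImplicit false
set_option linter.unusedSectionVars false
set_option linter.unusedSimpArgs false

namespace Cfsg.Agent.Classical.OrthMinIndex

open Cfsg.Agent.Forms Cfsg.Agent.Forms.QuadStd Cfsg.Agent.Forms.Reflections
open Cfsg.Agent.Classical.Orth Module

open scoped _root_.Classical

variable {F : Type*} [Field F] [Fintype F] {ι : Type} [Fintype ι] [DecidableEq ι]
variable {Q : QuadraticForm F (ι → F)}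

local notation "Vec" => (ι → F)
local notation "B" => QuadraticMap.polar Q

/-- The number of vectors of value `c` in a subspace. -/
noncomputable def cnt (Q : QuadraticForm F (ι → F)) (S : Submodule F (ι → F)) (c : F) : ℕ :=
  Nat.card {x : ι → F // x ∈ S ∧ Q x = c}

section pair

variable {S : Submodule F (ι → F)} {e f : ι → F} (he : e ∈ S) (hf : f ∈ S) (hp : IsPair Q e f)
include he hf hp

theorem proj_mem_inf (x : Vec) (hx : x ∈ S) : proj Q e f x ∈ S ⊓ sperp Q {e, f} :=
  ⟨proj_mem he hf hx, mem_sperp2.2 ⟨by rw [QuadraticMap.polar_comm]; exact (proj_perp hp x).1,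
    by rw [QuadraticMap.polar_comm]; exact (proj_perp hp x).2⟩⟩

omit he hf in
theorem value_comb {γ : Vec} (hγ : γ ∈ sperp Q {e, f}) (α β : F) :
    Q (α • e + β • f + γ) = α * β + Q γ ∧ B (α • e + β • f + γ) e = β ∧
      B (α • e + β • f + γ) f = α ∧ proj Q e f (α • e + β • f + γ) = γ := by
  obtain ⟨h1, h2⟩ := mem_sperp2.1 hγ
  have e1 : B (α • e + β • f + γ) e = β := by
    simp [QuadraticMap.polar_add_left, QuadraticMap.polar_smul_left, polar_self_zero hp.hu, hp.hvu,
      QuadraticMap.polar_comm _ γ e, h1]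
  have e2 : B (α • e + β • f + γ) f = α := by
    simp [QuadraticMap.polar_add_left, QuadraticMap.polar_smul_left, polar_self_zero hp.hv, hp.huv,
      QuadraticMap.polar_comm _ γ f, h2]
  refine ⟨?_, e1, e2, ?_⟩
  · rw [map_add', pair_value hp]
    simp [QuadraticMap.polar_add_left, QuadraticMap.polar_smul_left, h1, h2]
  · rw [proj, e1, e2]; module

theorem value_eq (x : Vec) (hx : x ∈ S) : Q x = B x f * B x e + Q (proj Q e f x) := by
  have := (value_comb hp (proj_mem_inf he hf hp x hx).2 (B x f) (B x e)).1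
  rwa [← proj_add] at this

theorem natCard_pair : Nat.card S = Fintype.card F ^ 2 * Nat.card ↥(S ⊓ sperp Q {e, f}) := by
  rw [sq, ← Nat.card_eq_fintype_card, ← Nat.card_prod, ← Nat.card_prod]
  refine Nat.card_congr
    { toFun := fun x => ((B x.1 f, B x.1 e), ⟨_, proj_mem_inf he hf hp x.1 x.2⟩)
      invFun := fun p => ⟨p.1.1 • e + p.1.2 • f + p.2.1,
        S.add_mem (S.add_mem (S.smul_mem _ he) (S.smul_mem _ hf)) p.2.2.1⟩
      left_inv := fun x => Subtype.ext (proj_add (Q := Q) e f x.1).symm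
      right_inv := fun p => by
        obtain ⟨-, h1, h2, h3⟩ := value_comb hp p.2.2.2 p.1.1 p.1.2
        refine Prod.ext (Prod.ext ?_ ?_) (Subtype.ext ?_) <;> assumption }

theorem cnt_off (c : F) :
    cnt Q S c = (Fintype.card F - 1) * Nat.card ↥(S ⊓ sperp Q {e, f}) + cnt Q (S ⊓ sperp Q {e}) c := by
  rw [cnt, cnt]
  have h : Nat.card {x : Vec // x ∈ S ∧ Q x = c} =
      Nat.card {x : {x : Vec // x ∈ S ∧ Q x = c} // B x.1 e ≠ 0} +
        Nat.card {x : {x : Vec // x ∈ S ∧ Q x = c} // ¬ B x.1 e ≠ 0} := by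
    rw [← Nat.card_sum]
    exact Nat.card_congr (Equiv.sumCompl _).symm
  rw [h]
  congr 1
  · have hu : Nat.card {β : F // β ≠ 0} = Fintype.card F - 1 := by
      rw [Nat.card_eq_fintype_card, Fintype.card_subtype_compl, Fintype.card_subtype_eq]
    rw [← hu, ← Nat.card_prod]
    refine Nat.card_congr
      { toFun := fun x => (⟨B x.1.1 e, x.2⟩, ⟨_, proj_mem_inf he hf hp x.1.1 x.1.2.1⟩)
        invFun := fun p => ⟨⟨((c - Q p.2.1) / p.1.1) • e + p.1.1 • f + p.2.1,
          S.add_mem (S.add_mem (S.smul_mem _ he) (S.smul_mem _ hf)) p.2.2.1, by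
            rw [(value_comb hp p.2.2.2 _ _).1, div_mul_cancel₀ _ p.1.2, sub_add_cancel]⟩, by
            show B _ e ≠ 0
            rw [(value_comb hp p.2.2.2 _ _).2.1]; exact p.1.2⟩
        left_inv := fun x => ?_
        right_inv := fun p => ?_ }
    · refine Subtype.ext (Subtype.ext ?_)
      show ((c - Q (proj Q e f x.1.1)) / B x.1.1 e) • e + B x.1.1 e • f + proj Q e f x.1.1 = x.1.1
      have := value_eq he hf hp x.1.1 x.1.2.1
      rw [x.1.2.2] at this
      have e1 : (c - Q (proj Q e f x.1.1)) / B x.1.1 e = B x.1.1 f := by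
        rw [div_eq_iff x.2]; linear_combination this
      rw [e1, ← proj_add]
    · obtain ⟨-, h1, -, h3⟩ := value_comb hp p.2.2.2 ((c - Q p.2.1) / p.1.1) p.1.1
      exact Prod.ext (Subtype.ext h1) (Subtype.ext h3)
  · refine Nat.card_congr
      { toFun := fun x => ⟨x.1.1, ⟨x.1.2.1, mem_sperp1.2 (by
          rw [QuadraticMap.polar_comm]; exact not_not.1 x.2)⟩, x.1.2.2⟩
        invFun := fun x => ⟨⟨x.1, x.2.1.1, x.2.2⟩, not_not.2 (by
          rw [QuadraticMap.polar_comm]; exact mem_sperp1.1 x.2.1.2)⟩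
        left_inv := fun x => rfl
        right_inv := fun x => rfl }

theorem cnt_perp (c : F) :
    cnt Q (S ⊓ sperp Q {e}) c = Fintype.card F * cnt Q (S ⊓ sperp Q {e, f}) c := by
  rw [cnt, cnt, ← Nat.card_eq_fintype_card, ← Nat.card_prod]
  have hβ : ∀ x ∈ S ⊓ sperp Q {e}, B x e = 0 := fun x hx => by
    rw [QuadraticMap.polar_comm]; exact mem_sperp1.1 hx.2
  refine Nat.card_congr
    { toFun := fun x => (B x.1 f, ⟨_, proj_mem_inf he hf hp x.1 x.2.1.1, by
        have := value_eq he hf hp x.1 x.2.1.1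
        rw [hβ x.1 x.2.1, mul_zero, zero_add] at this
        rw [← this]; exact x.2.2⟩)
      invFun := fun p => ⟨p.1 • e + (0 : F) • f + p.2.1,
        ⟨S.add_mem (S.add_mem (S.smul_mem _ he) (S.smul_mem _ hf)) p.2.2.1.1, mem_sperp1.2 (by
          rw [QuadraticMap.polar_comm]; exact (value_comb hp p.2.2.1.2 _ _).2.1)⟩, by
          rw [(value_comb hp p.2.2.1.2 _ _).1, mul_zero, zero_add]; exact p.2.2.2⟩
      left_inv := fun x => Subtype.ext ?_
      right_inv := fun p => ?_ }
  · show B x.1 f • e + (0 : F) • f + proj Q e f x.1 = x.1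
    rw [← hβ x.1 x.2.1, ← proj_add]
  · obtain ⟨-, -, h2, h3⟩ := value_comb hp p.2.2.1.2 p.1 0
    exact Prod.ext h2 (Subtype.ext h3)

end pair

variable (hQ : (QuadraticMap.polarBilin Q).Nondegenerate)
include hQ

theorem exists_partner_top {a : Vec} (ha : Q a = 0) (ha0 : a ≠ 0) : ∃ f, IsPair Q a f := by
  obtain ⟨y, hy⟩ := Max.Orth.exists_ne hQ ha0
  obtain ⟨f, -, hf, haf⟩ := Max.Orth.exists_partner_in (S := ⊤) (Submodule.mem_top (x := a))
    (Submodule.mem_top (x := y)) ha hy
  exact ⟨f, ha, hf, haf⟩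

/-- The count in the complement of a singular vector. -/
theorem cnt_a {a : Vec} (ha : Q a = 0) (ha0 : a ≠ 0) (c : F) :
    cnt Q ⊤ c = (Fintype.card F - 1) * Fintype.card F ^ (Fintype.card ι - 2) + cnt Q (sperp Q {a}) c := by
  obtain ⟨f, hp⟩ := exists_partner_top hQ ha ha0
  have h := cnt_off (S := ⊤) trivial trivial hp c
  rw [top_inf_eq, top_inf_eq] at h
  have h2 := natCard_pair (Q := Q) (S := ⊤) trivial trivial hp
  rw [top_inf_eq, Module.natCard_eq_pow_finrank (K := F), finrank_top,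
    Module.finrank_fintype_fun_eq_card, Nat.card_eq_fintype_card] at h2
  have hn : 2 ≤ Fintype.card ι := by
    by_contra hlt
    have : 0 < Nat.card ↥(sperp Q {a, f}) := Nat.card_pos
    have h3 : Fintype.card F ^ Fintype.card ι < Fintype.card F ^ 2 := Nat.pow_lt_pow_right Fintype.one_lt_card (by omega)
    have h4 : Fintype.card F ^ 2 ≤ Fintype.card F ^ 2 * Nat.card ↥(sperp Q {a, f}) := Nat.le_mul_of_pos_right _ this
    omega
  rw [show Fintype.card ι = 2 + (Fintype.card ι - 2) by omega, pow_add] at h2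
  rwa [← Nat.eq_of_mul_eq_mul_left (pow_pos Fintype.card_pos 2) h2] at h

theorem natCard_sperp1 {a : Vec} (ha0 : a ≠ 0) :
    Nat.card ↥(sperp Q {a}) = Fintype.card F ^ (Fintype.card ι - 1) := by
  rw [Module.natCard_eq_pow_finrank (K := F), Nat.card_eq_fintype_card]
  congr 1
  have := Max.Orth.finrank_perp hQ (Submodule.span F {a})
  rw [finrank_span_singleton ha0] at this
  show finrank F ↥(Max.Orth.perp Q _) = _
  omega

/-- The count in the complement of two orthogonal singular vectors. -/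
theorem cnt_ax {a x : Vec} (ha0 : a ≠ 0) (hx : Q x = 0) (hax : B a x = 0)
    (hxa : x ∉ Submodule.span F ({a} : Set Vec)) :
    cnt Q (sperp Q {a}) 0 =
      (Fintype.card F - 1) * Fintype.card F ^ (Fintype.card ι - 3) + cnt Q (sperp Q {a, x}) 0 := by
  obtain ⟨y, hy, hxy⟩ := exists_sperp_ne hQ hxa
  have hxS : x ∈ sperp Q {a} := mem_sperp1.2 hax
  obtain ⟨f, hfS, hf, hxf⟩ := Max.Orth.exists_partner_in hxS hy hx hxy
  have hp : IsPair Q x f := ⟨hx, hf, hxf⟩
  have h := cnt_off hxS hfS hp 0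
  have h2 := natCard_pair hxS hfS hp
  rw [natCard_sperp1 hQ ha0] at h2
  have e : sperp Q {a} ⊓ sperp Q {x} = sperp Q {a, x} := by
    ext z; simp only [Submodule.mem_inf]; rw [mem_sperp1, mem_sperp1, mem_sperp2]
  rw [e] at h
  have hn : 3 ≤ Fintype.card ι := by
    by_contra hlt
    have : 0 < Nat.card ↥(sperp Q {a} ⊓ sperp Q {x, f}) := Nat.card_pos
    have h3 : Fintype.card F ^ (Fintype.card ι - 1) < Fintype.card F ^ 2 := Nat.pow_lt_pow_right Fintype.one_lt_card (by omega)
    have h4 := Nat.le_mul_of_pos_right (Fintype.card F ^ 2) this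
    omega
  rw [show Fintype.card ι - 1 = 2 + (Fintype.card ι - 3) by omega, pow_add] at h2
  rwa [← Nat.eq_of_mul_eq_mul_left (pow_pos Fintype.card_pos 2) h2] at h

omit hQ

theorem cnt_scale (S : Submodule F Vec) {s : F} (hs : s ≠ 0) (c : F) :
    cnt Q S (s * s * c) = cnt Q S c := by
  refine Nat.card_congr
    { toFun := fun x => ⟨s⁻¹ • x.1, S.smul_mem _ x.2.1, by
        rw [map_smul', x.2.2]; field_simp⟩
      invFun := fun x => ⟨s • x.1, S.smul_mem _ x.2.1, by rw [map_smul', x.2.2]⟩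
      left_inv := fun x => Subtype.ext (by simp [smul_smul, mul_inv_cancel₀ hs])
      right_inv := fun x => Subtype.ext (by simp [smul_smul, inv_mul_cancel₀ hs]) }

/-- The non-zero squares. -/
noncomputable def sqs (F : Type*) [Field F] [Fintype F] : Finset F :=
  (Finset.univ.filter fun s : F => s ≠ 0).image fun s => s * s

theorem two_mul_sqs : Fintype.card F - 1 ≤ 2 * (sqs F).card ∧ ((2 : F) = 0 → (sqs F).card = Fintype.card F - 1) := by
  have hc : (Finset.univ.filter fun s : F => s ≠ 0).card = Fintype.card F - 1 := by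
    rw [Finset.filter_ne', Finset.card_erase_of_mem (Finset.mem_univ _), Finset.card_univ]
  refine ⟨?_, fun h2 => ?_⟩
  · rw [← hc]
    refine Finset.card_le_mul_card_image _ 2 fun v hv => ?_
    obtain ⟨s, -, rfl⟩ := Finset.mem_image.1 hv
    refine (Finset.card_le_card (fun t ht => ?_)).trans (Finset.card_le_two (a := s) (b := -s))
    simp only [Finset.mem_filter] at ht
    simpa using mul_self_eq_mul_self_iff.1 ht.2
  · rw [sqs, Finset.card_image_of_injective, hc]
    intro s t hst
    rcases mul_self_eq_mul_self_iff.1 hst with e | e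
    · exact e
    · rw [e]; linear_combination (-t) * h2

/-- The vectors of `S` with values in a square class. -/
noncomputable def cls (Q : QuadraticForm F (ι → F)) (S : Submodule F (ι → F)) (c : F) :
    Finset (ι → F) :=
  Finset.univ.filter fun x => x ∈ S ∧ ∃ s : F, s ≠ 0 ∧ Q x = s * s * c

theorem card_cls (S : Submodule F Vec) {c : F} (hc : c ≠ 0) :
    (cls Q S c).card = (sqs F).card * cnt Q S c := by
  rw [Finset.card_eq_sum_card_fiberwise (f := fun x => Q x / c) (t := sqs F) fun x hx => by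
    obtain ⟨s, hs, hsx⟩ := (Finset.mem_filter.1 hx).2.2
    show Q x / c ∈ sqs F
    rw [hsx, mul_div_assoc, div_self hc, mul_one]
    exact Finset.mem_image.2 ⟨s, by simp [hs], rfl⟩]
  rw [Finset.sum_const_nat]
  intro v hv
  obtain ⟨s, hs, rfl⟩ := Finset.mem_image.1 hv
  simp only [Finset.mem_filter, Finset.mem_univ, true_and] at hs
  rw [← cnt_scale S hs c, cnt, Nat.card_eq_fintype_card, Fintype.card_subtype]
  congr 1
  ext x
  simp only [cls, Finset.mem_filter, Finset.mem_univ, true_and]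
  constructor
  · rintro ⟨⟨hx, -⟩, e⟩
    exact ⟨hx, by rw [← e, div_mul_cancel₀ _ hc]⟩
  · rintro ⟨hx, e⟩
    exact ⟨⟨hx, s, hs, e⟩, by rw [e, mul_div_assoc, div_self hc, mul_one]⟩

theorem cls_zero_card (S : Submodule F Vec) : (cls Q S 0).card = cnt Q S 0 := by
  rw [cnt, Nat.card_eq_fintype_card, Fintype.card_subtype]
  congr 1
  ext x
  simp only [cls, Finset.mem_filter, Finset.mem_univ, true_and, mul_zero]
  exact ⟨fun h => ⟨h.1, h.2.choose_spec.2⟩, fun h => ⟨h.1, 1, one_ne_zero, h.2⟩⟩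

end Cfsg.Agent.Classical.OrthMinIndex
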