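import Mathlib
import Cfsg.Agent.Lib.Forms.Max.OrthBase
import Cfsg.Agent.Lib.Classical.OmegaTrans

/-!
# Eichler transformations as a total function
-/

set_option autoImplicit false
set_option linter.unusedSectionVars false
set_option linter.unusedSimpArgs false

namespace Cfsg.Agent.Classical.OrthMinIndex

open Cfsg.Agent.Forms Cfsg.Agent.Forms.QuadStd Cfsg.Agent.Forms.Reflections
open Cfsg.Agent.Classical.Orth

variable {F : Type*} [Field F] {ι : Type} [Fintype ι] [DecidableEq ι]
variable {Q : QuadraticForm F (ι → F)}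

local notation "Vec" => (ι → F)
local notation "B" => QuadraticMap.polar Q

open scoped _root_.Classical in
/-- The Eichler transformation, extended by the identity. -/
noncomputable def Ei (Q : QuadraticForm F (ι → F)) (a w : ι → F) : Cfsg.isometryGroup F ⇑Q :=
  if h : Q a = 0 ∧ QuadraticMap.polar Q a w = 0 then eich a w h.1 h.2 else 1

theorem Ei_eq {a w : Vec} (ha : Q a = 0) (hw : B a w = 0) : Ei Q a w = eich a w ha hw := by
  rw [Ei, dif_pos ⟨ha, hw⟩]

theorem act_Ei {a w : Vec} (ha : Q a = 0) (hw : B a w = 0) (x : Vec) :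
    act (Ei Q a w) x = x + B x a • w - B x w • a - (Q w * B x a) • a := by
  rw [Ei_eq ha hw, act_eich]

theorem act_Ei_self {a w : Vec} (ha : Q a = 0) (hw : B a w = 0) : act (Ei Q a w) a = a := by
  rw [Ei_eq ha hw, act_eich_self]

theorem act_Ei_fix {a w x : Vec} (ha : Q a = 0) (hw : B a w = 0) (hxa : B x a = 0)
    (hxw : B x w = 0) : act (Ei Q a w) x = x := by
  rw [Ei_eq ha hw, act_eich_fix ha hw hxa hxw]

theorem act_Ei_perp {a w x : Vec} (ha : Q a = 0) (hw : B a w = 0) (hxa : B x a = 0) :
    act (Ei Q a w) x = x - B x w • a := by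
  rw [act_Ei ha hw, hxa]; simp

theorem Ei_mul {a w w' : Vec} (ha : Q a = 0) (hw : B a w = 0) (hw' : B a w' = 0) :
    Ei Q a w * Ei Q a w' = Ei Q a (w + w') := by
  rw [Ei_eq ha hw, Ei_eq ha hw',
    Ei_eq ha (by rw [QuadraticMap.polar_add_right, hw, hw', add_zero]), eich_mul]

theorem Ei_zero (a : Vec) : Ei Q a 0 = 1 := by
  rw [Ei]
  split_ifs with h
  · exact eich_zero_right h.1 h.2
  · rfl

theorem Ei_inv {a w : Vec} (ha : Q a = 0) (hw : B a w = 0) : (Ei Q a w)⁻¹ = Ei Q a (-w) :=
  inv_eq_of_mul_eq_one_right (by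
    rw [Ei_mul ha hw (by rw [QuadraticMap.polar_neg_right, hw, neg_zero]), add_neg_cancel, Ei_zero])

theorem Ei_conj (g : Cfsg.isometryGroup F ⇑Q) (a w : Vec) :
    g * Ei Q a w * g⁻¹ = Ei Q (act g a) (act g w) := by
  by_cases h : Q a = 0 ∧ B a w = 0
  · rw [Ei_eq h.1 h.2, eich_conj, Ei_eq]
  · rw [Ei, dif_neg h, Ei, dif_neg (by rwa [act_map, act_polar])]
    group

theorem Ei_smul {a w : Vec} (t : F) (ha : Q a = 0) (hw : B a w = 0) :
    Ei Q (t • a) w = Ei Q a (t • w) := by
  rw [Ei_eq (by rw [map_smul', ha, mul_zero]) (by rw [QuadraticMap.polar_smul_left, hw, smul_zero]),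
    Ei_eq ha (by rw [QuadraticMap.polar_smul_right, hw, smul_zero]), eich_smul]

theorem Ei_add_self {a w : Vec} (s : F) (ha : Q a = 0) (hw : B a w = 0) :
    Ei Q a (w + s • a) = Ei Q a w := by
  have hs : B a (w + s • a) = 0 := by
    rw [QuadraticMap.polar_add_right, hw, QuadraticMap.polar_smul_right, polar_self_zero ha]; simp
  refine act_ext fun x => ?_
  rw [act_Ei ha hs, act_Ei ha hw]
  simp only [QuadraticMap.polar_add_right, QuadraticMap.polar_smul_right, map_add', map_smul', ha,
    QuadraticMap.polar_comm _ w a, hw, smul_eq_mul]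
  module

theorem Ei_smul_self {a : Vec} (s : F) (ha : Q a = 0) : Ei Q a (s • a) = 1 := by
  rw [← zero_add (s • a), Ei_add_self s ha (by simp [QuadraticMap.polar]), Ei_zero]

theorem Ei_swap {a b : Vec} (ha : Q a = 0) (hb : Q b = 0) (hab : B a b = 0) :
    Ei Q a b = Ei Q b (-a) := by
  refine act_ext fun x => ?_
  rw [act_Ei ha hab, act_Ei hb (by rw [QuadraticMap.polar_neg_right, QuadraticMap.polar_comm, hab,
    neg_zero]), hb, QuadraticMap.map_neg, ha, QuadraticMap.polar_neg_right]
  module

/-- A product of two root elements on a common vector as a single root element. -/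
theorem Ei_comb {a z w : Vec} (α β : F) (ha : Q a = 0) (hz : Q z = 0) (haz : B a z = 0)
    (haw : B a w = 0) (hzw : B z w = 0) :
    Ei Q a (α • z + β • w) * Ei Q z w = Ei Q (z + β • a) (w + (-α - β * Q w) • a) := by
  have h1 : B a (α • z + β • w) = 0 := by
    simp [QuadraticMap.polar_add_right, QuadraticMap.polar_smul_right, haz, haw]
  have h2 : Q (z + β • a) = 0 := by
    simp [map_add', map_smul', ha, hz, QuadraticMap.polar_smul_right, QuadraticMap.polar_comm _ z a, haz]
  have h3 : B (z + β • a) (w + (-α - β * Q w) • a) = 0 := by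
    simp [QuadraticMap.polar_add_left, QuadraticMap.polar_add_right, QuadraticMap.polar_smul_left,
      QuadraticMap.polar_smul_right, QuadraticMap.polar_comm _ z a, haz, haw, hzw, polar_self_zero ha]
  refine act_ext fun x => ?_
  rw [act_mul, act_Ei hz hzw, act_Ei ha h1, act_Ei h2 h3]
  simp only [map_add', map_smul', ha, hz, QuadraticMap.polar_add_left, QuadraticMap.polar_add_right,
    QuadraticMap.polar_sub_left, QuadraticMap.polar_smul_left, QuadraticMap.polar_smul_right,
    QuadraticMap.polar_comm _ z a, QuadraticMap.polar_comm _ w a, QuadraticMap.polar_comm _ w z,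
    haz, haw, hzw, polar_self' w, polar_self_zero hz, polar_self_zero ha, smul_eq_mul]
  module

variable [Fintype F]

theorem Ei_omega (hQ : (QuadraticMap.polarBilin Q).Nondegenerate) (hn : 5 ≤ Fintype.card ι)
    (a w : Vec) : Ei Q a w ∈ Cfsg.Omega F ⇑Q := by
  rw [Ei]
  split_ifs with h
  · exact Max.Orth.eich_omega hQ hn h.1 h.2
  · exact one_mem _

end Cfsg.Agent.Classical.OrthMinIndex
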