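import Cfsg.Agent.Lib.Classical.OrthMinIndex.Witness
import Cfsg.Agent.Lib.Classical.OrthMinIndex.Build
import Cfsg.Agent.Lib.Classical.OrthMinIndex.Arith
import Cfsg.Agent.Lib.Classical.QuadClass

/-!
# The three families
-/

set_option autoImplicit false
set_option linter.unusedSectionVars false
set_option linter.unusedSimpArgs false

namespace Cfsg.Agent.Classical.OrthMinIndex

open Cfsg.Agent.Forms Cfsg.Agent.Forms.QuadStd Cfsg.Agent.Forms.PlusStd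
open Cfsg.Agent.Classical.Orth Cfsg.Agent.Classical.OrthCount Cfsg.Agent.Classical.OrthForms Module

open scoped _root_.Classical

variable {F : Type*} [Field F] [Fintype F] {q : ℕ} (hF : Fintype.card F = q)

theorem two_mul_le {ι : Type} [Fintype ι] [DecidableEq ι] {Q : QuadraticForm F (ι → F)}
    (hQ : (QuadraticMap.polarBilin Q).Nondegenerate) {n : ℕ} (hn : Fintype.card ι ≤ 2 * n + 1)
    (W : Submodule F (ι → F)) (hW : ∀ v ∈ W, Q v = 0) : finrank F W ≤ n := by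
  have := Max.Orth.finrank_sing_le hQ hW
  omega

section plus

variable {m : ℕ} (hm : 4 ≤ m)
include hF hm

theorem card_plus : Fintype.card (Fin m ⊕ Fin m) = 2 * m := by simp [two_mul]

theorem plus_counts : ∃ Y, q ^ (m - 2) = Y ∧ (Y = q ^ 2 ∨ q ^ 3 ≤ Y) ∧
    q ^ (2 * m - 2) = q ^ 2 * Y ^ 2 ∧ q ^ (2 * m - 3) = q * Y ^ 2 ∧ q ^ m = q ^ 2 * Y ∧
    q ^ (m - 1) = q * Y ∧
    cnt (plusQ F m) ⊤ 0 + q * Y = q ^ 3 * Y ^ 2 + q ^ 2 * Y ∧
    ∀ c : F, c ≠ 0 → cnt (plusQ F m) ⊤ c + q * Y = q ^ 3 * Y ^ 2 := by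
  obtain ⟨r, rfl⟩ : ∃ r, m = r + 2 := ⟨m - 2, by omega⟩
  have hq : 1 < q := hF ▸ Fintype.one_lt_card
  refine ⟨q ^ r, by rw [Nat.add_sub_cancel], ?_, ?_, ?_, by ring, ?_, ?_, fun c hc => ?_⟩
  · rcases Nat.lt_or_ge r 3 with h | h
    · exact Or.inl (by rw [show r = 2 by omega])
    · exact Or.inr (Nat.pow_le_pow_right (by omega) h)
  · rw [show 2 * (r + 2) - 2 = 2 * r + 2 by omega]; ring
  · rw [show 2 * (r + 2) - 3 = 2 * r + 1 by omega]; ring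
  · rw [show r + 2 - 1 = r + 1 by omega]; ring
  · rw [cnt_top_zero]
    have h := cast_zeros_plus hF (r + 2)
    refine Nat.eq_of_mul_eq_mul_left (show 0 < q by omega) ?_
    rw [← Nat.cast_inj (R := ℤ)]
    push_cast
    linear_combination h
  · rw [cnt_top]
    have h := vals_plus_eq hF (r + 2) hc
    refine Nat.eq_of_mul_eq_mul_left (show 0 < q by omega) ?_
    rw [mul_add, ← mul_assoc q q, show q * q * q ^ r = q ^ (r + 2) by ring, h]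
    ring

theorem spec_plus {T : ℕ} (hT4 : 4 ≤ q → (q - 1) * T + 1 = cnt (plusQ F m) ⊤ 0)
    (hT2' : q = 2 → T = 2 ^ (m - 1) * (2 ^ m - 1)) (h3 : q ≠ 3) :
    Spec (plusQ F m) T (Pts (plusQ F m)).card m := by
  obtain ⟨Y, -, hY, eE, eD, eK, eM, hz, hzc⟩ := plus_counts hF hm
  have hq : 1 < q := hF ▸ Fintype.one_lt_card
  have hY4 : q ^ 2 ≤ Y := hY.elim (fun h => h.ge) fun h =>
    (Nat.pow_le_pow_right (by omega) (by norm_num : 2 ≤ 3)).trans h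
  have hY0 : 4 ≤ Y := le_trans (by nlinarith) hY4
  have key := pred_mul_add (show 1 ≤ q by omega)
  have hq2 : q * q * 4 ≤ q * q * Y := Nat.mul_le_mul_left _ hY0
  obtain ⟨A, hA⟩ : ∃ A, A + q * Y = q ^ 2 * Y ^ 2 :=
    ⟨q ^ 2 * Y ^ 2 - q * Y, Nat.sub_add_cancel (by nlinarith)⟩
  obtain ⟨A₀, hA₀⟩ : ∃ A₀, A₀ + q * Y + q = q ^ 2 * Y ^ 2 + q ^ 2 * Y :=
    ⟨q ^ 2 * Y ^ 2 + q ^ 2 * Y - q - q * Y, by
      have : q * Y + q ≤ q ^ 2 * Y ^ 2 + q ^ 2 * Y := by nlinarith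
      omega⟩
  obtain ⟨P, hP⟩ : ∃ P, P + q * Y + q ^ 2 = q * Y ^ 2 + q ^ 2 * Y :=
    ⟨q * Y ^ 2 + q ^ 2 * Y - q ^ 2 - q * Y, by
      have : q * Y + q ^ 2 ≤ q * Y ^ 2 + q ^ 2 * Y := by nlinarith
      omega⟩
  have eT2 : q = 2 → T + 2 * Y = 8 * Y ^ 2 := fun h2 => by
    subst h2
    rw [hT2' rfl, eM, eK]
    zify [show 1 ≤ 2 ^ 2 * Y by omega]
    ring
  have hT : T * (q - 1) + 1 ≤ cnt (plusQ F m) ⊤ 0 := by
    rcases le_or_gt 4 q with h4 | h4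
    · rw [mul_comm]; exact (hT4 h4).le
    · have h2 : q = 2 := by omega
      have := eT2 h2
      subst h2
      omega
  have hT2 : T ≤ 2 * (q ^ 2 * Y ^ 2) := by
    rcases le_or_gt 4 q with h4 | h4
    · have h := hT4 h4
      refine Nat.le_of_mul_le_mul_left ?_ (show 0 < q - 1 by omega)
      nlinarith [key (2 * (q ^ 2 * Y ^ 2)), Nat.mul_le_mul_left (q * q * Y) hY4,
        Nat.mul_le_mul_right (q * q * Y * Y) h4]
    · have h2 : q = 2 := by omega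
      have := eT2 h2
      subst h2
      omega
  refine spec_of (D := 2 * m - 2) (A := A) (A₀ := A₀) (P := P) hF
    (by rw [card_plus hF hm]; omega) (by omega) (by omega) (by omega)
    (fun W hW => two_mul_le (plusQ_nondeg F m) (by rw [card_plus hF hm]; omega) W hW) hT
    (by rw [eE]; exact hT2) (fun c hc => ?_) ?_ ?_ ⟨?_, ?_⟩ (fun h4 => ?_) (fun h4 => ?_)
    (fun h => absurd h h3) (fun h2 => ?_)
  · have := hzc c hc
    rw [eE]; nlinarith [key (q ^ 2 * Y ^ 2)]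
  · rw [eE]; nlinarith [key (q ^ 2 * Y ^ 2)]
  · rw [eE, show 2 * m - 2 - 1 = 2 * m - 3 by omega, eD]
    nlinarith [key (q ^ 2 * Y ^ 2), key (q * Y ^ 2)]
  · nlinarith
  · nlinarith
  · obtain ⟨h1, h2, h5, h6, h7⟩ := plus_four h4 hY hz (hT4 h4) hT2 hA hA₀ hP
    rw [eE, eK]
    exact ⟨h1, h2, h5.trans (Nat.mul_le_mul_right _ (char_sqs hF).2.1), h6, fun _ => h7⟩
  · have h2 : q = 2 := by omega
    subst h2
    norm_num at hA hA₀ hP
    obtain ⟨h1, h2, -, h5⟩ := plus_two hY0 (eT2 rfl) hA hA₀ hP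
    rw [eE, eK]
    norm_num
    exact ⟨h1, h2, h5⟩
  · subst h2
    norm_num at hA hA₀ hP
    exact (plus_two hY0 (eT2 rfl) hA hA₀ hP).2.2.1

end plus

section minus

variable {k : ℕ} (hk : 3 ≤ k) {a b : F}
  (hab : ∀ z₁ z₂ : F, z₁ ^ 2 + a * z₁ * z₂ + b * z₂ ^ 2 = 0 → z₁ = 0 ∧ z₂ = 0)
include hF hk

theorem card_min : Fintype.card ((Fin k ⊕ Fin k) ⊕ Fin 2) = 2 * k + 2 := by simp [two_mul]

include hab

theorem min_counts : ∃ Y, q ^ 2 ≤ Y ∧ q ^ (2 * k) = q ^ 2 * Y ^ 2 ∧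
    q ^ (2 * k - 1) = q * Y ^ 2 ∧ q ^ k = q * Y ∧ q ^ (k + 1) = q ^ 2 * Y ∧
    cnt (minQ F k a b) ⊤ 0 + q ^ 2 * Y = q ^ 3 * Y ^ 2 + q * Y ∧
    ∀ c : F, c ≠ 0 → cnt (minQ F k a b) ⊤ c = q ^ 3 * Y ^ 2 + q * Y := by
  obtain ⟨r, rfl⟩ : ∃ r, k = r + 1 := ⟨k - 1, by omega⟩
  have hq : 1 < q := hF ▸ Fintype.one_lt_card
  refine ⟨q ^ r, Nat.pow_le_pow_right (by omega) (by omega), by ring, ?_, by ring, by ring, ?_,
    fun c hc => ?_⟩
  · rw [show 2 * (r + 1) - 1 = 2 * r + 1 by omega]; ring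
  · rw [cnt_top_zero]
    have h := cast_zeros_min hF (r + 1) hab
    refine Nat.eq_of_mul_eq_mul_left (show 0 < q by omega) ?_
    rw [← Nat.cast_inj (R := ℤ)]
    push_cast
    linear_combination h
  · rw [cnt_top]
    have h := vals_min_eq hF (r + 1) hab hc
    refine Nat.eq_of_mul_eq_mul_left (show 0 < q by omega) ?_
    rw [h]
    ring

theorem spec_min {T : ℕ} (hT : (q - 1) * T + 1 = cnt (minQ F k a b) ⊤ 0) :
    Spec (minQ F k a b) T (Pts (minQ F k a b)).card k := by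
  obtain ⟨Y, hY, eE, eD, eK, -, hz, hzc⟩ := min_counts hF hk hab
  have hq : 1 < q := hF ▸ Fintype.one_lt_card
  have hY0 : 4 ≤ Y := le_trans (by nlinarith) hY
  have key := pred_mul_add (show 1 ≤ q by omega)
  have hq2 : q * q * 4 ≤ q * q * Y := Nat.mul_le_mul_left _ hY0
  obtain ⟨A₀, hA₀⟩ : ∃ A₀, A₀ + q ^ 2 * Y + q = q ^ 2 * Y ^ 2 + q * Y :=
    ⟨q ^ 2 * Y ^ 2 + q * Y - q - q ^ 2 * Y, by
      have : q ^ 2 * Y + q ≤ q ^ 2 * Y ^ 2 + q * Y := by nlinarith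
      omega⟩
  obtain ⟨P, hP⟩ : ∃ P, P + q ^ 2 * Y + q ^ 2 = q * Y ^ 2 + q * Y :=
    ⟨q * Y ^ 2 + q * Y - q ^ 2 - q ^ 2 * Y, by
      have : q ^ 2 * Y + q ^ 2 ≤ q * Y ^ 2 + q * Y := by nlinarith
      omega⟩
  obtain ⟨h0, -⟩ := minus_low (by omega) hY hA₀ hP
  set A := q ^ 2 * Y ^ 2 + q * Y with hA
  have hT2 : T ≤ 2 * (q ^ 2 * Y ^ 2) := by
    refine Nat.le_of_mul_le_mul_left ?_ (show 0 < q - 1 by omega)
    nlinarith [key (2 * (q ^ 2 * Y ^ 2)), Nat.mul_le_mul_right (q * q * Y * Y) hq,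
      Nat.mul_le_mul_right (q * Y) hq]
  have eT : q = 3 → 2 * T + 9 * Y + 1 = 27 * Y ^ 2 + 3 * Y := fun h => by
    subst h; omega
  have eT2 : q = 2 → T + 4 * Y + 1 = 8 * Y ^ 2 + 2 * Y := fun h => by
    subst h; omega
  refine spec_of (D := 2 * k) (A := A) (A₀ := A₀) (P := P) hF
    (card_min hF hk) (by omega) (by omega) (by omega)
    (fun W hW => QuadClass.finrank_le_of_minus hab W hW) (by rw [mul_comm]; exact hT.le)
    (by rw [eE]; exact hT2) (fun c hc => ?_) ?_ ?_ ⟨?_, ?_⟩ (fun h4 => ?_) (fun h4 => ?_)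
    (fun h3 => ?_) (fun h2 => ?_)
  · rw [hzc c hc, eE, hA]; nlinarith [key (q ^ 2 * Y ^ 2)]
  · rw [eE]; nlinarith [key (q ^ 2 * Y ^ 2)]
  · rw [eE, eD]
    nlinarith [key (q ^ 2 * Y ^ 2), key (q * Y ^ 2)]
  · nlinarith
  · nlinarith
  · obtain ⟨h1, h2, h5, h6⟩ := minus_four h4 hY hz hT hT2 hA hA₀ hP
    rw [eE, eK]
    exact ⟨h1, h2, h5.trans (Nat.mul_le_mul_right _ (char_sqs hF).2.1), h6,
      fun h => absurd h (by omega)⟩
  · rcases (show q = 2 ∨ q = 3 by omega) with rfl | rfl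
    · norm_num at hA hA₀ hP
      obtain ⟨h1, h2, -, h5⟩ := minus_two hY0 (eT2 rfl) hA hA₀ hP
      rw [eE, eK]
      norm_num
      exact ⟨h1, h2, h5⟩
    · norm_num at hA hA₀ hP
      obtain ⟨h1, h2, -, h5⟩ := minus_three (le_trans (by norm_num) hY) (eT rfl) hA hA₀ hP
      rw [eE, eK]
      norm_num
      exact ⟨h1, h2, h5⟩
  · subst h3
    norm_num at hA hA₀ hP
    rw [eE, hzc 1 one_ne_zero, hzc _ (neg_ne_zero.2 one_ne_zero)]
    have h := (minus_three (le_trans (by norm_num) hY) (eT rfl) hA hA₀ hP).2.2.1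
    omega
  · subst h2
    norm_num at hA hA₀ hP
    exact (minus_two hY0 (eT2 rfl) hA hA₀ hP).2.2.1

end minus

section odd

variable {m : ℕ} (hm : 3 ≤ m) (ho : Odd q)
include hF hm

theorem card_odd : Fintype.card (Unit ⊕ (Fin m ⊕ Fin m)) = 2 * m + 1 := by simp; omega

include ho

theorem odd_counts : ∃ Y, q ^ 2 ≤ Y ∧ q ^ (2 * m - 1) = q * Y ^ 2 ∧
    q ^ (2 * m - 2) = Y ^ 2 ∧ q ^ m = q * Y ∧
    cnt (oddQ F m) ⊤ 0 = q ^ 2 * Y ^ 2 ∧
    ∀ c : F, cnt (oddQ F m) ⊤ c + q * Y =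
      q ^ 2 * Y ^ 2 + q * Y * vals ⇑(oddQ F 0) c := by
  obtain ⟨r, rfl⟩ : ∃ r, m = r + 1 := ⟨m - 1, by omega⟩
  have hq : 1 < q := hF ▸ Fintype.one_lt_card
  have h2 : (2 : F) ≠ 0 := two_ne_zero_of_odd (hF ▸ ho)
  refine ⟨q ^ r, Nat.pow_le_pow_right (by omega) (by omega), ?_, ?_, by ring, ?_, fun c => ?_⟩
  · rw [show 2 * (r + 1) - 1 = 2 * r + 1 by omega]; ring
  · rw [show 2 * (r + 1) - 2 = 2 * r by omega]; ring
  · rw [cnt_top_zero, zeros_odd hF h2]; ring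
  · rw [cnt_top]
    have h := vals_odd_eq hF (r + 1) c
    refine Nat.eq_of_mul_eq_mul_left (show 0 < q by omega) ?_
    rw [mul_add, ← mul_assoc q q, show q * q * q ^ r = q ^ (r + 1 + 1) by ring, h]
    ring

theorem spec_odd {T : ℕ} (hT5 : 5 ≤ q → (q - 1) * T + 1 = cnt (oddQ F m) ⊤ 0)
    (hT3 : q = 3 → T = 3 ^ m * (3 ^ m - 1) / 2) :
    Spec (oddQ F m) T (Pts (oddQ F m)).card m := by
  obtain ⟨Y, hY, eE, eD, eK, hz, hzc⟩ := odd_counts hF hm ho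
  have hq : 1 < q := hF ▸ Fintype.one_lt_card
  have hq3 : 3 ≤ q := by obtain ⟨j, rfl⟩ := ho; omega
  have hq5 : q ≠ 3 → 5 ≤ q := fun h => by obtain ⟨j, rfl⟩ := ho; omega
  have h2 : (2 : F) ≠ 0 := two_ne_zero_of_odd (hF ▸ ho)
  have hY0 : 9 ≤ Y := le_trans (by nlinarith) hY
  have key := pred_mul_add (show 1 ≤ q by omega)
  have hqY : q * 9 ≤ q * Y := Nat.mul_le_mul_left _ hY0
  obtain ⟨A, hA⟩ : ∃ A, A + q * Y = q * Y ^ 2 :=
    ⟨q * Y ^ 2 - q * Y, Nat.sub_add_cancel (by nlinarith)⟩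
  obtain ⟨A₀, hA₀⟩ : ∃ A₀, A₀ + q = q * Y ^ 2 :=
    ⟨q * Y ^ 2 - q, Nat.sub_add_cancel (by nlinarith)⟩
  obtain ⟨P, hP⟩ : ∃ P, P + q ^ 2 = Y ^ 2 :=
    ⟨Y ^ 2 - q ^ 2, Nat.sub_add_cancel (by nlinarith)⟩
  have eT : q = 3 → 2 * T + 3 * Y = 9 * Y ^ 2 := fun h => by
    subst h
    rw [hT3 rfl, eK]
    have hdvd : 2 ∣ 3 * Y * (3 * Y - 1) := by
      obtain ⟨s, hs⟩ : Odd (3 * Y) := by rw [← eK]; exact Odd.pow (by decide)
      rw [hs, Nat.add_sub_cancel]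
      exact Dvd.dvd.mul_left (dvd_mul_right 2 s) _
    rw [Nat.mul_div_cancel' hdvd]
    zify [show 1 ≤ 3 * Y by omega]
    ring
  have hT : T * (q - 1) + 1 ≤ cnt (oddQ F m) ⊤ 0 := by
    by_cases h : q = 3
    · have := eT h
      subst h
      omega
    · rw [mul_comm]; exact (hT5 (hq5 h)).le
  have hT2 : T ≤ 2 * (q * Y ^ 2) := by
    by_cases h : q = 3
    · have := eT h
      subst h
      omega
    · have h' := hT5 (hq5 h)
      refine Nat.le_of_mul_le_mul_left ?_ (show 0 < q - 1 by omega)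
      nlinarith [key (2 * (q * Y ^ 2)), Nat.mul_le_mul_right (q * Y * Y) hq3]
  refine spec_of (D := 2 * m - 1) (A := A) (A₀ := A₀) (P := P) hF
    (by rw [card_odd hF hm]; omega) (by omega) (by omega) (by omega)
    (fun W hW => two_mul_le (oddQ_nondeg h2 m) (by rw [card_odd hF hm]) W hW) hT
    (by rw [eE]; exact hT2) (fun c hc => ?_) ?_ ?_ ⟨?_, ?_⟩ (fun h4 => ?_) (fun h4 => ?_)
    (fun h3 => ?_) (fun h => absurd h (by omega))
  · have := hzc c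
    rw [eE]; nlinarith [key (q * Y ^ 2)]
  · rw [eE]; nlinarith [key (q * Y ^ 2)]
  · rw [eE, show 2 * m - 1 - 1 = 2 * m - 2 by omega, eD]
    nlinarith [key (q * Y ^ 2), key (Y ^ 2)]
  · nlinarith
  · nlinarith
  · have h5 : 5 ≤ q := hq5 (by omega)
    obtain ⟨h1, h2', h6, h7⟩ := odd_five h5 hY (by rw [← hz]; exact hT5 h5) hT2 hA hA₀ hP
    rw [eE, eK]
    exact ⟨h1, h2', h6.trans (Nat.mul_le_mul_right _ ((char_sqs hF).2.2.1 ho)), h7,
      fun h => absurd h (by omega)⟩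
  · have h3 : q = 3 := by omega
    subst h3
    norm_num at hA hA₀ hP
    obtain ⟨h1, h2', -, h5⟩ := odd_three hY0 (eT rfl) hA hA₀ hP
    rw [eE, eK]
    norm_num
    exact ⟨h1, h2', h5⟩
  · subst h3
    norm_num at hA hA₀ hP
    have h := (odd_three hY0 (eT rfl) hA hA₀ hP).2.2.1
    have e1 := hzc 1
    have e2 := hzc (-1)
    have h1 : 2 ≤ vals ⇑(oddQ F 0) 1 := vals_odd_zero_pos hF (mul_one 1) fun h' => h2 (by
      linear_combination h')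
    have := Nat.mul_le_mul_left (3 * Y) h1
    rw [eE]
    norm_num at e1 e2
    omega

end odd

end Cfsg.Agent.Classical.OrthMinIndex
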