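import Cfsg.Agent.Lib.Classical.OrthMinIndex.Action
import Cfsg.Agent.Lib.Classical.OrthForms

/-!
# Lifting elements of the stabiliser of a singular point
-/

set_option autoImplicit false
set_option linter.unusedSectionVars false
set_option linter.unusedSimpArgs false
set_option maxHeartbeats 800000

namespace Cfsg.Agent.Classical.OrthMinIndex

open Cfsg.Agent.Forms Cfsg.Agent.Forms.QuadStd Cfsg.Agent.Forms.Reflections
open Cfsg.Agent.Classical.Orth Cfsg.Agent.Classical.OmegaCrit Module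

open scoped _root_.Classical

variable {F : Type*} [Field F] [Fintype F] {ι : Type} [Fintype ι] [DecidableEq ι]
variable {Q : QuadraticForm F (ι → F)}

local notation "Vec" => (ι → F)
local notation "B" => QuadraticMap.polar Q

section values

variable (hQ : (QuadraticMap.polarBilin Q).Nondegenerate)
include hQ

theorem rad_bot {S : Submodule F Vec} (hS : ∀ y ∈ S, (∀ s ∈ S, B s y = 0) → y = 0) :
    finrank F ↥(Max.Orth.perp Q S ⊓ Max.Orth.perp Q (Max.Orth.perp Q S)) = 0 := by
  rw [Max.Orth.perp_perp hQ, Submodule.finrank_eq_zero, eq_bot_iff]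
  exact fun y hy => (Submodule.mem_bot F).2 (hS y hy.2 (Max.Orth.mem_perp.1 hy.1))

/-- Values in the complement of a non-degenerate subspace. -/
theorem exists_value_nd (h2 : (2 : F) ≠ 0) {S : Submodule F Vec}
    (hS : ∀ y ∈ S, (∀ s ∈ S, B s y = 0) → y = 0) (h : finrank F S + 2 ≤ Fintype.card ι) {c : F}
    (hc : c ≠ 0) : ∃ y ∈ Max.Orth.perp Q S, Q y = c := by
  obtain ⟨R, hR, hnd, hd, -⟩ := exists_compl (Q := Q) (Max.Orth.perp Q S)
  rw [rad_bot hQ hS] at hd
  have := Max.Orth.finrank_perp hQ S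
  have hn : Bases.NondegOn (polB Q) R := fun r hr h0 => by
    by_contra hr0
    obtain ⟨t, ht, hrt⟩ := hnd r hr hr0
    exact hrt (h0 t ht)
  obtain ⟨y, hy, hy'⟩ := exists_value_on h2 hn (by omega) hc
  exact ⟨y, hR hy, hy'⟩

theorem exists_nonsing_nd {S : Submodule F Vec}
    (hS : ∀ y ∈ S, (∀ s ∈ S, B s y = 0) → y = 0) (h : finrank F S < Fintype.card ι) :
    ∃ y ∈ Max.Orth.perp Q S, Q y ≠ 0 := by
  by_contra hcon
  push Not at hcon
  have h1 := Max.Orth.finrank_perp hQ S
  have h0 : Max.Orth.perp Q S = ⊥ := by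
    refine eq_bot_iff.2 fun y hy => (Submodule.mem_bot F).2 ?_
    have h3 : y ∈ Max.Orth.perp Q (Max.Orth.perp Q S) :=
      Max.Orth.mem_perp.2 fun w hw => Max.Orth.polar_of_sing hcon hw hy
    rw [Max.Orth.perp_perp hQ] at h3
    exact hS y h3 (Max.Orth.mem_perp.1 hy)
  rw [h0, finrank_bot] at h1
  omega

end values

theorem span_eq_sperp (hQ : (QuadraticMap.polarBilin Q).Nondegenerate) (hn : 7 ≤ Fintype.card ι)
    {a a' z z' w₀ x₁ x₂ : Vec} (h2 : (2 : F) ≠ 0) (h7 : Fintype.card ι = 7)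
    (hpa : IsPair Q a a') (hpz : IsPair Q z z') (haz : B a z = 0) (ha'z : B a' z = 0)
    (haz' : B a z' = 0) (ha'w : B a' w₀ = 0) (haw : B a w₀ = 0) (hzw : B z w₀ = 0)
    (hz'w : B z' w₀ = 0) (hw₀ : Q w₀ ≠ 0) (hQ₁ : Q x₁ = 1) (hQ₂ : Q x₂ = 1) (h12 : B x₁ x₂ = 0)
    (g1 : B a x₁ = 0 ∧ B a' x₁ = 0 ∧ B z x₁ = 0 ∧ B z' x₁ = 0)
    (g2 : B a x₂ = 0 ∧ B a' x₂ = 0 ∧ B z x₂ = 0 ∧ B z' x₂ = 0)
    (gw1 : B x₁ w₀ = 0) (gw2 : B x₂ w₀ = 0) :
    Submodule.span F ({a, z, x₁, x₂} : Set Vec) = sperp Q {a, z, w₀} := by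
  have ha := hpa.hu
  have hsub : Submodule.span F ({a, z, x₁, x₂} : Set Vec) ≤ sperp Q {a, z, w₀} := by
    rw [Submodule.span_le]
    rintro t (rfl | rfl | rfl | rfl) <;> refine mem_sperp3.2 ⟨?_, ?_, ?_⟩
    · exact polar_self_zero ha
    · rw [QuadraticMap.polar_comm]; exact haz
    · rw [QuadraticMap.polar_comm]; exact haw
    · exact haz
    · exact polar_self_zero hpz.hu
    · rw [QuadraticMap.polar_comm]; exact hzw
    · exact g1.1
    · exact g1.2.2.1
    · rw [QuadraticMap.polar_comm]; exact gw1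
    · exact g2.1
    · exact g2.2.2.1
    · rw [QuadraticMap.polar_comm]; exact gw2
  refine Submodule.eq_of_le_of_finrank_le hsub ?_
  have hli : LinearIndependent F ![a, z, x₁, x₂] := by
    rw [Fintype.linearIndependent_iff]
    intro c hc
    simp only [Fin.sum_univ_four, Matrix.cons_val] at hc
    have e1 := congrArg (polB Q a') hc
    have e2 := congrArg (polB Q z') hc
    have e3 := congrArg (polB Q x₁) hc
    have e4 := congrArg (polB Q x₂) hc
    have f1 : B z' a = 0 := by rw [QuadraticMap.polar_comm]; exact haz'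
    have f2 : B x₁ a = 0 := by rw [QuadraticMap.polar_comm]; exact g1.1
    have f3 : B x₁ z = 0 := by rw [QuadraticMap.polar_comm]; exact g1.2.2.1
    have f4 : B x₂ a = 0 := by rw [QuadraticMap.polar_comm]; exact g2.1
    have f5 : B x₂ z = 0 := by rw [QuadraticMap.polar_comm]; exact g2.2.2.1
    have f6 : B x₂ x₁ = 0 := by rw [QuadraticMap.polar_comm]; exact h12
    simp only [map_add, map_smul, map_zero, polB_apply, smul_eq_mul, hpa.hvu, hpz.hvu, ha'z, f1, f2,
      f3, f4, f5, f6, g1.2.1, g1.2.2.2, g2.2.1, g2.2.2.2, h12, polar_self', hQ₁, hQ₂, mul_zero,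
      add_zero, zero_add, mul_one, mul_eq_zero, h2, or_false] at e1 e2 e3 e4
    intro i
    fin_cases i <;> simp_all
  have h4' := finrank_span_eq_card hli
  rw [show Set.range ![a, z, x₁, x₂] = {a, z, x₁, x₂} by
    ext t; simp [Fin.exists_fin_succ, eq_comm]; tauto, Fintype.card_fin] at h4'
  have hli3 : LinearIndependent F ![a, z, w₀] := by
    rw [Fintype.linearIndependent_iff]
    intro c hc
    simp only [Fin.sum_univ_three, Matrix.cons_val] at hc
    have e1 := congrArg (polB Q a') hc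
    have e2 := congrArg (polB Q z') hc
    have e3 := congrArg (polB Q w₀) hc
    have f1 : B z' a = 0 := by rw [QuadraticMap.polar_comm]; exact haz'
    have f2 : B w₀ a = 0 := by rw [QuadraticMap.polar_comm]; exact haw
    have f3 : B w₀ z = 0 := by rw [QuadraticMap.polar_comm]; exact hzw
    simp only [map_add, map_smul, map_zero, polB_apply, smul_eq_mul, hpa.hvu, hpz.hvu, ha'z, f1, f2,
      f3, ha'w, hz'w, polar_self', mul_zero, add_zero, zero_add, mul_one, mul_eq_zero, h2, hw₀,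
      or_false] at e1 e2 e3
    intro i
    fin_cases i <;> assumption
  have h3' := finrank_span_eq_card hli3
  rw [show Set.range ![a, z, w₀] = {a, z, w₀} by
    ext t; simp [Fin.exists_fin_succ, eq_comm]; tauto, Fintype.card_fin] at h3'
  have hp := Max.Orth.finrank_perp hQ (Submodule.span F ({a, z, w₀} : Set Vec))
  rw [h4']
  show finrank F ↥(Max.Orth.perp Q _) ≤ 4
  omega


theorem span_frame_nd {a a' z z' : Vec} (h2 : (2 : F) ≠ 0) (hpa : IsPair Q a a') (hpz : IsPair Q z z')
    (haz : B a z = 0) (ha'z : B a' z = 0) (haz' : B a z' = 0) (ha'z' : B a' z' = 0) :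
    ∀ (s : List Vec), (∀ t ∈ s, Q t ≠ 0 ∧ B a t = 0 ∧ B a' t = 0 ∧ B z t = 0 ∧ B z' t = 0) →
      s.Pairwise (fun t t' => B t t' = 0) →
      (∀ p ∈ Submodule.span F ({a, a', z, z'} ∪ {t | t ∈ s} : Set Vec),
        (∀ r ∈ Submodule.span F ({a, a', z, z'} ∪ {t | t ∈ s} : Set Vec), B r p = 0) → p = 0) ∧
      finrank F ↥(Submodule.span F ({a, a', z, z'} ∪ {t | t ∈ s} : Set Vec)) ≤ 4 + s.length := by
  have ha := hpa.hu
  intro s
  induction s with
  | nil =>
    intro _ _
    rw [show ({a, a', z, z'} ∪ {t | t ∈ ([] : List Vec)} : Set Vec) = {a, a', z, z'} by ext t; simp]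
    refine ⟨fun p hp h => ?_, ?_⟩
    · rw [Submodule.mem_span_insert] at hp
      obtain ⟨c₁, r₁, hr₁, rfl⟩ := hp
      rw [Submodule.mem_span_insert] at hr₁
      obtain ⟨c₂, r₂, hr₂, rfl⟩ := hr₁
      rw [Submodule.mem_span_pair] at hr₂
      obtain ⟨c₃, c₄, rfl⟩ := hr₂
      have e1 := h a (Submodule.subset_span (by simp))
      have e2 := h a' (Submodule.subset_span (by simp))
      have e3 := h z (Submodule.subset_span (by simp))
      have e4 := h z' (Submodule.subset_span (by simp))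
      have f1 : B z a = 0 := by rw [QuadraticMap.polar_comm]; exact haz
      have f2 : B z a' = 0 := by rw [QuadraticMap.polar_comm]; exact ha'z
      have f3 : B z' a = 0 := by rw [QuadraticMap.polar_comm]; exact haz'
      have f4 : B z' a' = 0 := by rw [QuadraticMap.polar_comm]; exact ha'z'
      simp only [QuadraticMap.polar_add_right, QuadraticMap.polar_smul_right, polar_self_zero ha,
        polar_self_zero hpa.hv, polar_self_zero hpz.hu, polar_self_zero hpz.hv, hpa.huv, hpa.hvu,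
        hpz.huv, hpz.hvu, haz, ha'z, haz', ha'z', f1, f2, f3, f4, smul_eq_mul, mul_zero, mul_one,
        zero_add, add_zero] at e1 e2 e3 e4
      simp [e1, e2, e3, e4]
    · exact (finrank_span_insert a _).trans (Nat.add_le_add_right (finrank_span3 a' z z') 1)
  | cons t s ih =>
    intro hs hpw
    rw [List.pairwise_cons] at hpw
    obtain ⟨ihn, ihd⟩ := ih (fun t' ht' => hs t' (List.mem_cons_of_mem _ ht')) hpw.2
    have e : ({a, a', z, z'} ∪ {t' | t' ∈ t :: s} : Set Vec) =
        insert t ({a, a', z, z'} ∪ {t' | t' ∈ s}) := by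
      ext t'; simp only [List.mem_cons, Set.mem_union, Set.mem_insert_iff, Set.mem_setOf_eq]; tauto
    rw [e]
    refine ⟨fun p hp h => ?_, ?_⟩
    · obtain ⟨hQt, hat, ha't, hzt, hz't⟩ := hs t (List.mem_cons_self ..)
      have horth : ∀ r ∈ Submodule.span F ({a, a', z, z'} ∪ {t' | t' ∈ s} : Set Vec), B t r = 0 := by
        intro r hr
        induction hr using Submodule.span_induction with
        | mem r hr =>
          rcases hr with (rfl | rfl | rfl | rfl) | hr
          · rw [QuadraticMap.polar_comm]; exact hat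
          · rw [QuadraticMap.polar_comm]; exact ha't
          · rw [QuadraticMap.polar_comm]; exact hzt
          · rw [QuadraticMap.polar_comm]; exact hz't
          · exact hpw.1 r hr
        | zero => simp [QuadraticMap.polar]
        | add u u' _ _ h1 h2 => rw [QuadraticMap.polar_add_right, h1, h2, add_zero]
        | smul c u _ h1 => rw [QuadraticMap.polar_smul_right, h1, smul_zero]
      obtain ⟨c, r, hr, rfl⟩ := Submodule.mem_span_insert.1 hp
      have hc := h t (Submodule.subset_span (Set.mem_insert _ _))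
      rw [QuadraticMap.polar_add_right, horth r hr, QuadraticMap.polar_smul_right, polar_self',
        add_zero, smul_eq_mul, mul_eq_zero] at hc
      have hc0 : c = 0 := hc.resolve_right (mul_ne_zero h2 hQt)
      subst hc0
      rw [zero_smul, zero_add]
      refine ihn r hr fun r' hr' => ?_
      have := h r' (Submodule.span_mono (Set.subset_insert _ _) hr')
      rwa [zero_smul, zero_add] at this
    · exact (finrank_span_insert t _).trans (by rw [List.length_cons]; omega)


variable {α : Type*} [Fintype α] [MulAction (Cfsg.Omega F ⇑Q) α]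
variable (hQ : (QuadraticMap.polarBilin Q).Nondegenerate) (hn : 7 ≤ Fintype.card ι)
variable {a : ι → F} (ha : Q a = 0) (ha0 : a ≠ 0) {y : α}

theorem scl_conj (g : Cfsg.isometryGroup F ⇑Q) (e f : Vec) (t : F) :
    g * scl Q e f t * g⁻¹ = scl Q (act g e) (act g f) t := by
  rw [scl, scl, ← map_smul, ← map_sub, ← map_sub, ← Spinor.reflect_conj g, ← Spinor.reflect_conj g]
  group

include ha in
/-- A scaling fixing `y`. -/
theorem exists_fixing_scl {t : F} (ht0 : t ≠ 0) (ht1 : t ≠ 1) (hts : IsSquare t) {f : Vec}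
    (hf : IsPair Q a f)
    (hl : ∃ w, B a w = 0 ∧
      el hQ hn a w • (⟨scl Q a f t, scl_omega hQ hn hf ht0 hts⟩ : Cfsg.Omega F ⇑Q) • y = y) :
    ∃ (f' : Vec) (hf' : IsPair Q a f'),
      (⟨scl Q a f' t, scl_omega hQ hn hf' ht0 hts⟩ : Cfsg.Omega F ⇑Q) • y = y := by
  obtain ⟨w₀, hw₀, hfix⟩ := hl
  set c := (1 - t)⁻¹ • w₀ with hc
  have hac : B a c = 0 := by rw [hc, QuadraticMap.polar_smul_right, hw₀, smul_zero]
  set E := Ei Q a c
  have hEa : act E a = a := act_Ei_self ha hac
  have hp : IsPair Q a (act E f) :=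
    ⟨ha, by rw [act_map, hf.hv], by
      calc B a (act E f) = B (act E a) (act E f) := by rw [hEa]
        _ = 1 := by rw [act_polar, hf.huv]⟩
  refine ⟨act E f, hp, ?_⟩
  have e : (⟨scl Q a (act E f) t, scl_omega hQ hn hp ht0 hts⟩ : Cfsg.Omega F ⇑Q) =
      el hQ hn a w₀ * ⟨scl Q a f t, scl_omega hQ hn hf ht0 hts⟩ := by
    refine Subtype.ext ?_
    show scl Q a (act E f) t = Ei Q a w₀ * scl Q a f t
    have h1 : scl Q a (act E f) t = E * scl Q a f t * E⁻¹ := by
      rw [scl_conj, hEa]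
    set k := (t - 1) * B f (-c)
    have h3 : scl Q a f t * Ei Q a (-c) * (scl Q a f t)⁻¹ = Ei Q a (t • (-c)) := by
      have hτc : act (scl Q a f t) (-c) = -c + k • a := by
        rw [act_scl hf ht0, QuadraticMap.polar_neg_right (x := a), hac]
        simp [k]
      have hkc : B a (-c + k • a) = 0 := by
        simp [QuadraticMap.polar_add_right, QuadraticMap.polar_neg_right,
          QuadraticMap.polar_smul_right, hac, polar_self_zero ha]
      rw [Ei_conj, act_scl_left hf ht0, hτc, Ei_smul t ha hkc, smul_add, smul_smul,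
        Ei_add_self _ ha (by simp [QuadraticMap.polar_smul_right, QuadraticMap.polar_neg_right, hac])]
    rw [h1, Ei_inv ha hac]
    calc E * scl Q a f t * Ei Q a (-c)
        = E * (scl Q a f t * Ei Q a (-c) * (scl Q a f t)⁻¹) * scl Q a f t := by group
      _ = _ := by
          rw [h3, Ei_mul ha hac
            (by simp [QuadraticMap.polar_smul_right, QuadraticMap.polar_neg_right, hac])]
          congr 2
          have h1t : (1 : F) - t ≠ 0 := sub_ne_zero.2 (Ne.symm ht1)
          rw [hc, smul_neg, smul_smul, ← neg_smul, ← add_smul]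
          rw [show (1 - t)⁻¹ + -(t * (1 - t)⁻¹) = 1 by field_simp; ring, one_smul]
  rw [e, mul_smul, hfix]

include ha in
/-- Commuting with a fixing scaling kills the radical part of a lift. -/
theorem scl_lift {t : F} (ht0 : t ≠ 0) (hts : IsSquare t) {f : Vec} (hf : IsPair Q a f)
    (hτ : (⟨scl Q a f t, scl_omega hQ hn hf ht0 hts⟩ : Cfsg.Omega F ⇑Q) • y = y)
    {b w w' : Vec} (hab : B a b = 0) (hfb : B f b = 0)
    (haw : B a w = 0) (hfw : B f w = 0) (haw' : B a w' = 0)
    (hlift : el hQ hn a w' • el hQ hn b w • y = y) :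
    (t - 1) • w' ∈ Xs hQ hn y a := by
  set τ : Cfsg.Omega F ⇑Q := ⟨scl Q a f t, scl_omega hQ hn hf ht0 hts⟩
  have e1 : τ * el hQ hn b w * τ⁻¹ = el hQ hn b w := by
    rw [el_conj]
    show el hQ hn (act (scl Q a f t) b) (act (scl Q a f t) w) = _
    rw [act_scl_fix hf ht0 hab hfb, act_scl_fix hf ht0 haw hfw]
  have htw : B a (t • w') = 0 := by rw [QuadraticMap.polar_smul_right, haw', smul_zero]
  have e2 : τ * el hQ hn a w' * τ⁻¹ = el hQ hn a (t • w') := by
    refine Subtype.ext ?_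
    show scl Q a f t * Ei Q a w' * (scl Q a f t)⁻¹ = Ei Q a (t • w')
    rw [Ei_conj, act_scl_left hf ht0, act_scl hf ht0, haw', mul_zero, zero_smul, add_zero,
      Ei_smul t ha (by simp [QuadraticMap.polar_add_right, QuadraticMap.polar_smul_right, haw',
        polar_self_zero ha]),
      smul_add, smul_smul, Ei_add_self _ ha htw]
  have h2 : el hQ hn a (t • w') • el hQ hn b w • y = y := by
    rw [← e1, ← e2, ← mul_smul,
      show τ * el hQ hn a w' * τ⁻¹ * (τ * el hQ hn b w * τ⁻¹) =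
        τ * (el hQ hn a w' * el hQ hn b w) * τ⁻¹ by group,
      mul_smul, mul_smul, inv_smul_eq_iff.2 hτ.symm, mul_smul, hlift, hτ]
  have hd : B a ((t - 1) • w') = 0 := by rw [QuadraticMap.polar_smul_right, haw', smul_zero]
  refine (mem_Xs hQ hn ha).2 ⟨hd, ?_⟩
  conv_lhs => rw [← hlift, ← mul_smul, el_mul hQ hn ha hd haw']
  rw [show (t - 1) • w' + w' = t • w' by module, h2]

theorem exists_square_ne (h4 : 4 ≤ Fintype.card F) : ∃ t : F, t ≠ 0 ∧ t ≠ 1 ∧ IsSquare t := by
  obtain ⟨s, -, hs⟩ := Finset.exists_mem_notMem_of_card_lt_card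
    (s := ({0, 1, -1} : Finset F)) (t := Finset.univ)
    (by rw [Finset.card_univ]; exact lt_of_le_of_lt Finset.card_le_three (by omega))
  simp only [Finset.mem_insert, Finset.mem_singleton, not_or] at hs
  exact ⟨s * s, mul_ne_zero hs.1 hs.1,
    fun h => (mul_self_eq_one_iff.1 h).elim hs.2.1 hs.2.2, s, rfl⟩

section regular

/- All stabilisers of the radicals are trivial and one radical is transitive. -/
variable (hA : ∀ (z : α) (b : ι → F), Q b = 0 → b ≠ 0 → ∀ w ∈ Xs hQ hn z b, w ∈ Ln b)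
  (htr : ∀ z : α, ∃ w, QuadraticMap.polar Q a w = 0 ∧ el hQ hn a w • y = z)

include ha ha0 htr in
theorem lift_exists (g : Cfsg.Omega F ⇑Q) :
    ∃ u, B a u = 0 ∧ el hQ hn a u • g • y = y := by
  obtain ⟨w, hw, he⟩ := htr (g • y)
  exact ⟨-w, by rw [QuadraticMap.polar_neg_right, hw, neg_zero],
    by rw [← he, ← el_inv hQ hn ha hw, inv_smul_smul]⟩

include ha ha0 hA htr in
theorem regular_large (h4 : 4 ≤ Fintype.card F) : False := by
  obtain ⟨t, ht0, ht1, hts⟩ := exists_square_ne (F := F) h4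
  obtain ⟨f₀, hf₀⟩ := exists_partner_top hQ ha ha0
  obtain ⟨f, hf, hτ⟩ := exists_fixing_scl hQ hn ha ht0 ht1 hts hf₀
    (lift_exists hQ hn ha ha0 htr _)
  obtain ⟨b, hb, hQb, -, hb0⟩ := exists_sing_out hQ (Submodule.span F ({a, f} : Set Vec))
    (by have := finrank_span2 (F := F) a f; omega)
  obtain ⟨hab, hfb⟩ := mem_sperp2.1 hb
  obtain ⟨w, hw, hwb⟩ : ∃ w ∈ sperp Q {a, f, b}, w ∉ Ln b := SetLike.not_le_iff_exists.1 fun hle => by
    have h1 := Submodule.finrank_mono hle
    have h2 := Max.Orth.finrank_perp hQ (Submodule.span F ({a, f, b} : Set Vec))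
    have := finrank_span3 (F := F) a f b
    rw [finrank_span_singleton hb0] at h1
    change finrank F ↥(Max.Orth.perp Q _) ≤ _ at h1
    omega
  obtain ⟨haw, hfw, hbw⟩ := mem_sperp3.1 hw
  obtain ⟨w', haw', hl⟩ := lift_exists hQ hn ha ha0 htr (el hQ hn b w)
  have h := hA y a ha ha0 _ (scl_lift hQ hn ha ht0 hts hf hτ hab hfb haw hfw haw' hl)
  have hw' : w' ∈ Ln a := by
    have h' := Submodule.smul_mem _ (t - 1)⁻¹ h
    rwa [smul_smul, inv_mul_cancel₀ (sub_ne_zero.2 ht1), one_smul] at h'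
  obtain ⟨k, rfl⟩ := Submodule.mem_span_singleton.1 hw'
  rw [show el hQ hn a (k • a) = 1 from Subtype.ext (Ei_smul_self k ha), one_smul] at hl
  exact hwb (hA y b hQb hb0 w ((mem_Xs hQ hn hQb).2 ⟨hbw, hl⟩))

variable {z w₀ : ι → F} (hz : Q z = 0) (haz : QuadraticMap.polar Q a z = 0) (hza : z ∉ Ln a)
  (haw₀ : QuadraticMap.polar Q a w₀ = 0) (hzw₀ : QuadraticMap.polar Q z w₀ = 0) (hw₀ : Q w₀ ≠ 0)
  {v : ι → F} (hv : QuadraticMap.polar Q a v = 0) (hlift : el hQ hn a v • el hQ hn z w₀ • y = y)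

include ha ha0 hA hz haz hza haw₀ hzw₀ hw₀ hlift in
theorem finish (hvS : v ∈ Submodule.span F ({a, z, w₀} : Set Vec)) : False := by
  obtain ⟨γ, r, hr, rfl⟩ := Submodule.mem_span_insert.1 hvS
  obtain ⟨α', β, rfl⟩ := Submodule.mem_span_pair.1 hr
  have e : el hQ hn a (γ • a + (α' • z + β • w₀)) * el hQ hn z w₀ =
      el hQ hn (z + β • a) (w₀ + (-α' - β * Q w₀) • a) := by
    refine Subtype.ext ?_
    show Ei Q a (γ • a + (α' • z + β • w₀)) * Ei Q z w₀ = _
    rw [add_comm (γ • a), Ei_add_self γ ha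
      (by simp [QuadraticMap.polar_add_right, QuadraticMap.polar_smul_right, haz, haw₀]),
      Ei_comb α' β ha hz haz haw₀ hzw₀]
    rfl
  rw [← mul_smul, e] at hlift
  set c := z + β • a
  have hc0 : c ≠ 0 := fun h => hza (Submodule.mem_span_singleton.2
    ⟨-β, by rw [eq_neg_of_add_eq_zero_left (show z + β • a = 0 from h)]; module⟩)
  have hQc : Q c = 0 := by
    simp [c, map_add', Orth.map_smul', ha, hz, QuadraticMap.polar_smul_right,
      QuadraticMap.polar_comm _ z a, haz]
  have hm := hA y c hQc hc0 _ ((mem_Xs hQ hn hQc).2 ⟨by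
    simp [c, QuadraticMap.polar_add_left, QuadraticMap.polar_add_right, QuadraticMap.polar_smul_left,
      QuadraticMap.polar_smul_right, QuadraticMap.polar_comm _ z a, haz, haw₀, hzw₀,
      polar_self_zero ha], hlift⟩)
  obtain ⟨k, hk⟩ := Submodule.mem_span_singleton.1 hm
  refine hw₀ ?_
  rw [show w₀ = k • z + (k * β - (-α' - β * Q w₀)) • a by
    linear_combination (norm := module) -hk]
  simp [map_add', Orth.map_smul', ha, hz, QuadraticMap.polar_smul_left, QuadraticMap.polar_smul_right,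
    QuadraticMap.polar_comm _ z a, haz]

include ha ha0 hA htr hz haz hza haw₀ hzw₀ hw₀ hv hlift in
theorem lift_move {g : Cfsg.isometryGroup F ⇑Q} (hg : g ∈ Cfsg.Omega F ⇑Q) {t ν μ : F}
    (ht : t ≠ 0) (hga : act g a = t • a) (hgz : act g z = ν • z) (hgw : act g w₀ = μ • w₀)
    (hνμ : ν * μ = 1) : t • act g v - v ∈ Submodule.span F ({a, z, w₀} : Set Vec) := by
  set G : Cfsg.Omega F ⇑Q := ⟨g, hg⟩
  set φ := el hQ hn z w₀
  have hgv : B a (act g v) = 0 := by
    have h4 : B (act g a) (act g v) = 0 := by rw [act_polar, hv]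
    rw [hga, QuadraticMap.polar_smul_left, smul_eq_mul, mul_eq_zero] at h4
    exact h4.resolve_left ht
  obtain ⟨u, hu, hl⟩ := lift_exists hQ hn ha ha0 htr G
  have e1 : G * el hQ hn a v * G⁻¹ = el hQ hn a (t • act g v) := by
    refine Subtype.ext ?_
    show g * Ei Q a v * g⁻¹ = _
    rw [Ei_conj, hga, Ei_smul t ha hgv]
    rfl
  have e2 : G * φ * G⁻¹ = φ := by
    refine Subtype.ext ?_
    show g * Ei Q z w₀ * g⁻¹ = Ei Q z w₀
    rw [Ei_conj, hgz, hgw, Ei_smul ν hz (by rw [QuadraticMap.polar_smul_right, hzw₀, smul_zero]),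
      smul_smul, hνμ, one_smul]
  set φu := act (Ei Q z w₀) u with hφu
  have hφa : act (Ei Q z w₀) a = a := act_Ei_fix hz hzw₀ haz haw₀
  have hφu' : B a φu = 0 := by
    calc B a φu = B (act (Ei Q z w₀) a) φu := by rw [hφa]
      _ = 0 := by rw [hφu, act_polar, hu]
  have e3 : φ * el hQ hn a u = el hQ hn a φu * φ := by
    refine Subtype.ext ?_
    show Ei Q z w₀ * Ei Q a u = Ei Q a φu * Ei Q z w₀
    rw [← mul_inv_eq_iff_eq_mul, Ei_conj, hφa]
  have htv : B a (t • act g v) = 0 := by rw [QuadraticMap.polar_smul_right, hgv, smul_zero]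
  have hl' : G⁻¹ • el hQ hn a (-u) • y = y := by
    rw [inv_smul_eq_iff, ← el_inv hQ hn ha hu, inv_smul_eq_iff, hl]
  have h1 : el hQ hn a (u + t • act g v + -φu) • φ • y = y := by
    have key : el hQ hn a (u + t • act g v + -φu) * φ =
        el hQ hn a u * G * (el hQ hn a v * φ) * G⁻¹ * el hQ hn a (-u) := by
      rw [show el hQ hn a u * G * (el hQ hn a v * φ) * G⁻¹ * el hQ hn a (-u) =
          el hQ hn a u * (G * el hQ hn a v * G⁻¹) * ((G * φ * G⁻¹) * el hQ hn a (-u)) by group,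
        e1, e2, ← el_inv hQ hn ha hu,
        show φ * (el hQ hn a u)⁻¹ = (el hQ hn a φu)⁻¹ * φ by
          rw [eq_inv_mul_iff_mul_eq, ← mul_assoc, ← e3]; group,
        el_inv hQ hn ha hφu', el_mul hQ hn ha hu htv, ← mul_assoc,
        el_mul hQ hn ha (by rw [QuadraticMap.polar_add_right, hu, htv, add_zero])
          (by rw [QuadraticMap.polar_neg_right, hφu', neg_zero])]
    rw [← mul_smul, key, mul_smul, mul_smul, mul_smul, mul_smul, mul_smul, hl', hlift, hl]
  set d := u + t • act g v + -φu - v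
  have hd : B a d = 0 := by
    simp only [d, QuadraticMap.polar_sub_right, QuadraticMap.polar_add_right,
      QuadraticMap.polar_neg_right, hu, htv, hφu', hv]
    simp
  have h2 : el hQ hn a d • y = y := by
    conv_lhs => rw [← hlift, ← mul_smul, el_mul hQ hn ha hd hv, sub_add_cancel, h1]
  have hd' : d ∈ Submodule.span F ({a, z, w₀} : Set Vec) :=
    Submodule.span_mono (by simp) (hA y a ha ha0 _ ((mem_Xs hQ hn ha).2 ⟨hd, h2⟩))
  have hdiff : φu - u ∈ Submodule.span F ({a, z, w₀} : Set Vec) := by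
    rw [hφu, act_Ei hz hzw₀,
      show u + B u z • w₀ - B u w₀ • z - (Q w₀ * B u z) • z - u =
        B u z • w₀ - B u w₀ • z - (Q w₀ * B u z) • z by abel]
    refine Submodule.sub_mem _ (Submodule.sub_mem _ ?_ ?_) ?_ <;>
      exact Submodule.smul_mem _ _ (Submodule.subset_span (by simp))
  have := Submodule.add_mem _ hd' hdiff
  rwa [show d + (φu - u) = t • act g v - v by simp only [d]; abel] at this

include ha ha0 hA htr hz haz hza haw₀ hzw₀ hw₀ hv hlift in
theorem lift_perp_z : B v z = 0 := by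
  by_contra hβ
  set S := Submodule.span F ({a, z, w₀} : Set Vec) with hS
  have hle : sperp Q {a, z, w₀} ≤ S := by
    intro w hw
    obtain ⟨h1, h2, h3⟩ := mem_sperp3.1 hw
    have hga : act (Ei Q z w) a = (1 : F) • a := by rw [one_smul, act_Ei_fix hz h2 haz h1]
    have hgz : act (Ei Q z w) z = (1 : F) • z := by rw [one_smul, act_Ei_self hz h2]
    have hgw : act (Ei Q z w) w₀ = (1 : F) • w₀ := by
      rw [one_smul, act_Ei_fix hz h2 (by rw [QuadraticMap.polar_comm, hzw₀]) h3]
    have h := lift_move hQ hn ha ha0 hA htr hz haz hza haw₀ hzw₀ hw₀ hv hlift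
      (Ei_omega hQ (by omega) z w) one_ne_zero hga hgz hgw (one_mul 1)
    rw [one_smul, act_Ei hz h2,
      show v + B v z • w - B v w • z - (Q w * B v z) • z - v =
        B v z • w - (B v w + Q w * B v z) • z by module] at h
    have h' := Submodule.add_mem _ h (Submodule.smul_mem S (B v w + Q w * B v z)
      (Submodule.subset_span (show z ∈ ({a, z, w₀} : Set Vec) by simp)))
    rw [sub_add_cancel] at h'
    have h'' := Submodule.smul_mem S (B v z)⁻¹ h'
    rwa [smul_smul, inv_mul_cancel₀ hβ, one_smul] at h''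
  have h1 := Submodule.finrank_mono hle
  have h2 := Max.Orth.finrank_perp hQ (Submodule.span F ({a, z, w₀} : Set Vec))
  have := finrank_span3 (F := F) a z w₀
  change finrank F ↥(Max.Orth.perp Q _) ≤ _ at h1
  rw [← hS] at h1 h2 this
  omega

include ha ha0 hA htr hz haz hza haw₀ hzw₀ hw₀ hv hlift in
theorem lift_two (hF : Fintype.card F = 2) (hn8 : 8 ≤ Fintype.card ι) : False := by
  have h2 : (2 : F) = 0 := by
    have := FiniteField.cast_card_eq_zero F
    rw [hF] at this
    exact_mod_cast this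
  set S := Submodule.span F ({a, z, w₀} : Set Vec) with hS
  have hvz := lift_perp_z hQ hn ha ha0 hA htr hz haz hza haw₀ hzw₀ hw₀ hv hlift
  have hzne : ∀ k : F, k • z ∈ Ln a → k = 0 := fun k hk => by
    by_contra h
    exact hza (by simpa [smul_smul, inv_mul_cancel₀ h] using Submodule.smul_mem _ k⁻¹ hk)
  have hvw : B v w₀ = 0 := by
    set φ := el hQ hn z w₀
    have hφv : act (Ei Q z w₀) v = v - B v w₀ • z := act_Ei_perp hz hzw₀ hvz
    have hφv' : B a (v - B v w₀ • z) = 0 := by
      simp [QuadraticMap.polar_sub_right, QuadraticMap.polar_smul_right, hv, haz]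
    have e : φ * el hQ hn a v = el hQ hn a (v - B v w₀ • z) * φ := by
      refine Subtype.ext ?_
      show Ei Q z w₀ * Ei Q a v = Ei Q a (v - B v w₀ • z) * Ei Q z w₀
      rw [← mul_inv_eq_iff_eq_mul, Ei_conj, hφv, act_Ei_fix hz hzw₀ haz haw₀]
    have e2 : φ * φ = 1 := by
      refine Subtype.ext ?_
      show Ei Q z w₀ * Ei Q z w₀ = 1
      rw [Ei_mul hz hzw₀ hzw₀,
        show w₀ + w₀ = (0 : Vec) by rw [← two_smul F, h2, zero_smul], Ei_zero]
    have h : el hQ hn a v • φ • el hQ hn a v • φ • y = y := by rw [hlift, hlift]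
    rw [← mul_smul φ (el hQ hn a v), e, mul_smul, ← mul_smul φ φ, e2, one_smul,
      ← mul_smul, el_mul hQ hn ha hv hφv'] at h
    have hm := hA y a ha ha0 _ ((mem_Xs hQ hn ha).2
      ⟨by rw [QuadraticMap.polar_add_right, hv, hφv', add_zero], h⟩)
    have e3 : v + (v - B v w₀ • z) = (-B v w₀) • z := by
      linear_combination (norm := module) (congrArg (· • v) h2)
    rw [e3] at hm
    exact neg_eq_zero.1 (hzne _ hm)
  have key : ∀ r ∈ sperp Q {a, z, w₀}, Q r ≠ 0 → r ∉ S → B r v = 0 := by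
    intro r hr hQr hrS
    obtain ⟨h1, h3, h4⟩ := mem_sperp3.1 hr
    have hg : reflect Q r * reflect Q w₀ ∈ Cfsg.Omega F ⇑Q := by
      rw [mem_omega_iff_par hQ (card_ne hQ hn) h2, par_reflect_mul hQ hQr,
        par_reflect hQ hw₀, neg_neg]
    have fx : ∀ s, B r s = 0 → B w₀ s = 0 → act (reflect Q r * reflect Q w₀) s = (1 : F) • s :=
      fun s e1 e2 => by rw [act_mul, act_reflect_fix e2, act_reflect_fix e1, one_smul]
    have hm := lift_move hQ hn ha ha0 hA htr hz haz hza haw₀ hzw₀ hw₀ hv hlift hg one_ne_zero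
      (fx a (by rw [QuadraticMap.polar_comm]; exact h1) (by rw [QuadraticMap.polar_comm]; exact haw₀))
      (fx z (by rw [QuadraticMap.polar_comm]; exact h3) (by rw [QuadraticMap.polar_comm]; exact hzw₀))
      (fx w₀ (by rw [QuadraticMap.polar_comm]; exact h4) (by rw [polar_self', h2, zero_mul]))
      (one_mul 1)
    rw [one_smul, act_mul, act_reflect_fix (show B w₀ v = 0 by rw [QuadraticMap.polar_comm, hvw]),
      act_reflect, sub_sub_cancel_left, ← neg_smul] at hm
    by_contra h0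
    refine hrS ?_
    have := Submodule.smul_mem S (-((Q r)⁻¹ * B r v))⁻¹ hm
    rwa [smul_smul, inv_mul_cancel₀ (neg_ne_zero.2 (mul_ne_zero (inv_ne_zero hQr) h0)),
      one_smul] at this
  have all : ∀ r ∈ sperp Q {a, z, w₀}, r ∉ S → B r v = 0 := by
    intro r hr hrS
    by_cases hQr : Q r = 0
    · have hw : w₀ ∈ S := Submodule.subset_span (by simp)
      have hr' : r + w₀ ∈ sperp Q {a, z, w₀} := by
        refine Submodule.add_mem _ hr (mem_sperp3.2 ⟨haw₀, hzw₀, ?_⟩)
        rw [polar_self', h2, zero_mul]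
      have h := key _ hr' (by
        rw [map_add', hQr, QuadraticMap.polar_comm, (mem_sperp3.1 hr).2.2]; simpa using hw₀)
        (fun hmem => hrS (by simpa using Submodule.sub_mem _ hmem hw))
      rwa [QuadraticMap.polar_add_left, QuadraticMap.polar_comm _ w₀ v, hvw, add_zero] at h
    · exact key r hr hQr hrS
  obtain ⟨r, hr, hrS⟩ : ∃ r ∈ sperp Q {a, z, w₀}, r ∉ S := SetLike.not_le_iff_exists.1 fun hle => by
    have h1 := Submodule.finrank_mono hle
    have h3 := Max.Orth.finrank_perp hQ (Submodule.span F ({a, z, w₀} : Set Vec))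
    have := finrank_span3 (F := F) a z w₀
    change finrank F ↥(Max.Orth.perp Q _) ≤ _ at h1
    rw [← hS] at h1 h3 this
    omega
  refine finish hQ hn ha ha0 hA hz haz hza haw₀ hzw₀ hw₀ hlift ?_
  rw [← hS, ← Max.Orth.perp_perp hQ S]
  refine Max.Orth.mem_perp.2 fun s hs => ?_
  by_cases hsS : s ∈ S
  · have h := all (r + s) (Submodule.add_mem _ hr hs)
      (fun hmem => hrS (by simpa using Submodule.sub_mem _ hmem hsS))
    rwa [QuadraticMap.polar_add_left, all r hr hrS, zero_add] at h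
  · exact all s hs hsS

include ha ha0 hA htr hz haz hza haw₀ hzw₀ hw₀ hv hlift in
theorem lift_three (hF : Fintype.card F = 3) {a' z' : Vec} (hpa : IsPair Q a a')
    (hpz : IsPair Q z z') (ha'z : B a' z = 0) (ha'w : B a' w₀ = 0) (hz'a : B z' a = 0)
    (hz'w : B z' w₀ = 0) {x : Vec} (hax : B a x = 0) (hzx : B z x = 0) (hwx : B w₀ x = 0)
    (hx : Q x ≠ 0) :
    (chi (Q x) = -chi (Q w₀) → B x v = 0) ∧
      (chi (Q x) = chi (Q w₀) → ∃ k : F, v + k • x ∈ Submodule.span F ({a, z, w₀} : Set Vec)) := by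
  have h2 : (2 : F) ≠ 0 := OrthForms.two_ne_zero_of_odd (by rw [hF]; decide)
  have hm1 : chi (-1 : F) = -1 := by
    refine chi_eq_neg_one_iff.2 fun hsq => ?_
    have := (FiniteField.isSquare_neg_one_iff (F := F)).1 hsq
    omega
  have hne : (-1 : F) ≠ 0 := neg_ne_zero.2 one_ne_zero
  set S := Submodule.span F ({a, z, w₀} : Set Vec) with hS
  have hxS : x ∉ S := fun hmem => by
    have h := Max.Orth.mem_perp.1 (mem_sperp3.2 ⟨hax, hzx, hwx⟩ : x ∈ sperp Q {a, z, w₀}) x hmem
    rw [polar_self'] at h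
    exact mul_ne_zero h2 hx h
  have hvz : B z v = 0 := by
    rw [QuadraticMap.polar_comm]
    exact lift_perp_z hQ hn ha ha0 hA htr hz haz hza haw₀ hzw₀ hw₀ hv hlift
  set g₁ := reflect Q x * reflect Q w₀ * scl Q z z' (-1)
  have hxw : B x w₀ = 0 := by rw [QuadraticMap.polar_comm]; exact hwx
  have h1a : act g₁ a = a := by
    rw [act_mul, act_mul, act_scl_fix hpz hne (by rw [QuadraticMap.polar_comm, haz]) hz'a,
      act_reflect_fix (z := w₀) (v := a) (by rw [QuadraticMap.polar_comm, haw₀]),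
      act_reflect_fix (z := x) (v := a) (by rw [QuadraticMap.polar_comm, hax])]
  have h1z : act g₁ z = (-1 : F) • z := by
    rw [act_mul, act_mul, act_scl_left hpz hne, map_smul, map_smul,
      act_reflect_fix (z := w₀) (v := z) (by rw [QuadraticMap.polar_comm, hzw₀]),
      act_reflect_fix (z := x) (v := z) (by rw [QuadraticMap.polar_comm, hzx])]
  have h1w : act g₁ w₀ = (-1 : F) • w₀ := by
    rw [act_mul, act_mul, act_scl_fix hpz hne hzw₀ hz'w, act_reflect w₀, polar_self',
      show (Q w₀)⁻¹ * (2 * Q w₀) = 2 by field_simp,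
      show w₀ - (2 : F) • w₀ = (-1 : F) • w₀ by module, map_smul, act_reflect_fix hxw]
  have h1v : ∃ k l : F, act g₁ v = v + k • z + l • w₀ - ((Q x)⁻¹ * B x v) • x := by
    refine ⟨(-1 - 1) * B z' v,
      -((Q w₀)⁻¹ * (B w₀ v + ((-1 - 1) * B z' v) * B w₀ z)), ?_⟩
    rw [act_mul, act_mul, act_scl hpz hne, hvz, mul_zero, zero_smul, add_zero, act_reflect w₀,
      QuadraticMap.polar_add_right, QuadraticMap.polar_smul_right, act_reflect x,
      QuadraticMap.polar_sub_right, QuadraticMap.polar_add_right, QuadraticMap.polar_smul_right,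
      QuadraticMap.polar_smul_right, hxw, QuadraticMap.polar_comm _ x z, hzx, smul_eq_mul,
      smul_eq_mul, smul_eq_mul, mul_zero, mul_zero, sub_zero, add_zero]
    module
  have hθ : theta hQ (card_ne hQ hn) g₁ = (1, -(chi (Q x) * chi (Q w₀))) := by
    rw [map_mul, map_mul, theta_reflect hQ _ hx, theta_reflect hQ _ hw₀,
      scl_theta hQ hn hpz hne, hm1]
    ext <;> simp
  constructor
  · intro hc
    have hg : g₁ ∈ Cfsg.Omega F ⇑Q := by
      rw [mem_omega_iff hQ (card_ne hQ hn), hθ, hc, neg_mul, neg_neg, Int.units_mul_self]; rfl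
    have hm := lift_move hQ hn ha ha0 hA htr hz haz hza haw₀ hzw₀ hw₀ hv hlift hg one_ne_zero
      (by rw [one_smul]; exact h1a) h1z h1w (by ring)
    obtain ⟨k, l, hgv⟩ := h1v
    rw [one_smul, hgv] at hm
    by_contra h0
    refine hxS ?_
    have hm2 : ((Q x)⁻¹ * B x v) • x ∈ S := by
      rw [show ((Q x)⁻¹ * B x v) • x =
        (k • z + l • w₀) - (v + k • z + l • w₀ - ((Q x)⁻¹ * B x v) • x - v) by abel]
      exact Submodule.sub_mem _ (Submodule.add_mem _
        (Submodule.smul_mem _ _ (Submodule.subset_span (by simp)))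
        (Submodule.smul_mem _ _ (Submodule.subset_span (by simp)))) hm
    have := Submodule.smul_mem S ((Q x)⁻¹ * B x v)⁻¹ hm2
    rwa [smul_smul, inv_mul_cancel₀ (mul_ne_zero (inv_ne_zero hx) h0), one_smul] at this
  · intro hc
    set g₂ := scl Q a a' (-1) * g₁
    have hg : g₂ ∈ Cfsg.Omega F ⇑Q := by
      rw [mem_omega_iff hQ (card_ne hQ hn), map_mul, hθ, scl_theta hQ hn hpa hne, hm1, hc,
        Int.units_mul_self]
      rfl
    have hm := lift_move hQ hn ha ha0 hA htr hz haz hza haw₀ hzw₀ hw₀ hv hlift hg hne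
      (by rw [act_mul, h1a, act_scl_left hpa hne])
      (ν := -1) (by rw [act_mul, h1z, map_smul, act_scl_fix hpa hne haz ha'z])
      (μ := -1) (by rw [act_mul, h1w, map_smul, act_scl_fix hpa hne haw₀ ha'w])
      (by ring)
    obtain ⟨k, l, hgv⟩ := h1v
    set c := (Q x)⁻¹ * B x v
    set d := (-1 - 1) * (B a' v - c * B a' x)
    have hgv2 : act g₂ v = v + k • z + l • w₀ - c • x + d • a := by
      rw [act_mul, hgv, act_scl hpa hne]
      simp only [QuadraticMap.polar_add_right, QuadraticMap.polar_sub_right,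
        QuadraticMap.polar_smul_right, hv, haz, haw₀, hax, ha'z, ha'w, smul_eq_mul]
      module
    rw [hgv2] at hm
    refine ⟨-(c / 2), ?_⟩
    have hm2 := Submodule.smul_mem S ((2 : F)⁻¹) (Submodule.sub_mem S (Submodule.neg_mem S hm)
      (Submodule.add_mem S (Submodule.add_mem S
        (Submodule.smul_mem S k (Submodule.subset_span (show z ∈ ({a, z, w₀} : Set Vec) by simp)))
        (Submodule.smul_mem S l (Submodule.subset_span (show w₀ ∈ ({a, z, w₀} : Set Vec) by simp))))
        (Submodule.smul_mem S d (Submodule.subset_span (show a ∈ ({a, z, w₀} : Set Vec) by simp)))))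
    convert hm2 using 1
    match_scalars <;> field_simp <;> ring

omit hz haz hza haw₀ hzw₀ hw₀ hv hlift

include ha ha0 hA htr in
/-- A transitive radical with trivial stabilisers everywhere is impossible. -/
theorem regular_false (hn8 : Fintype.card F = 2 → 8 ≤ Fintype.card ι) : False := by
  rcases le_or_gt 4 (Fintype.card F) with h4 | h4
  · exact regular_large hQ hn ha ha0 hA htr h4
  have h1 := Fintype.one_lt_card (α := F)
  obtain ⟨a', hpa⟩ := exists_partner_top hQ ha ha0
  obtain ⟨z, z', hz, hz', hpz⟩ := exists_pair_perp hQ (Submodule.span F ({a, a'} : Set Vec))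
    (by have := finrank_span2 (F := F) a a'; omega)
  obtain ⟨haz, ha'z⟩ := mem_sperp2.1 hz
  obtain ⟨haz', ha'z'⟩ := mem_sperp2.1 hz'
  have hza : z ∉ Ln a := fun h => by
    obtain ⟨k, rfl⟩ := Submodule.mem_span_singleton.1 h
    have := hpz.huv
    rw [QuadraticMap.polar_smul_left, haz'] at this
    simp at this
  have lift : ∀ w₀, ∃ v, B a v = 0 ∧ el hQ hn a v • el hQ hn z w₀ • y = y :=
    fun w₀ => lift_exists hQ hn ha ha0 htr (el hQ hn z w₀)
  rcases (show Fintype.card F = 2 ∨ Fintype.card F = 3 by omega) with hF | hF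
  · obtain ⟨w₀, hw, hw₀⟩ := exists_nonsing hQ (Submodule.span F ({a, z} : Set Vec))
      (by have := finrank_span2 (F := F) a z; omega)
    obtain ⟨haw, hzw⟩ := mem_sperp2.1 hw
    obtain ⟨v, hv, hl⟩ := lift w₀
    exact lift_two hQ hn ha ha0 hA htr hpz.hu haz hza haw hzw hw₀ hv hl hF (hn8 hF)
  have h2 : (2 : F) ≠ 0 := OrthForms.two_ne_zero_of_odd (by rw [hF]; decide)
  have nd4 := span_frame_nd h2 hpa hpz haz ha'z haz' ha'z'
  obtain ⟨hnd0, hd0⟩ := nd4 [] (by simp) List.Pairwise.nil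
  simp only [List.length_nil, add_zero] at hd0
  obtain ⟨x₁, hx₁, hQ₁⟩ := exists_value_nd hQ h2 hnd0 (by omega) (one_ne_zero (α := F))
  have g1 := fun t (ht : t ∈ ({a, a', z, z'} : Set Vec)) =>
    Max.Orth.mem_perp.1 hx₁ t (Submodule.subset_span (Set.mem_union_left _ ht))
  obtain ⟨hnd1, hd1⟩ := nd4 [x₁] (by
    simp only [List.mem_singleton, forall_eq, hQ₁]
    exact ⟨one_ne_zero, g1 a (by simp), g1 a' (by simp), g1 z (by simp), g1 z' (by simp)⟩)
    (List.pairwise_singleton _ _)
  simp only [List.length_singleton] at hd1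
  obtain ⟨x₂, hx₂, hQ₂⟩ := exists_value_nd hQ h2 hnd1 (by omega) (one_ne_zero (α := F))
  have g2 := fun t (ht : t ∈ ({a, a', z, z'} : Set Vec)) =>
    Max.Orth.mem_perp.1 hx₂ t (Submodule.subset_span (Set.mem_union_left _ ht))
  have h12 : B x₁ x₂ = 0 :=
    Max.Orth.mem_perp.1 hx₂ x₁ (Submodule.subset_span (Set.mem_union_right _ (by simp)))
  obtain ⟨hnd2, hd2⟩ := nd4 [x₁, x₂] (by
    simp only [List.mem_cons, List.not_mem_nil, or_false, forall_eq_or_imp, forall_eq, hQ₁, hQ₂]
    exact ⟨⟨one_ne_zero, g1 a (by simp), g1 a' (by simp), g1 z (by simp), g1 z' (by simp)⟩,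
      one_ne_zero, g2 a (by simp), g2 a' (by simp), g2 z (by simp), g2 z' (by simp)⟩)
    (by simp [h12])
  simp only [List.length_cons, List.length_nil] at hd2
  obtain ⟨w₀, hw, hw₀, hw8⟩ : ∃ w₀ ∈ Max.Orth.perp Q
      (Submodule.span F ({a, a', z, z'} ∪ {t | t ∈ [x₁, x₂]} : Set Vec)), Q w₀ ≠ 0 ∧
      (Q w₀ = 1 ∨ Fintype.card ι = 7) := by
    by_cases h8 : 8 ≤ Fintype.card ι
    · obtain ⟨w, hw, hw1⟩ := exists_value_nd hQ h2 hnd2 (by omega) (one_ne_zero (α := F))
      exact ⟨w, hw, by rw [hw1]; exact one_ne_zero, Or.inl hw1⟩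
    · obtain ⟨w, hw, hw1⟩ := exists_nonsing_nd hQ hnd2 (by omega)
      exact ⟨w, hw, hw1, Or.inr (by omega)⟩
  have gw := fun t (ht : t ∈ ({a, a', z, z'} ∪ {t | t ∈ [x₁, x₂]} : Set Vec)) =>
    Max.Orth.mem_perp.1 hw t (Submodule.subset_span ht)
  have haw := gw a (by simp)
  have hzw := gw z (by simp)
  obtain ⟨v, hv, hl⟩ := lift w₀
  have L := fun (x : Vec) (hax : B a x = 0) (hzx : B z x = 0) (hwx : B w₀ x = 0) (hx : Q x ≠ 0) =>
    lift_three hQ hn ha ha0 hA htr hpz.hu haz hza haw hzw hw₀ hv hl hF hpa hpz ha'z (gw a' (by simp))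
      (by rw [QuadraticMap.polar_comm]; exact haz') (gw z' (by simp)) hax hzx hwx hx
  obtain ⟨L1, L1'⟩ := L x₁ (g1 a (by simp)) (g1 z (by simp))
    (by rw [QuadraticMap.polar_comm]; exact gw x₁ (by simp)) (by rw [hQ₁]; exact one_ne_zero)
  obtain ⟨L2, L2'⟩ := L x₂ (g2 a (by simp)) (g2 z (by simp))
    (by rw [QuadraticMap.polar_comm]; exact gw x₂ (by simp)) (by rw [hQ₂]; exact one_ne_zero)
  rw [hQ₁, chi_one] at L1 L1'
  rw [hQ₂, chi_one] at L2 L2'
  refine finish hQ hn ha ha0 hA hpz.hu haz hza haw hzw hw₀ hl ?_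
  set S := Submodule.span F ({a, z, w₀} : Set Vec) with hS
  have orth : ∀ x, B a x = 0 → B z x = 0 → B w₀ x = 0 → ∀ s ∈ S, B s x = 0 := fun x e1 e2 e3 s hs =>
    Max.Orth.mem_perp.1 (mem_sperp3.2 ⟨e1, e2, e3⟩) s hs
  rcases Int.units_eq_one_or (chi (Q w₀)) with hc | hc
  · obtain ⟨k, hk⟩ := L1' hc.symm
    obtain ⟨l, hl'⟩ := L2' hc.symm
    have hd := Submodule.sub_mem _ hk hl'
    have h0 := orth x₁ (g1 a (by simp)) (g1 z (by simp))
      (by rw [QuadraticMap.polar_comm]; exact gw x₁ (by simp)) _ hd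
    simp [QuadraticMap.polar_add_left, QuadraticMap.polar_sub_left, QuadraticMap.polar_smul_left,
      polar_self', hQ₁, QuadraticMap.polar_comm _ x₂ x₁, h12] at h0
    have hk0 : k = 0 := h0.resolve_right h2
    rwa [hk0, zero_smul, add_zero] at hk
  · have h7 : Fintype.card ι = 7 := by
      refine hw8.resolve_left fun h => ?_
      rw [h, chi_one] at hc
      exact absurd hc (by decide)
    have p1 := L1 (by rw [hc, neg_neg])
    have p2 := L2 (by rw [hc, neg_neg])
    have hvz := lift_perp_z hQ hn ha ha0 hA htr hpz.hu haz hza haw hzw hw₀ hv hl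
    have hle := span_eq_sperp hQ hn h2 h7 hpa hpz haz ha'z haz' (gw a' (by simp)) haw hzw
      (gw z' (by simp)) hw₀ hQ₁ hQ₂ h12 ⟨g1 a (by simp), g1 a' (by simp), g1 z (by simp), g1 z' (by simp)⟩
      ⟨g2 a (by simp), g2 a' (by simp), g2 z (by simp), g2 z' (by simp)⟩
      (gw x₁ (by simp)) (gw x₂ (by simp))
    rw [hS, ← Max.Orth.perp_perp hQ (Submodule.span F ({a, z, w₀} : Set Vec))]
    show v ∈ Max.Orth.perp Q (sperp Q {a, z, w₀})
    rw [← hle]
    refine mem_sperp.2 ?_
    rintro t (rfl | rfl | rfl | rfl)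
    · exact hv
    · rw [QuadraticMap.polar_comm]; exact hvz
    · exact p1
    · exact p2

end regular

end Cfsg.Agent.Classical.OrthMinIndex
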