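import Cfsg.Agent.Lib.Classical.OrthMinIndex.Eich

/-!
# Orthogonal complements of small subspaces
-/

set_option autoImplicit false
set_option linter.unusedSectionVars false
set_option linter.unusedSimpArgs false

namespace Cfsg.Agent.Classical.OrthMinIndex

open Cfsg.Agent.Forms Cfsg.Agent.Forms.QuadStd Cfsg.Agent.Forms.Reflections
open Cfsg.Agent.Classical.Orth Module
open Cfsg.Agent.Forms.Max.Orth (perp mem_perp finrank_perp perp_perp polar_of_sing sing_span exists_partner_in)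

variable {F : Type*} [Field F] {ι : Type} [Fintype ι] [DecidableEq ι]
variable {Q : QuadraticForm F (ι → F)}

local notation "Vec" => (ι → F)
local notation "B" => QuadraticMap.polar Q

/-- The complement of a set of vectors. -/
noncomputable abbrev sperp (Q : QuadraticForm F (ι → F)) (s : Set (ι → F)) :
    Submodule F (ι → F) :=
  perp Q (Submodule.span F s)

theorem mem_sperp {s : Set Vec} {y : Vec} : y ∈ sperp Q s ↔ ∀ v ∈ s, B v y = 0 := by
  refine ⟨fun h v hv => mem_perp.1 h v (Submodule.subset_span hv), fun h => mem_perp.2 fun w hw => ?_⟩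
  induction hw using Submodule.span_induction with
  | mem v hv => exact h v hv
  | zero => simp [QuadraticMap.polar]
  | add a b _ _ ha hb => rw [QuadraticMap.polar_add_left, ha, hb, add_zero]
  | smul c a _ ha => rw [QuadraticMap.polar_smul_left, ha, smul_zero]

theorem mem_sperp1 {a y : Vec} : y ∈ sperp Q {a} ↔ B a y = 0 := by
  rw [mem_sperp]; simp

theorem mem_sperp2 {a x y : Vec} : y ∈ sperp Q {a, x} ↔ B a y = 0 ∧ B x y = 0 := by
  rw [mem_sperp]; simp

theorem mem_sperp3 {a x z y : Vec} :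
    y ∈ sperp Q {a, x, z} ↔ B a y = 0 ∧ B x y = 0 ∧ B z y = 0 := by
  rw [mem_sperp]; simp

theorem finrank_span1 (a : Vec) : finrank F ↥(Submodule.span F ({a} : Set Vec)) ≤ 1 := by
  simpa using finrank_span_le_card ({a} : Set Vec)

theorem finrank_span_insert (v : Vec) (s : Set Vec) :
    finrank F ↥(Submodule.span F (insert v s)) ≤ finrank F ↥(Submodule.span F s) + 1 := by
  rw [Submodule.span_insert, add_comm]
  exact (Submodule.finrank_add_le_finrank_add_finrank _ _).trans
    (Nat.add_le_add_right (finrank_span1 v) _)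

theorem finrank_span2 (a x : Vec) : finrank F ↥(Submodule.span F ({a, x} : Set Vec)) ≤ 2 :=
  (finrank_span_insert a _).trans (Nat.add_le_add_right (finrank_span1 x) 1)

theorem finrank_span3 (a x z : Vec) : finrank F ↥(Submodule.span F ({a, x, z} : Set Vec)) ≤ 3 :=
  (finrank_span_insert a _).trans (Nat.add_le_add_right (finrank_span2 x z) 1)

/-- A non-degenerate complement of the radical. -/
theorem exists_compl (Y : Submodule F Vec) : ∃ R ≤ Y, (∀ r ∈ R, r ≠ 0 → ∃ s ∈ R, B r s ≠ 0) ∧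
    finrank F R + finrank F ↥(Y ⊓ perp Q Y) = finrank F Y ∧ Y = (Y ⊓ perp Q Y) ⊔ R := by
  obtain ⟨C, hC⟩ := Submodule.exists_isCompl (Y ⊓ perp Q Y)
  have hsup : Y = (Y ⊓ perp Q Y) ⊔ (Y ⊓ C) := by
    rw [inf_comm Y C, ← sup_inf_assoc_of_le C (inf_le_left : Y ⊓ perp Q Y ≤ Y),
      hC.sup_eq_top, top_inf_eq]
  refine ⟨Y ⊓ C, inf_le_left, fun r hr hr0 => ?_, ?_, hsup⟩
  · by_contra hcon
    push Not at hcon
    refine hr0 ((Submodule.mem_bot F).1 (hC.inf_eq_bot ▸ Submodule.mem_inf.2 ⟨?_, hr.2⟩))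
    refine Submodule.mem_inf.2 ⟨hr.1, mem_perp.2 fun y hy => ?_⟩
    rw [hsup] at hy
    obtain ⟨p, hp, c, hc, rfl⟩ := Submodule.mem_sup.1 hy
    rw [QuadraticMap.polar_add_left, QuadraticMap.polar_comm _ p r, mem_perp.1 hp.2 r hr.1,
      QuadraticMap.polar_comm _ c r, hcon c hc, add_zero]
  · have h := Submodule.finrank_sup_add_finrank_inf_eq (Y ⊓ perp Q Y) (Y ⊓ C)
    rw [← hsup, show (Y ⊓ perp Q Y) ⊓ (Y ⊓ C) = ⊥ from le_bot_iff.1
      ((inf_le_inf le_rfl inf_le_right).trans hC.inf_eq_bot.le), finrank_bot] at h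
    omega

variable (hQ : (QuadraticMap.polarBilin Q).Nondegenerate)
include hQ

theorem rad_le (S : Submodule F Vec) : finrank F ↥(perp Q S ⊓ perp Q (perp Q S)) ≤ finrank F S := by
  rw [perp_perp hQ]
  exact Submodule.finrank_mono inf_le_right

/-- A vector outside the span of a set pairs non-trivially with its complement. -/
theorem exists_sperp_ne {s : Set Vec} {v : Vec} (hv : v ∉ Submodule.span F s) :
    ∃ y ∈ sperp Q s, B v y ≠ 0 :=
  Max.Orth.not_mem_perp hQ hv

theorem exists_nonsing (S : Submodule F Vec) (h : 2 * finrank F S < Fintype.card ι) :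
    ∃ y ∈ perp Q S, Q y ≠ 0 := by
  by_contra hcon
  push Not at hcon
  have := finrank_perp hQ S
  have := Max.Orth.finrank_sing_le hQ (T := perp Q S) hcon
  omega

theorem exists_nonsing_out (S : Submodule F Vec) (h : 2 * finrank F S < Fintype.card ι) :
    ∃ y ∈ perp Q S, ∃ z ∈ perp Q S, B y z ≠ 0 := by
  obtain ⟨R, hR, hnd, hd, -⟩ := exists_compl (Q := Q) (perp Q S)
  have := rad_le hQ S
  have := finrank_perp hQ S
  obtain ⟨r, hr, hr0⟩ := Submodule.exists_mem_ne_zero_of_ne_bot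
    (p := R) (fun h0 => by rw [h0, finrank_bot] at hd; omega)
  obtain ⟨t, ht, hrt⟩ := hnd r hr hr0
  exact ⟨r, hR hr, t, hR ht, hrt⟩

variable [Fintype F]

theorem exists_pair_perp (S : Submodule F Vec) (h : 2 * finrank F S + 3 ≤ Fintype.card ι) :
    ∃ e f, e ∈ perp Q S ∧ f ∈ perp Q S ∧ IsPair Q e f := by
  obtain ⟨R, hR, hnd, hd, -⟩ := exists_compl (Q := Q) (perp Q S)
  have := rad_le hQ S
  have := finrank_perp hQ S
  obtain ⟨e, f, he, hf, hp⟩ := Max.Orth.exists_pair hQ hnd (by omega)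
  exact ⟨e, f, hR he, hR hf, hp⟩

/-- Singular vectors of a complement span it. -/
theorem perp_le_of_sing (S : Submodule F Vec) (h : 2 * finrank F S + 3 ≤ Fintype.card ι)
    {T : Submodule F Vec} (hT : ∀ v ∈ perp Q S, Q v = 0 → v ∈ T) : perp Q S ≤ T := by
  obtain ⟨e, f, he, hf, hp⟩ := exists_pair_perp hQ S h
  exact sing_span hp he hf hT

theorem exists_sing_out (S : Submodule F Vec) (h : 2 * finrank F S + 3 ≤ Fintype.card ι) :
    ∃ e ∈ perp Q S, Q e = 0 ∧ e ∉ S ∧ e ≠ 0 := by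
  obtain ⟨e, f, he, hf, hp⟩ := exists_pair_perp hQ S h
  refine ⟨e, he, hp.hu, fun heS => one_ne_zero (hp.huv.symm.trans ?_), hp.ne_zero.1⟩
  exact mem_perp.1 hf e heS

theorem exists_value_perp (h2 : (2 : F) ≠ 0) (S : Submodule F Vec)
    (h : 2 * finrank F S + 2 ≤ Fintype.card ι) {c : F} (hc : c ≠ 0) :
    ∃ y ∈ perp Q S, Q y = c := by
  obtain ⟨R, hR, hnd, hd, -⟩ := exists_compl (Q := Q) (perp Q S)
  have := rad_le hQ S
  have := finrank_perp hQ S
  have hn : Bases.NondegOn (polB Q) R := fun r hr h0 => by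
    by_contra hr0
    obtain ⟨t, ht, hrt⟩ := hnd r hr hr0
    exact hrt (h0 t ht)
  obtain ⟨y, hy, hy'⟩ := OmegaCrit.exists_value_on h2 hn (by omega) hc
  exact ⟨y, hR hy, hy'⟩

end Cfsg.Agent.Classical.OrthMinIndex
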