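import Cfsg.Agent.Lib.Classical.OrthMinIndex.Action

/-!
# No action in which all annihilators lie in lines
-/

set_option autoImplicit false
set_option linter.unusedSectionVars false
set_option linter.unusedSimpArgs false

namespace Cfsg.Agent.Classical.OrthMinIndex

open Cfsg.Agent.Forms Cfsg.Agent.Forms.QuadStd Cfsg.Agent.Forms.Reflections
open Cfsg.Agent.Classical.Orth Module
open Cfsg.Agent.Forms.Max.Orth (perp mem_perp finrank_perp perp_perp polar_of_sing exists_partner_in exists_sing)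

open scoped _root_.Classical

variable {F : Type*} [Field F] [Fintype F] {ι : Type} [Fintype ι] [DecidableEq ι]
variable {Q : QuadraticForm F (ι → F)}

local notation "Vec" => (ι → F)
local notation "B" => QuadraticMap.polar Q

variable {α : Type*} [Fintype α] [MulAction (Cfsg.Omega F ⇑Q) α]
variable (hQ : (QuadraticMap.polarBilin Q).Nondegenerate) (hn : 7 ≤ Fintype.card ι) (y : α)

/-- The span of the annihilator. -/
noncomputable def ell (a : ι → F) : Submodule F (ι → F) :=
  Submodule.span F (Us hQ hn y a : Set (ι → F))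

/-- The annihilators at `y` lie in lines through their centres. -/
def AllLines : Prop :=
  ∀ a : ι → F, Q a = 0 → a ≠ 0 → ∃ x, x ∉ Ln a ∧ QuadraticMap.polar Q a x = 0 ∧
    ell hQ hn y a = Submodule.span F {a, x}

variable {hQ hn y}

theorem fix_of_perp {a w : Vec} (ha : Q a = 0) (hw : w ∈ perp Q (ell hQ hn y a)) :
    B a w = 0 ∧ el hQ hn a w • y = y := by
  refine (mem_Xs hQ hn ha).1 ?_
  rw [← ann_ann hQ (Xs hQ hn y a)]
  intro u hu
  rw [QuadraticMap.polar_comm, mem_perp.1 hw u (Submodule.subset_span hu), map_zero]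

theorem ell_move {a : Vec} (ha : Q a = 0) {g : Cfsg.Omega F ⇑Q} (hg : g • y = y) {t : F}
    (ht : t ≠ 0) {a' : Vec} (ha' : Q a' = 0) (hga : act g.1 a = t • a') {l : Vec}
    (hl : l ∈ ell hQ hn y a) : act g.1 l ∈ ell hQ hn y a' := by
  induction hl using Submodule.span_induction with
  | mem u hu =>
    have h : sA g.1 t⁻¹ u ∈ Us hQ hn y a' := by
      rw [show Us hQ hn y a' = Us hQ hn (g • y) a' by rw [hg], Us_move hQ hn ha g ht ha' hga]
      exact ⟨u, hu, rfl⟩
    have h2 := Submodule.smul_mem (ell hQ hn y a') t (Submodule.subset_span h)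
    rwa [sA_apply, smul_smul, mul_inv_cancel₀ ht, one_smul] at h2
  | zero => simp
  | add u v _ _ h1 h2 => rw [map_add]; exact add_mem h1 h2
  | smul c u _ h1 => rw [map_smul]; exact Submodule.smul_mem _ c h1

theorem ell_smul {a : Vec} (ha : Q a = 0) {k : F} (hk : k ≠ 0) :
    ell hQ hn y (k • a) = ell hQ hn y a := by
  have hka : Q (k • a) = 0 := by rw [Orth.map_smul', ha, mul_zero]
  have h1 : act (1 : Cfsg.Omega F ⇑Q).1 a = k⁻¹ • (k • a) := by
    rw [Subgroup.coe_one, act_one, smul_smul, inv_mul_cancel₀ hk, one_smul]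
  have h2 : act (1 : Cfsg.Omega F ⇑Q).1 (k • a) = k • a := by rw [Subgroup.coe_one, act_one]
  refine le_antisymm (fun l hl => ?_) fun l hl => ?_
  · have := ell_move hka (one_smul _ y) hk ha h2 hl
    rwa [Subgroup.coe_one, act_one] at this
  · have := ell_move ha (one_smul _ y) (inv_ne_zero hk) hka h1 hl
    rwa [Subgroup.coe_one, act_one] at this

variable (hL : AllLines hQ hn y)
include hL

theorem self_mem_ell {a : Vec} (ha : Q a = 0) (ha0 : a ≠ 0) : a ∈ ell hQ hn y a := by
  obtain ⟨x, -, -, he⟩ := hL a ha ha0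
  rw [he]; exact Submodule.subset_span (by simp)

theorem ell_perp_self {a : Vec} (ha : Q a = 0) (ha0 : a ≠ 0) : ∀ l ∈ ell hQ hn y a, B a l = 0 := by
  obtain ⟨x, -, hax, he⟩ := hL a ha ha0
  rw [he]
  intro l hl
  obtain ⟨p, q, rfl⟩ := Submodule.mem_span_pair.1 hl
  simp [QuadraticMap.polar_add_right, QuadraticMap.polar_smul_right, polar_self_zero ha, hax]

theorem finrank_ell {a : Vec} (ha : Q a = 0) (ha0 : a ≠ 0) : finrank F (ell hQ hn y a) = 2 := by
  obtain ⟨x, hx, -, he⟩ := hL a ha ha0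
  rw [he]
  have hli : LinearIndependent F ![a, x] :=
    (LinearIndependent.pair_iff' ha0).2 fun c hc => hx (Submodule.mem_span_singleton.2 ⟨c, hc⟩)
  have h := finrank_span_eq_card hli
  rwa [Fintype.card_fin, show Set.range ![a, x] = {a, x} by
    simp [Matrix.range_cons, Matrix.range_empty, Set.pair_comm]] at h

theorem ell_symm {a d : Vec} (ha : Q a = 0) (ha0 : a ≠ 0) (hd : Q d = 0) (hd0 : d ≠ 0)
    (h : d ∈ perp Q (ell hQ hn y a)) : a ∈ perp Q (ell hQ hn y d) := by
  have had : B a d = 0 := mem_perp.1 h a (self_mem_ell hL ha ha0)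
  refine mem_perp.2 fun l hl => ?_
  induction hl using Submodule.span_induction with
  | mem u hu =>
    by_contra h0
    obtain ⟨b, hb⟩ := exists_tr_ne h0
    have hbd : b • d ∈ perp Q (ell hQ hn y a) := Submodule.smul_mem _ b h
    obtain ⟨h1, h2⟩ := fix_of_perp ha hbd
    have hda : B d (-(b • a)) = 0 := by
      rw [QuadraticMap.polar_neg_right, QuadraticMap.polar_smul_right, QuadraticMap.polar_comm, had]
      simp
    have e : el hQ hn a (b • d) = el hQ hn d (-(b • a)) := by
      refine Subtype.ext ?_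
      show Ei Q a (b • d) = Ei Q d (-(b • a))
      rw [← Ei_smul b ha had, Ei_swap (by rw [Orth.map_smul', ha, mul_zero]) hd
        (by rw [QuadraticMap.polar_smul_left, had, smul_zero])]
    rw [e] at h2
    have := hu _ ((mem_Xs hQ hn hd).2 ⟨hda, h2⟩)
    rw [QuadraticMap.polar_neg_right, QuadraticMap.polar_smul_right, map_neg, neg_eq_zero,
      smul_eq_mul] at this
    exact hb this
  | zero => simp [QuadraticMap.polar]
  | add u v _ _ h1 h2 => rw [QuadraticMap.polar_add_left, h1, h2, add_zero]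
  | smul c u _ h1 => rw [QuadraticMap.polar_smul_left, h1, smul_zero]

theorem ell_near {a d : Vec} (ha : Q a = 0) (ha0 : a ≠ 0) (hd : Q d = 0) (hd0 : d ≠ 0)
    (h : d ∈ perp Q (ell hQ hn y a)) :
    a ∈ ell hQ hn y d ∨ ell hQ hn y d ≤ ell hQ hn y a ⊔ Ln d := by
  by_cases hm : a ∈ ell hQ hn y d
  · exact Or.inl hm
  refine Or.inr fun l hl => ?_
  rw [← perp_perp hQ (ell hQ hn y a ⊔ Ln d)]
  refine mem_perp.2 fun w hw => ?_
  have hwd : B d w = 0 :=
    mem_perp.1 hw d (Submodule.mem_sup_right (Submodule.mem_span_singleton_self d))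
  obtain ⟨haw, hfix⟩ := fix_of_perp ha (mem_perp.2 fun u hu =>
    mem_perp.1 hw u (Submodule.mem_sup_left hu) : w ∈ perp Q (ell hQ hn y a))
  have hda : B d a = 0 := by
    rw [QuadraticMap.polar_comm]; exact mem_perp.1 h a (self_mem_ell hL ha ha0)
  have hfd : act (el hQ hn a w).1 d = (1 : F) • d := by
    rw [one_smul]; exact act_Ei_fix ha haw hda hwd
  have hla : B l a = 0 := mem_perp.1 (ell_symm hL ha ha0 hd hd0 h) l hl
  have h2 := Submodule.sub_mem _ (ell_move hd hfix one_ne_zero hd hfd hl) hl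
  rw [show act (el hQ hn a w).1 l = act (Ei Q a w) l from rfl, act_Ei_perp ha haw hla,
    sub_sub_cancel_left, ← neg_smul] at h2
  rw [QuadraticMap.polar_comm]
  by_contra h0
  refine hm ?_
  have := Submodule.smul_mem _ (-B l w)⁻¹ h2
  rwa [smul_smul, inv_mul_cancel₀ (neg_ne_zero.2 h0), one_smul] at this

/-- Points of a totally singular `ell` share it. -/
theorem ell_eq_of_ts {a : Vec} (ha : Q a = 0) (ha0 : a ≠ 0) (hts : ∀ v ∈ ell hQ hn y a, Q v = 0)
    {u : Vec} (hu : u ∈ ell hQ hn y a) (hu0 : u ≠ 0) : ell hQ hn y u = ell hQ hn y a := by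
  have hQu := hts u hu
  by_cases hua : u ∈ Ln a
  · obtain ⟨k, rfl⟩ := Submodule.mem_span_singleton.1 hua
    exact ell_smul ha (fun h => hu0 (by rw [h, zero_smul]))
  have hau : u ∈ perp Q (ell hQ hn y a) := mem_perp.2 fun l hl => polar_of_sing hts hl hu
  rcases ell_near hL ha ha0 hQu hu0 hau with h | h
  · have hspan : Submodule.span F ({a, u} : Set Vec) ≤ ell hQ hn y u ⊓ ell hQ hn y a := by
      rw [Submodule.span_le]
      rintro v (rfl | rfl)
      · exact ⟨h, self_mem_ell hL ha ha0⟩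
      · exact ⟨self_mem_ell hL hQu hu0, hu⟩
    have h2 : finrank F ↥(Submodule.span F ({a, u} : Set Vec)) = 2 := by
      have hli : LinearIndependent F ![a, u] :=
        (LinearIndependent.pair_iff' ha0).2 fun c hc => hua (Submodule.mem_span_singleton.2 ⟨c, hc⟩)
      have h3 := finrank_span_eq_card hli
      rwa [Fintype.card_fin, show Set.range ![a, u] = {a, u} by
        simp [Matrix.range_cons, Matrix.range_empty, Set.pair_comm]] at h3
    rw [← Submodule.eq_of_le_of_finrank_eq (hspan.trans inf_le_left) (by rw [h2, finrank_ell hL hQu hu0]),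
      ← Submodule.eq_of_le_of_finrank_eq (hspan.trans inf_le_right) (by rw [h2, finrank_ell hL ha ha0])]
  · refine Submodule.eq_of_le_of_finrank_eq (h.trans (sup_le le_rfl ?_))
      (by rw [finrank_ell hL hQu hu0, finrank_ell hL ha ha0])
    rwa [Submodule.span_singleton_le_iff_mem]

theorem finrank_le_of_sup {U V : Submodule F Vec} (d : Vec) (hV : finrank F V = 2) (h : U ≤ V ⊔ Ln d) :
    finrank F ↥(U ⊔ V) ≤ 3 := by
  have h1 := Submodule.finrank_mono (show U ⊔ V ≤ V ⊔ Ln d from sup_le h le_sup_left)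
  have h2 := Submodule.finrank_add_le_finrank_add_finrank V (Ln d)
  have : finrank F ↥(Ln d) ≤ 1 := finrank_span1 d
  omega

/-- The singular points of each `ell` are the centre only. -/
theorem sing_mem_ell {a : Vec} (ha : Q a = 0) (ha0 : a ≠ 0) {v : Vec} (hv : v ∈ ell hQ hn y a)
    (hQv : Q v = 0) : v ∈ Ln a := by
  by_contra hva
  obtain ⟨x, hx, hax, he⟩ := hL a ha ha0
  have hQx : Q x = 0 := by
    rw [he] at hv
    obtain ⟨p, q, rfl⟩ := Submodule.mem_span_pair.1 hv
    rw [map_add', Orth.map_smul', Orth.map_smul', ha, QuadraticMap.polar_smul_left,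
      QuadraticMap.polar_smul_right, hax] at hQv
    have hq : q ≠ 0 := fun h => hva (by
      rw [h, zero_smul, add_zero]; exact Submodule.smul_mem _ p (Submodule.mem_span_singleton_self a))
    simpa [hq] using hQv
  have hts : ∀ v ∈ ell hQ hn y a, Q v = 0 := by
    rw [he]
    intro v hv
    obtain ⟨p, q, rfl⟩ := Submodule.mem_span_pair.1 hv
    simp [map_add', Orth.map_smul', ha, hQx, QuadraticMap.polar_smul_left,
      QuadraticMap.polar_smul_right, hax]
  have hdim := finrank_ell hL ha ha0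
  obtain ⟨d, hdP, hQd, hdS, hd0⟩ := exists_sing_out hQ (ell hQ hn y a) (by omega)
  have had : B a d = 0 := mem_perp.1 hdP a (self_mem_ell hL ha ha0)
  rcases ell_near hL ha ha0 hQd hd0 hdP with h | h
  · have hli : LinearIndependent F ![d, a] := (LinearIndependent.pair_iff' hd0).2 fun c hc => hdS (by
      have hc0 : c ≠ 0 := fun h0 => ha0 (by rw [← hc, h0, zero_smul])
      have := Submodule.smul_mem (ell hQ hn y a) c⁻¹ (self_mem_ell hL ha ha0)
      have e0 : c⁻¹ • a = d := by rw [← hc, smul_smul, inv_mul_cancel₀ hc0, one_smul]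
      rwa [e0] at this)
    have h3 := finrank_span_eq_card hli
    rw [Fintype.card_fin, show Set.range ![d, a] = {d, a} by
      simp [Matrix.range_cons, Matrix.range_empty, Set.pair_comm]] at h3
    have e : Submodule.span F ({d, a} : Set Vec) = ell hQ hn y d := by
      refine Submodule.eq_of_le_of_finrank_eq ?_ (by rw [h3, finrank_ell hL hQd hd0])
      rw [Submodule.span_le]
      rintro v (rfl | rfl)
      exacts [self_mem_ell hL hQd hd0, h]
    have htsd : ∀ v ∈ ell hQ hn y d, Q v = 0 := by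
      rw [← e]
      intro v hv
      obtain ⟨p, q, rfl⟩ := Submodule.mem_span_pair.1 hv
      simp [map_add', Orth.map_smul', ha, hQd, QuadraticMap.polar_smul_left,
        QuadraticMap.polar_smul_right, QuadraticMap.polar_comm _ d a, had]
    refine hdS ?_
    rw [ell_eq_of_ts hL hQd hd0 htsd h ha0]
    exact self_mem_ell hL hQd hd0
  · have hts' : ∀ v ∈ ell hQ hn y a ⊔ Ln d, Q v = 0 := by
      intro v hv
      obtain ⟨u, hu, r, hr, rfl⟩ := Submodule.mem_sup.1 hv
      obtain ⟨c, rfl⟩ := Submodule.mem_span_singleton.1 hr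
      simp [map_add', Orth.map_smul', hts u hu, hQd, QuadraticMap.polar_smul_right,
        mem_perp.1 hdP u hu]
    obtain ⟨u, hu, hu0⟩ := Submodule.exists_mem_ne_zero_of_ne_bot
      (p := ell hQ hn y a ⊓ ell hQ hn y d) fun hb => by
      have h1 := Submodule.finrank_sup_add_finrank_inf_eq (ell hQ hn y d) (ell hQ hn y a)
      rw [inf_comm, hb, finrank_bot, finrank_ell hL hQd hd0, hdim] at h1
      have := finrank_le_of_sup hL d hdim h
      omega
    refine hdS ?_
    rw [← ell_eq_of_ts hL ha ha0 hts hu.1 hu0,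
      ell_eq_of_ts hL hQd hd0 (fun v hv => hts' v (h hv)) hu.2 hu0]
    exact self_mem_ell hL hQd hd0

/-- A neighbour of a centre. -/
theorem nb_facts {a d : Vec} (ha : Q a = 0) (ha0 : a ≠ 0) (hd : Q d = 0) (hda : d ∉ Ln a)
    (hP : d ∈ perp Q (ell hQ hn y a)) :
    d ≠ 0 ∧ ell hQ hn y d ≤ ell hQ hn y a ⊔ Ln d ∧ a ∉ Ln d ∧
      ∃ x ∈ ell hQ hn y a, x ∈ ell hQ hn y d ∧ Q x ≠ 0 := by
  have hd0 : d ≠ 0 := fun h => hda (by rw [h]; exact zero_mem _)
  have had : a ∉ Ln d := fun h => by
    obtain ⟨k, hk⟩ := Submodule.mem_span_singleton.1 h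
    have hk0 : k ≠ 0 := fun h0 => ha0 (by rw [← hk, h0, zero_smul])
    exact hda (Submodule.mem_span_singleton.2
      ⟨k⁻¹, by rw [← hk, smul_smul, inv_mul_cancel₀ hk0, one_smul]⟩)
  have h : ell hQ hn y d ≤ ell hQ hn y a ⊔ Ln d :=
    (ell_near hL ha ha0 hd hd0 hP).resolve_left fun h => had (sing_mem_ell hL hd hd0 h ha)
  refine ⟨hd0, h, had, ?_⟩
  obtain ⟨x, hx, hx0⟩ := Submodule.exists_mem_ne_zero_of_ne_bot
    (p := ell hQ hn y a ⊓ ell hQ hn y d) fun hb => by
    have h1 := Submodule.finrank_sup_add_finrank_inf_eq (ell hQ hn y d) (ell hQ hn y a)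
    rw [inf_comm, hb, finrank_bot, finrank_ell hL hd hd0, finrank_ell hL ha ha0] at h1
    have := finrank_le_of_sup hL d (finrank_ell hL ha ha0) h
    omega
  refine ⟨x, hx.1, hx.2, fun hQx => ?_⟩
  obtain ⟨k, rfl⟩ := Submodule.mem_span_singleton.1 (sing_mem_ell hL ha ha0 hx.1 hQx)
  have hk : k ≠ 0 := fun h => hx0 (by rw [h, zero_smul])
  refine had ?_
  have := Submodule.smul_mem (Ln d) k⁻¹ (sing_mem_ell hL hd hd0 hx.2 hQx)
  rwa [smul_smul, inv_mul_cancel₀ hk, one_smul] at this

/-- A common non-orthogonal neighbour. -/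
theorem exists_mid {a d e : Vec} (ha : Q a = 0) (ha0 : a ≠ 0) (hd : Q d = 0) (hda : d ∉ Ln a)
    (hdP : d ∈ perp Q (ell hQ hn y a)) (he : Q e = 0) (hea : e ∉ Ln a)
    (heP : e ∈ perp Q (ell hQ hn y a)) :
    ∃ f ∈ perp Q (ell hQ hn y a), Q f = 0 ∧ B d f ≠ 0 ∧ B e f ≠ 0 := by
  set P := perp Q (ell hQ hn y a) with hP
  have hout : ∀ v, Q v = 0 → v ∉ Ln a → v ∉ ell hQ hn y a :=
    fun v h1 h2 h3 => h2 (sing_mem_ell hL ha ha0 h3 h1)
  obtain ⟨y₁, hy₁, hdy⟩ := Max.Orth.not_mem_perp hQ (hout d hd hda)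
  obtain ⟨a₁, ha₁, hQa₁, hda₁⟩ := exists_partner_in hdP hy₁ hd hdy
  obtain ⟨y₂, hy₂, hey⟩ := Max.Orth.not_mem_perp hQ (hout e he hea)
  obtain ⟨a₂, ha₂, hQa₂, hea₂⟩ := exists_partner_in heP hy₂ he hey
  by_cases h1 : B e a₁ = 0
  swap
  · exact ⟨a₁, ha₁, hQa₁, by simp [hda₁], h1⟩
  by_cases h2 : B d a₂ = 0
  swap
  · exact ⟨a₂, ha₂, hQa₂, h2, by simp [hea₂]⟩
  by_cases h3 : B d e = 0
  · refine ⟨a₁ + a₂ + (-B a₁ a₂) • d, Submodule.add_mem _ (Submodule.add_mem _ ha₁ ha₂)
      (Submodule.smul_mem _ _ hdP), ?_, ?_, ?_⟩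
    · simp only [map_add', Orth.map_smul', QuadraticMap.polar_add_left,
        QuadraticMap.polar_smul_right, hd, hQa₁, hQa₂, QuadraticMap.polar_comm _ a₁ d,
        QuadraticMap.polar_comm _ a₂ d, hda₁, h2, smul_eq_mul]
      ring
    · simp [QuadraticMap.polar_add_right, QuadraticMap.polar_smul_right, hda₁, h2,
        polar_self_zero hd]
    · simp [QuadraticMap.polar_add_right, QuadraticMap.polar_smul_right, h1, hea₂,
        QuadraticMap.polar_comm _ e d, h3]
  obtain ⟨x, hx, hQx⟩ : ∃ x ∈ P ⊓ sperp Q {d, e}, Q x ≠ 0 := by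
    by_contra hc
    push Not at hc
    set T := P ⊓ sperp Q {d, e} with hT
    set W := ell hQ hn y a ⊔ Submodule.span F ({d, e} : Set Vec) with hW
    have eT : T = perp Q W := by
      ext t
      simp only [hT, hP, hW, Submodule.mem_inf, mem_perp]
      refine ⟨fun h w hw => ?_, fun h => ⟨fun w hw => h w (Submodule.mem_sup_left hw),
        fun w hw => h w (Submodule.mem_sup_right hw)⟩⟩
      obtain ⟨p, hp, r, hr, rfl⟩ := Submodule.mem_sup.1 hw
      rw [QuadraticMap.polar_add_left, h.1 p hp, h.2 r hr, add_zero]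
    have hle : T ≤ Ln a := by
      intro t ht
      have htP : t ∈ perp Q W := eT ▸ ht
      have htW : t ∈ W := by
        rw [← perp_perp hQ W]
        exact mem_perp.2 fun s hs => polar_of_sing hc (eT ▸ hs) ht
      obtain ⟨p, hp, r, hr, rfl⟩ := Submodule.mem_sup.1 htW
      obtain ⟨γ, δ, rfl⟩ := Submodule.mem_span_pair.1 hr
      obtain ⟨htd, hte⟩ := mem_sperp2.1 ht.2
      simp [QuadraticMap.polar_add_right, QuadraticMap.polar_smul_right, polar_self_zero hd,
        QuadraticMap.polar_comm _ d p, mem_perp.1 hdP p hp, h3] at htd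
      simp [QuadraticMap.polar_add_right, QuadraticMap.polar_smul_right, polar_self_zero he,
        QuadraticMap.polar_comm _ e p, mem_perp.1 heP p hp, QuadraticMap.polar_comm _ e d, h3] at hte
      have h0 := hc _ ht
      simp only [htd, hte, zero_smul, add_zero] at h0 ⊢
      exact sing_mem_ell hL ha ha0 hp h0
    have d1 := Submodule.finrank_mono hle
    rw [eT, finrank_span_singleton ha0] at d1
    have d2 := finrank_perp hQ W
    have d3 := Submodule.finrank_add_le_finrank_add_finrank (ell hQ hn y a)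
      (Submodule.span F ({d, e} : Set Vec))
    have := finrank_span2 (F := F) d e
    rw [← hW, finrank_ell hL ha ha0] at d3
    omega
  obtain ⟨e1, e2⟩ := mem_sperp2.1 hx.2
  set e' := (B d e)⁻¹ • e with he'
  have e3 : B d e' = 1 := by
    rw [he', QuadraticMap.polar_smul_right, smul_eq_mul, inv_mul_cancel₀ h3]
  refine ⟨e' + x + (-Q x) • d, Submodule.add_mem _ (Submodule.add_mem _
    (Submodule.smul_mem _ _ heP) hx.1) (Submodule.smul_mem _ _ hdP), ?_, ?_, ?_⟩
  · have e4 : B e' x = 0 := by rw [he', QuadraticMap.polar_smul_left, e2, smul_zero]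
    have e5 : Q e' = 0 := by rw [he', Orth.map_smul', he, mul_zero]
    simp only [map_add', Orth.map_smul', QuadraticMap.polar_add_left,
      QuadraticMap.polar_smul_right, hd, e4, e5, QuadraticMap.polar_comm _ e' d,
      QuadraticMap.polar_comm _ x d, e1, e3, smul_eq_mul]
    ring
  · simp [QuadraticMap.polar_add_right, QuadraticMap.polar_smul_right, e3, e1, polar_self_zero hd]
  · rw [he']
    simp [QuadraticMap.polar_add_right, QuadraticMap.polar_smul_right, e2, polar_self_zero he,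
      QuadraticMap.polar_comm _ e d, h3, hQx]

/-- The common point does not depend on the neighbour. -/
theorem point_const {a d e : Vec} (ha : Q a = 0) (ha0 : a ≠ 0) (hd : Q d = 0) (hda : d ∉ Ln a)
    (hdP : d ∈ perp Q (ell hQ hn y a)) (he : Q e = 0) (hea : e ∉ Ln a)
    (heP : e ∈ perp Q (ell hQ hn y a)) {x : Vec} (hxa : x ∈ ell hQ hn y a)
    (hxd : x ∈ ell hQ hn y d) : x ∈ ell hQ hn y e := by
  obtain ⟨f, hfP, hf, hdf, hef⟩ := exists_mid hL ha ha0 hd hda hdP he hea heP
  have hfa : f ∉ Ln a := fun h => by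
    obtain ⟨k, rfl⟩ := Submodule.mem_span_singleton.1 h
    rw [QuadraticMap.polar_smul_right, QuadraticMap.polar_comm,
      mem_perp.1 hdP a (self_mem_ell hL ha ha0), smul_zero] at hdf
    exact hdf rfl
  obtain ⟨hf0, hfle, -, -⟩ := nb_facts hL ha ha0 hf hfa hfP
  set d' := (B d f)⁻¹ • d
  set e' := (B e f)⁻¹ • e
  have hd' : Q d' = 0 := by simp [d', Orth.map_smul', hd]
  have he' : Q e' = 0 := by simp [e', Orth.map_smul', he]
  obtain ⟨h, hh⟩ := Max.Orth.exists_eich_move (a := f) (u := d') (v := e') hf (by rw [hd', he'])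
    (by simp [d', QuadraticMap.polar_smul_left, inv_mul_cancel₀ hdf])
    (by simp [e', QuadraticMap.polar_smul_left, inv_mul_cancel₀ hef])
  have hwP : e' - d' ∈ perp Q (ell hQ hn y a) :=
    Submodule.sub_mem _ (Submodule.smul_mem _ _ heP) (Submodule.smul_mem _ _ hdP)
  have hwF : e' - d' ∈ perp Q (ell hQ hn y f) := mem_perp.2 fun l hl => by
    obtain ⟨p, hp, r, hr, rfl⟩ := Submodule.mem_sup.1 (hfle hl)
    obtain ⟨k, rfl⟩ := Submodule.mem_span_singleton.1 hr
    rw [QuadraticMap.polar_add_left, QuadraticMap.polar_smul_left, h, mem_perp.1 hwP p hp]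
    simp
  obtain ⟨-, hfix⟩ := fix_of_perp hf hwF
  have hm : act (el hQ hn f (e' - d')).1 d' = (1 : F) • e' := by
    rw [one_smul]
    show act (Ei Q f (e' - d')) d' = e'
    rw [Ei_eq hf h, hh]
  have hx := ell_move hd' hfix one_ne_zero he' hm
    (l := x) (by rw [show d' = (B d f)⁻¹ • d from rfl, ell_smul hd (inv_ne_zero hdf)]; exact hxd)
  rw [show act (el hQ hn f (e' - d')).1 x = x from act_Ei_fix hf h
    (mem_perp.1 hfP x hxa) (mem_perp.1 hwP x hxa)] at hx
  rwa [show e' = (B e f)⁻¹ • e from rfl, ell_smul he (inv_ne_zero hef)] at hx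

/-- The final contradiction. -/
theorem lines_false : False := by
  obtain ⟨a, -, ha, -, ha0⟩ := exists_sing_out hQ (⊥ : Submodule F Vec) (by rw [finrank_bot]; omega)
  obtain ⟨d, hdP, hd, hdS, hd0⟩ := exists_sing_out hQ (ell hQ hn y a)
    (by have := finrank_ell hL ha ha0; omega)
  have hda : d ∉ Ln a := fun h => hdS
    (Submodule.span_le.2 (Set.singleton_subset_iff.2 (self_mem_ell hL ha ha0)) h)
  obtain ⟨-, -, -, x, hxa, hxd, hQx⟩ := nb_facts hL ha ha0 hd hda hdP
  have hx_span : ∀ b, Q b = 0 → b ≠ 0 → x ∈ ell hQ hn y b →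
      ∀ e, B b e = 0 → B x e = 0 → e ∈ perp Q (ell hQ hn y b) := by
    intro b hb hb0 hxb e hbe hxe
    have hli : LinearIndependent F ![b, x] := (LinearIndependent.pair_iff' hb0).2 fun c hc =>
      hQx (by rw [← hc, Orth.map_smul', hb, mul_zero])
    have h3 := finrank_span_eq_card hli
    rw [Fintype.card_fin, show Set.range ![b, x] = {b, x} by
      simp [Matrix.range_cons, Matrix.range_empty, Set.pair_comm]] at h3
    have e' : Submodule.span F ({b, x} : Set Vec) = ell hQ hn y b := by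
      refine Submodule.eq_of_le_of_finrank_eq ?_ (by rw [h3, finrank_ell hL hb hb0])
      rw [Submodule.span_le]
      rintro v (rfl | rfl)
      exacts [self_mem_ell hL hb hb0, hxb]
    rw [← e']
    exact mem_sperp2.2 ⟨hbe, hxe⟩
  set P : Vec → Prop := fun b => x ∈ ell hQ hn y b ∧
    ∀ e, Q e = 0 → e ∉ Ln b → e ∈ perp Q (ell hQ hn y b) → x ∈ ell hQ hn y e with hP
  have hPa : P a := ⟨hxa, fun e he hea heP => point_const hL ha ha0 hd hda hdP he hea heP hxa hxd⟩
  have step : ∀ b e, Q b = 0 → b ≠ 0 → P b → Q e = 0 → e ≠ 0 → e ∉ Ln b → B b e = 0 → B x e = 0 →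
      P e := by
    intro b e hb hb0 hPb he he0 heb hbe hxe
    have heP := hx_span b hb hb0 hPb.1 e hbe hxe
    obtain ⟨-, -, hbe', -⟩ := nb_facts hL hb hb0 he heb heP
    have hxe' := hPb.2 e he heb heP
    exact ⟨hxe', fun g hg hge hgP =>
      point_const hL he he0 hb hbe' (ell_symm hL hb hb0 he he0 heP) hg hge hgP hxe' hPb.1⟩
  have all : ∀ e, Q e = 0 → e ≠ 0 → B x e = 0 → x ∈ ell hQ hn y e := by
    intro e he he0 hxe
    by_cases hae : B a e = 0
    · by_cases hea : e ∈ Ln a
      · obtain ⟨k, rfl⟩ := Submodule.mem_span_singleton.1 hea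
        rw [ell_smul ha (fun h => he0 (by rw [h, zero_smul]))]
        exact hxa
      · exact (step a e ha ha0 hPa he he0 hea hae hxe).1
    obtain ⟨c, hc, hc0, hQc⟩ := exists_sing hQ (S := sperp Q {a, e, x}) (by
      have h1 := finrank_perp hQ (Submodule.span F ({a, e, x} : Set Vec))
      have := finrank_span3 (F := F) a e x
      show 3 ≤ finrank F ↥(perp Q _)
      omega)
    obtain ⟨hac, hec, hxc⟩ := mem_sperp3.1 hc
    have hca : c ∉ Ln a := fun h => by
      obtain ⟨k, rfl⟩ := Submodule.mem_span_singleton.1 h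
      rw [QuadraticMap.polar_smul_right, QuadraticMap.polar_comm, smul_eq_mul, mul_eq_zero] at hec
      exact hc0 (by rw [hec.resolve_right hae, zero_smul])
    have hPc := step a c ha ha0 hPa hQc hc0 hca hac hxc
    have hec' : e ∉ Ln c := fun h => by
      obtain ⟨k, rfl⟩ := Submodule.mem_span_singleton.1 h
      rw [QuadraticMap.polar_smul_right, hac, smul_zero] at hae
      exact hae rfl
    exact (step c e hQc hc0 hPc he he0 hec' (by rw [QuadraticMap.polar_comm]; exact hec) hxe).1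
  obtain ⟨e, he, hex⟩ : ∃ e, Q e = 0 ∧ B x e ≠ 0 := by
    by_contra hcon
    push Not at hcon
    have hle := perp_le_of_sing hQ (⊥ : Submodule F Vec) (by rw [finrank_bot]; omega)
      (T := LinearMap.ker (polB Q x)) (fun v _ hv => hcon v hv)
    have hx0 : x = 0 := hQ.1 x fun v => hle (mem_perp.2 fun w hw => by
      rw [(Submodule.mem_bot F).1 hw]; simp [QuadraticMap.polar])
    exact hQx (by rw [hx0, QuadraticMap.map_zero])
  have he0 : e ≠ 0 := fun h => hex (by rw [h]; simp [QuadraticMap.polar])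
  obtain ⟨c, hc, hc0, hQc⟩ := exists_sing hQ (S := perp Q (ell hQ hn y e ⊔ Ln x)) (by
    have h1 := finrank_perp hQ (ell hQ hn y e ⊔ Ln x)
    have h2 := Submodule.finrank_add_le_finrank_add_finrank (ell hQ hn y e) (Ln x)
    have : finrank F ↥(Ln x) ≤ 1 := finrank_span1 x
    rw [finrank_ell hL he he0] at h2
    omega)
  have hxc : B x c = 0 :=
    mem_perp.1 hc x (Submodule.mem_sup_right (Submodule.mem_span_singleton_self x))
  have hcP : c ∈ perp Q (ell hQ hn y e) :=
    mem_perp.2 fun w hw => mem_perp.1 hc w (Submodule.mem_sup_left hw)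
  exact hex (mem_perp.1 (ell_symm hL he he0 hQc hc0 hcP) x (all c hQc hc0 hxc))

end Cfsg.Agent.Classical.OrthMinIndex
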