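import Cfsg.Agent.Lib.Classical.OrthMinIndex.Classify
import Cfsg.Agent.Lib.Classical.OrthMinIndex.Centres
import Cfsg.Agent.Lib.Classical.OrthMinIndex.Lifts
import Cfsg.Agent.Lib.Classical.OrthMinIndex.Lines

/-!
# The smallest non-trivial action of an orthogonal group
-/

set_option autoImplicit false
set_option linter.unusedSectionVars false
set_option linter.unusedSimpArgs false
set_option maxHeartbeats 400000

namespace Cfsg.Agent.Classical.OrthMinIndex

open Cfsg.Agent.Forms Cfsg.Agent.Forms.QuadStd Cfsg.Agent.Forms.Reflections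
open Cfsg.Agent.Classical.Orth Module
open Cfsg.Agent.Forms.Max.Orth (perp mem_perp finrank_perp perp_perp polar_of_sing)

open scoped _root_.Classical

variable {F : Type*} [Field F] [Fintype F] {ι : Type} [Fintype ι] [DecidableEq ι]
variable {Q : QuadraticForm F (ι → F)}

local notation "Vec" => (ι → F)
local notation "B" => QuadraticMap.polar Q

theorem span_sing_set {s : Set Vec} (h : ∀ u ∈ s, Q u = 0) (h' : ∀ u ∈ s, ∀ v ∈ s, B u v = 0) :
    ∀ w ∈ Submodule.span F s, Q w = 0 := by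
  have hB : ∀ w ∈ Submodule.span F s, ∀ v ∈ s, B w v = 0 := by
    intro w hw
    induction hw using Submodule.span_induction with
    | mem u hu => exact h' u hu
    | zero => intro v _; simp [QuadraticMap.polar]
    | add p r _ _ hp hr => intro v hv; rw [QuadraticMap.polar_add_left, hp v hv, hr v hv, add_zero]
    | smul c p _ hp => intro v hv; rw [QuadraticMap.polar_smul_left, hp v hv, smul_zero]
  intro w hw
  induction hw using Submodule.span_induction with
  | mem u hu => exact h u hu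
  | zero => simp
  | add p r hp hr h1 h2 =>
    have key : B p r = 0 := by
      clear h2
      induction hr using Submodule.span_induction with
      | mem v hv => exact hB p hp v hv
      | zero => simp [QuadraticMap.polar]
      | add u v _ _ hu hv => rw [QuadraticMap.polar_add_right, hu, hv, add_zero]
      | smul c u _ hu => rw [QuadraticMap.polar_smul_right, hu, smul_zero]
    rw [map_add', h1, h2, key]; simp
  | smul c p _ hp => rw [Orth.map_smul', hp, mul_zero]

theorem finrank_pair {a x : Vec} (ha0 : a ≠ 0) (hxa : x ∉ Ln a) :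
    finrank F ↥(Submodule.span F ({a, x} : Set Vec)) = 2 := by
  have hli : LinearIndependent F ![a, x] :=
    (LinearIndependent.pair_iff' ha0).2 fun c hc => hxa (Submodule.mem_span_singleton.2 ⟨c, hc⟩)
  have h := finrank_span_eq_card hli
  rwa [Fintype.card_fin, show Set.range ![a, x] = {a, x} by
    simp [Matrix.range_cons, Matrix.range_empty, Set.pair_comm]] at h

/-- Totally singular subspaces through a point have many translates. -/
theorem sub_count (hQ : (QuadraticMap.polarBilin Q).Nondegenerate) (hn : 7 ≤ Fintype.card ι)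
    {a : Vec} (ha : Q a = 0) (ha0 : a ≠ 0) (W : Submodule F Vec) (haW : a ∈ W)
    (hW : ∀ v ∈ W, Q v = 0) (hd : 3 ≤ finrank F W) :
    nM Q ≤ (Tr Q a W.toAddSubgroup).card * ((Fintype.card F ^ finrank F W - Fintype.card F) *
      (Fintype.card F ^ finrank F W - Fintype.card F ^ 2)) := by
  obtain ⟨x, hx, hxa⟩ : ∃ x ∈ W, x ∉ Ln a := SetLike.not_le_iff_exists.1 fun h => by
    have h1 := Submodule.finrank_mono h
    have : finrank F ↥(Ln a) ≤ 1 := finrank_span1 a
    omega
  obtain ⟨v, hv, hvs⟩ : ∃ v ∈ W, v ∉ Submodule.span F ({a, x} : Set Vec) :=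
    SetLike.not_le_iff_exists.1 fun h => by
      have h1 := Submodule.finrank_mono h
      have := finrank_span2 (F := F) a x
      omega
  have hUa : ∀ u ∈ Ln a, u ∈ W.toAddSubgroup :=
    fun u hu => Submodule.span_le.2 (Set.singleton_subset_iff.2 haW) hu
  have hUp : ∀ u ∈ W.toAddSubgroup, B a u = 0 := fun u hu => polar_of_sing hW haW hu
  rw [← card_pairs hQ ha ha0 (hW x hx) (hUp x hx) hxa, ← natCard_sub]
  refine ts_bound hQ hn ha ha0 hUa hUp hx hv (hW x hx) (hW v hv) (polar_of_sing hW hx hv) hxa hvs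
    (L := Fintype.card F ^ 2) fun U' hU' hxU' => ?_
  obtain ⟨g, hg, t, ht, hga, rfl⟩ := mem_Tr.1 hU'
  have hsm : ∀ c : F, ∀ w ∈ W.toAddSubgroup.map (sA g t⁻¹),
      c • w ∈ W.toAddSubgroup.map (sA g t⁻¹) := by
    rintro c _ ⟨u, hu, rfl⟩
    exact ⟨c • u, W.smul_mem c hu, by rw [sA_apply, sA_apply, map_smul, smul_comm]⟩
  have hle : (Submodule.span F ({a, x} : Set Vec)).toAddSubgroup ≤
      W.toAddSubgroup.map (sA g t⁻¹) := by
    intro w hw
    obtain ⟨α', β', rfl⟩ := Submodule.mem_span_pair.1 hw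
    exact add_mem (hsm _ _ (line_le_Tr hUa (mem_Tr.2 ⟨g, hg, t, ht, hga, rfl⟩) a
      (Submodule.mem_span_singleton_self a))) (hsm _ _ hxU')
  rw [inf_eq_right.2 hle, natCard_sub, finrank_pair ha0 hxa]

variable {α : Type*} [Fintype α] [MulAction (Cfsg.Omega F ⇑Q) α]
variable (hQ : (QuadraticMap.polarBilin Q).Nondegenerate) (hn : 7 ≤ Fintype.card ι)

theorem act_inv_eq (g : Cfsg.Omega F ⇑Q) {a b : Vec} (h : act g.1 a = b) :
    act (g⁻¹ : Cfsg.Omega F ⇑Q).1 b = a := by
  rw [← h, Subgroup.coe_inv, Spinor.act_inv_cancel]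

theorem isA_move {a a' : Vec} (ha : Q a = 0) (ha' : Q a' = 0) (g : Cfsg.Omega F ⇑Q) {t : F}
    (ht : t ≠ 0) (hga : act g.1 a = t • a') {y : α} (h : IsA hQ hn y a) :
    IsA hQ hn (g • y) a' := by
  intro w hw
  rw [Xs_move hQ hn ha g ht ha' hga] at hw
  obtain ⟨v, hv, rfl⟩ := hw
  obtain ⟨k, rfl⟩ := Submodule.mem_span_singleton.1 (h v hv)
  rw [sA_apply, map_smul, hga, smul_smul, smul_smul]
  exact Submodule.smul_mem _ _ (Submodule.mem_span_singleton_self a')

theorem isF_move {a a' : Vec} (ha : Q a = 0) (ha' : Q a' = 0) (g : Cfsg.Omega F ⇑Q) {t : F}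
    (ht : t ≠ 0) (hga : act g.1 a = t • a') {y : α} (h : IsF hQ hn y a) :
    IsF hQ hn (g • y) a' := by
  intro w hw
  suffices hm : w ∈ Xs hQ hn (g • y) a' from ((mem_Xs hQ hn ha').1 hm).2
  rw [Xs_move hQ hn ha g ht ha' hga]
  have hv : B a (t⁻¹ • act g.1⁻¹ w) = 0 := by
    rw [QuadraticMap.polar_smul_right, ← act_polar g.1, hga, act_cancel_inv,
      QuadraticMap.polar_smul_left, hw, smul_zero, smul_zero]
  exact ⟨_, (mem_Xs hQ hn ha).2 ⟨hv, h _ hv⟩, by
    rw [sA_apply, map_smul, act_cancel_inv, smul_smul, mul_inv_cancel₀ ht, one_smul]⟩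

theorem isF_of_Us {a : Vec} (ha : Q a = 0) {y : α} (h : ∀ u ∈ Us hQ hn y a, u ∈ Ln a) :
    IsF hQ hn y a := by
  intro w hw
  refine ((mem_Xs hQ hn ha).1 ?_).2
  rw [← ann_ann hQ (Xs hQ hn y a)]
  intro u hu
  obtain ⟨k, rfl⟩ := Submodule.mem_span_singleton.1 (h u hu)
  rw [QuadraticMap.polar_smul_right, QuadraticMap.polar_comm, hw, smul_zero, map_zero]

/-- The span of the centres whose radical fixes `y`. -/
noncomputable def Fsp (y : α) : Submodule F (ι → F) :=
  Submodule.span F {c | Q c = 0 ∧ IsF hQ hn y c}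

theorem Fsp_move (g : Cfsg.Omega F ⇑Q) (y : α) :
    Fsp hQ hn (g • y) = (Fsp hQ hn y).map (act g.1) := by
  rw [Fsp, Fsp, Submodule.map_span]
  congr 1
  ext c
  constructor
  · rintro ⟨hc, hF⟩
    refine ⟨act g.1⁻¹ c, ⟨by rw [act_map, hc], ?_⟩, act_cancel_inv g.1 c⟩
    have := isF_move hQ hn hc (show Q (act g.1⁻¹ c) = 0 by rw [act_map, hc]) g⁻¹ one_ne_zero
      (by rw [Subgroup.coe_inv, one_smul]) hF
    rwa [inv_smul_smul] at this
  · rintro ⟨d, ⟨hd, hF⟩, rfl⟩
    exact ⟨by rw [act_map, hd], isF_move hQ hn hd (by rw [act_map, hd]) g one_ne_zero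
      (by rw [one_smul]) hF⟩

theorem Qorb_sub_univ {a : Vec} (ha : Q a = 0) {y : α} :
    Qorb hQ hn y a ⊆ Korb (Q := Q) y a :=
  fun _ hv => (Qorb_sub hQ hn ha (Korb_self y a) hv).1

theorem card_Qorb_A {a : Vec} (ha : Q a = 0) (ha0 : a ≠ 0) {y : α} (h : IsA hQ hn y a) :
    (Qorb hQ hn y a).card = Fintype.card F ^ (Fintype.card ι - 2) := by
  have hX : Xs hQ hn y a = (Ln a).toAddSubgroup :=
    le_antisymm (fun w hw => h w hw) (line_le_Xs hQ hn ha y)
  have h1 := card_ann hQ (Xs hQ hn y a)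
  have h2 := card_Qorb hQ hn ha ha0 y
  rw [Us] at h2
  rw [← h2, hX, natCard_Ln ha0] at h1
  have hq : 0 < Fintype.card F := Fintype.card_pos
  refine Nat.eq_of_mul_eq_mul_right hq (Nat.eq_of_mul_eq_mul_left hq ?_)
  rw [h1, ← pow_succ, ← pow_succ']
  congr 1
  omega

theorem Qorb_disjoint {a : Vec} (ha : Q a = 0) {y z : α} (hne : z ∉ Qorb hQ hn y a) :
    Disjoint (Qorb hQ hn y a) (Qorb hQ hn z a) := by
  rw [Finset.disjoint_left]
  intro v hv hv'
  obtain ⟨w, hw, rfl⟩ := (mem_Qorb hQ hn).1 hv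
  obtain ⟨w', hw', he⟩ := (mem_Qorb hQ hn).1 hv'
  refine hne ((mem_Qorb hQ hn).2 ⟨-w' + w,
    by rw [QuadraticMap.polar_add_right, QuadraticMap.polar_neg_right, hw, hw']; simp, ?_⟩)
  rw [← el_mul hQ hn ha (by rw [QuadraticMap.polar_neg_right, hw', neg_zero]) hw, mul_smul, ← he,
    ← el_inv hQ hn ha hw', inv_smul_smul]

theorem natCard_L {a : Vec} {y : α} (h : IsL hQ hn y a) :
    Nat.card (Us hQ hn y a) ≤ Fintype.card F ^ 2 := by
  obtain ⟨x, -, -, hU⟩ := h
  refine (AddSubgroup.card_le_of_le (K := (Submodule.span F ({a, x} : Set Vec)).toAddSubgroup) hU).trans ?_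
  rw [natCard_sub]
  exact Nat.pow_le_pow_right Fintype.card_pos (finrank_span2 a x)

theorem natCard_E {a : Vec} {y : α} (h : IsE hQ hn y a) :
    Fintype.card F ^ 3 ≤ Nat.card (Us hQ hn y a) := by
  obtain ⟨-, W, hW, -, h3, -⟩ := h
  rw [hW, natCard_sub]
  exact Nat.pow_le_pow_right Fintype.card_pos h3

theorem korb_E {a : Vec} (ha : Q a = 0) (ha0 : a ≠ 0) {y : α} (h : IsE hQ hn y a) :
    Fintype.card F ^ (Fintype.card ι - 2) + 1 ≤ (Korb (Q := Q) y a).card := by
  obtain ⟨-, W, -, -, -, h5⟩ := h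
  exact Nat.le_of_mul_le_mul_left (h5.trans (orb_bound hQ hn ha ha0 y)) Fintype.card_pos

variable {T N σ : ℕ} (hS : Spec Q T N σ) [MulAction.IsPretransitive (Cfsg.Omega F ⇑Q) α]
  (h1 : 1 < Fintype.card α)
include hS h1

theorem isF_perp {y : α} {a c : Vec} (ha : Q a = 0) (hc : Q c = 0) (hFa : IsF hQ hn y a)
    (hFc : IsF hQ hn y c) : B a c = 0 := by
  by_contra hac
  obtain ⟨z, hz⟩ := Fintype.exists_ne_of_one_lt_card h1 y
  obtain ⟨g, hg⟩ := MulAction.exists_smul_eq (Cfsg.Omega F ⇑Q) y z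
  exact hz (by rw [← hg, isF_orth hQ hn ha hc hFa hFc hac g])

theorem no_F (hlt : Fintype.card α < T) {a : Vec} (ha : Q a = 0) (ha0 : a ≠ 0) (y : α) :
    ¬ IsF hQ hn y a := by
  intro hF
  set q := Fintype.card F with hq
  set S := Fsp hQ hn y with hSdef
  have hSts : ∀ v ∈ S, Q v = 0 := span_sing_set (fun u hu => hu.1)
    fun u hu v hv => isF_perp hQ hn hS h1 hu.1 hv.1 hu.2 hv.2
  have haS : a ∈ S := Submodule.subset_span ⟨ha, hF⟩
  by_cases hone : ∀ c, Q c = 0 → IsF hQ hn y c → c ∈ Ln a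
  · have hSL : S = Ln a := le_antisymm (Submodule.span_le.2 fun c hc => hone c hc.1 hc.2)
      (Submodule.span_le.2 (Set.singleton_subset_iff.2 haS))
    have hsub : Pts Q ⊆ Finset.univ.image (fun z : α => Fsp hQ hn z) := by
      intro L hL
      obtain ⟨b, hb, hb0, rfl⟩ := mem_Pts.1 hL
      obtain ⟨g, hg, hgb⟩ := move_sing hQ hn ha ha0 hb hb0
      refine Finset.mem_image.2 ⟨(⟨g, hg⟩ : Cfsg.Omega F ⇑Q) • y, Finset.mem_univ _, ?_⟩
      rw [Fsp_move, ← hSdef, hSL, Submodule.map_span, Set.image_singleton, hgb]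
    have h2 := (Finset.card_le_card hsub).trans Finset.card_image_le
    rw [Finset.card_univ] at h2
    have h3 : (Pts Q).card = N := by
      have h4 : (Pts Q).card * (q - 1) + 1 = N * (q - 1) + 1 := card_Pts.trans hS.hN.symm
      exact Nat.eq_of_mul_eq_mul_right (Nat.sub_pos_of_lt Fintype.one_lt_card) (Nat.add_right_cancel h4)
    have := hS.hTN
    omega
  push Not at hone
  obtain ⟨a₂, ha₂, hF₂, ha₂a⟩ := hone
  have haa₂ : B a₂ a = 0 := isF_perp hQ hn hS h1 ha₂ ha hF₂ hF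
  have hane : a ∉ Submodule.span F ({a₂} : Set Vec) := fun h => by
    obtain ⟨k, hk, e⟩ := mem_Ln_ne h ha0
    exact ha₂a (Submodule.mem_span_singleton.2
      ⟨k⁻¹, by rw [e, smul_smul, inv_mul_cancel₀ hk, one_smul]⟩)
  obtain ⟨b, hb, hp⟩ := exists_dual hQ hn (s := {a₂}) ha (by simpa using haa₂) hane
  have hba₂ : B b a₂ = 0 := by rw [QuadraticMap.polar_comm]; exact mem_sperp1.1 hb
  have hQb := hp.hv
  have hb0 := hp.ne_zero.2
  have hnF : ¬ IsF hQ hn y b := fun h => one_ne_zero (hp.huv.symm.trans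
    (isF_perp hQ hn hS h1 ha hQb hF h))
  have hFU : ∃ x ∈ Us hQ hn y b, x ∉ Ln b := by
    by_contra hcon
    push Not at hcon
    exact hnF (isF_of_Us hQ hn hQb hcon)
  have hnA : ¬ IsA hQ hn y b := by
    intro h
    have hmem : a₂ ∈ Xs hQ hn y b := by
      refine (mem_Xs hQ hn hQb).2 ⟨hba₂, ?_⟩
      rw [show el hQ hn b a₂ = el hQ hn a₂ (-b) from Subtype.ext (Ei_swap hQb ha₂ hba₂)]
      exact hF₂ _ (by rw [QuadraticMap.polar_neg_right, QuadraticMap.polar_comm, hba₂, neg_zero])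
    obtain ⟨k, hk⟩ := Submodule.mem_span_singleton.1 (h _ hmem)
    have h0 : B a (k • b) = 0 := by rw [hk, QuadraticMap.polar_comm, haa₂]
    rw [QuadraticMap.polar_smul_right, hp.huv, smul_eq_mul, mul_one] at h0
    exact ha₂a (by rw [← hk, h0, zero_smul]; exact zero_mem _)
  set W := (S ⊔ Ln b) ⊓ sperp Q {b} with hWdef
  have hWts : ∀ v ∈ W, Q v = 0 := by
    rintro v ⟨hv, hvb⟩
    obtain ⟨s, hs, r, hr, rfl⟩ := Submodule.mem_sup.1 hv
    obtain ⟨k, rfl⟩ := Submodule.mem_span_singleton.1 hr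
    have hv0 := mem_sperp1.1 hvb
    rw [QuadraticMap.polar_add_right, QuadraticMap.polar_smul_right, polar_self_zero hQb,
      smul_zero, add_zero] at hv0
    simp [map_add', Orth.map_smul', hSts s hs, hQb, QuadraticMap.polar_smul_right,
      QuadraticMap.polar_comm _ s b, hv0]
  have hXW : ∀ w ∈ Xs hQ hn y b, w ∈ W := by
    intro w hw
    obtain ⟨hbw, hfix⟩ := (mem_Xs hQ hn hQb).1 hw
    refine ⟨?_, mem_sperp1.2 hbw⟩
    have h2 : act (Ei Q b w) a ∈ S := by
      have e := Fsp_move hQ hn (el hQ hn b w) y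
      rw [hfix, ← hSdef] at e
      rw [e]
      exact Submodule.mem_map_of_mem haS
    rw [act_Ei hQb hbw, hp.huv, one_smul, mul_one] at h2
    refine Submodule.mem_sup.2 ⟨_, Submodule.sub_mem _ h2 haS, (B a w + Q w) • b,
      Submodule.smul_mem _ _ (Submodule.mem_span_singleton_self b), ?_⟩
    module
  have hperp : perp Q W ≤ Submodule.span F (Us hQ hn y b : Set Vec) := fun u hu =>
    Submodule.subset_span (show u ∈ Us hQ hn y b from fun w hw => by
      rw [QuadraticMap.polar_comm, mem_perp.1 hu w (hXW w hw), map_zero])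
  have hdW := finrank_perp hQ W
  have hW2 := Max.Orth.finrank_sing_le hQ hWts
  rcases classify hQ hn hQb hb0 y hS hFU hnA with h | ⟨x, -, -, hU⟩ | ⟨h4, W', hU', hW'ts, -, -⟩
  · omega
  · have h2 := Submodule.finrank_mono (hperp.trans (Submodule.span_le.2 hU))
    have := finrank_span2 (F := F) b x
    omega
  have hWW' : perp Q W ≤ W' := hperp.trans (Submodule.span_le.2 fun u hu => by
    rw [hU'] at hu; exact hu)
  have hdW' := Submodule.finrank_mono hWW'
  have hσW := hS.hσ W hWts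
  have hσW' := hS.hσ W' hW'ts
  have hσ2 := hS.hσ2
  have hbW : b ∈ W' := by
    have hm := line_le_Us hQ hn hQb y b (Submodule.mem_span_singleton_self b)
    rwa [hU'] at hm
  have haW : a ∉ W := fun h => by
    have h2 := mem_sperp1.1 h.2
    rw [hp.hvu] at h2
    exact one_ne_zero h2
  have hlt' : W < S ⊔ Ln b :=
    lt_of_le_of_ne inf_le_left fun h => haW (h ▸ Submodule.mem_sup_left haS)
  have hdS := Submodule.finrank_lt_finrank_of_lt hlt'
  have hdS2 := Submodule.finrank_add_le_finrank_add_finrank S (Ln b)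
  have hb1 : finrank F ↥(Ln b) ≤ 1 := finrank_span1 b
  have hσS := hS.hσ S hSts
  have eS : finrank F S = σ := by omega
  have eW' : finrank F W' = σ := by omega
  obtain ⟨g, hg, hgb⟩ := move_sing hQ hn ha ha0 hQb hb0
  set G : Cfsg.Omega F ⇑Q := ⟨g, hg⟩
  set z := G • y with hz
  have hFz : IsF hQ hn z b :=
    isF_move hQ hn ha hQb G one_ne_zero (by rw [one_smul]; exact hgb) hF
  have hyz : y ∉ Korb (Q := Q) z b := fun h => by
    obtain ⟨g', t, ht, hgb', he⟩ := mem_Korb.1 h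
    exact hnF (he ▸ isF_move hQ hn hQb hQb g' ht hgb' hFz)
  set Sz := Fsp hQ hn z with hSz
  have eSz : Sz = S.map (act G.1) := Fsp_move hQ hn G y
  have hSzts : ∀ v ∈ Sz, Q v = 0 := by
    rw [eSz]; rintro _ ⟨v, hv, rfl⟩; rw [act_map, hSts v hv]
  have hdSz : finrank F Sz = σ := by
    rw [eSz, ← eS]
    exact (Submodule.equivMapOfInjective _ (act_injective G.1) S).finrank_eq.symm
  have hbSz : b ∈ Sz := Submodule.subset_span ⟨hQb, hFz⟩
  have hTr : (Tr Q b Sz.toAddSubgroup).card ≤ (Korb (Q := Q) z b).card := by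
    refine (Finset.card_le_card (t := (Korb (Q := Q) z b).image
      fun v => (Fsp hQ hn v).toAddSubgroup) fun U hU => ?_).trans Finset.card_image_le
    obtain ⟨h, hh, t, ht, hhb, rfl⟩ := mem_Tr.1 hU
    refine Finset.mem_image.2 ⟨(⟨h, hh⟩ : Cfsg.Omega F ⇑Q) • z,
      mem_Korb.2 ⟨⟨h, hh⟩, t, ht, hhb, rfl⟩, ?_⟩
    rw [Fsp_move, ← hSz]
    ext v
    simp only [Submodule.mem_toAddSubgroup, Submodule.mem_map, AddSubgroup.mem_map, sA_apply]
    constructor
    · rintro ⟨s, hs, rfl⟩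
      exact ⟨t • s, Sz.smul_mem t hs,
        by rw [map_smul, smul_smul, inv_mul_cancel₀ ht, one_smul]⟩
    · rintro ⟨s, hs, rfl⟩
      exact ⟨t⁻¹ • s, Sz.smul_mem _ hs, map_smul _ _ _⟩
  have c1 := sub_count hQ hn hQb hb0 Sz hbSz hSzts (by omega)
  have c2 := sub_count hQ hn hQb hb0 W' hbW hW'ts (by omega)
  rw [hdSz] at c1
  rw [eW', ← hU'] at c2
  have c3 := orb_bound hQ hn hQb hb0 y
  rw [hU', natCard_sub, eW', ← hU'] at c3
  have c4 := card_two (Q := Q) hyz
  have hmax := hS.maximal h4 (by omega)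
  rw [← hq] at c1 c2 c3 hmax
  set K := q ^ σ
  have hq1 : 1 < q := Fintype.one_lt_card
  have hK3 : q ^ 3 ≤ K := Nat.pow_le_pow_right (by omega) (by omega)
  have hq23 : q ^ 2 < q ^ 3 := Nat.pow_lt_pow_right hq1 (by norm_num)
  have hqq : q ≤ q ^ 2 := Nat.le_self_pow (by norm_num) q
  set f := (K - q) * (K - q ^ 2)
  have hf : 0 < f := Nat.mul_pos (by omega) (by omega)
  set O₁ := (Korb (Q := Q) z b).card
  set O₂ := (Korb (Q := Q) y b).card
  refine absurd hlt (not_lt.2 (le_trans ?_ c4))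
  refine Nat.le_of_mul_le_mul_right ?_ (Nat.mul_pos (show 0 < q by omega) hf)
  calc T * (q * f) = T * q * f := by ring
    _ ≤ nM Q * (K + q) := hmax
    _ = nM Q * K + nM Q * q := by ring
    _ ≤ ((Tr Q b (Us hQ hn y b)).card * f) * K + (O₁ * f) * q :=
        Nat.add_le_add (Nat.mul_le_mul_right _ c2)
          (Nat.mul_le_mul_right _ (c1.trans (Nat.mul_le_mul_right _ hTr)))
    _ = ((Tr Q b (Us hQ hn y b)).card * K) * f + (O₁ * f) * q := by ring
    _ ≤ (q * O₂) * f + (O₁ * f) * q := by gcongr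
    _ = (O₁ + O₂) * (q * f) := by ring

theorem split (hlt : Fintype.card α < T) {a : Vec} (ha : Q a = 0) (ha0 : a ≠ 0) (y : α)
    (hA : ¬ IsA hQ hn y a) : IsL hQ hn y a ∨ IsE hQ hn y a := by
  refine (classify hQ hn ha ha0 y hS ?_ hA).resolve_left (by omega)
  by_contra hcon
  push Not at hcon
  exact no_F hQ hn hS h1 hlt ha ha0 y (isF_of_Us hQ hn ha hcon)

theorem no_A (hlt : Fintype.card α < T) {a : Vec} (ha : Q a = 0) (ha0 : a ≠ 0) (y : α) :
    ¬ IsA hQ hn y a := by
  intro hA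
  have hT2 : T ≤ 2 * Fintype.card F ^ (Fintype.card ι - 2) := hS.hT2
  have conv : ∀ (z : α) (b : Vec), IsA hQ hn z b → Q b = 0 → b ≠ 0 →
      ∀ z', IsA hQ hn z' b → z' ∈ Qorb hQ hn z b := by
    intro z b hz hb hb0 z' hz'
    by_contra hne
    have h := Finset.card_le_univ (Qorb hQ hn z b ∪ Qorb hQ hn z' b)
    rw [Finset.card_union_of_disjoint (Qorb_disjoint hQ hn hb hne), card_Qorb_A hQ hn hb hb0 hz,
      card_Qorb_A hQ hn hb hb0 hz'] at h
    omega
  obtain ⟨z₀, b₀, hb₀, hb₀0, hnA⟩ : ∃ (z : α) (b : Vec), Q b = 0 ∧ b ≠ 0 ∧ ¬ IsA hQ hn z b := by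
    by_contra hcon
    push Not at hcon
    exact regular_false hQ hn ha ha0 (y := y) (fun z b hb hb0 => hcon z b hb hb0)
      (fun z => (mem_Qorb hQ hn).1 (conv y a hA ha ha0 z (hcon z a ha ha0))) hS.h8
  obtain ⟨g, hg, hgb⟩ := move_sing hQ hn hb₀ hb₀0 ha ha0
  set G : Cfsg.Omega F ⇑Q := ⟨g, hg⟩
  set z := G • z₀
  have hzA : ¬ IsA hQ hn z a := fun h => hnA (by
    have := isA_move hQ hn ha hb₀ G⁻¹ one_ne_zero
      (by rw [one_smul]; exact act_inv_eq G hgb) h
    rwa [inv_smul_smul] at this)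
  have hzy : z ∉ Korb (Q := Q) y a := fun h => by
    obtain ⟨g', t, ht, hga, he⟩ := mem_Korb.1 h
    exact hzA (he ▸ isA_move hQ hn ha ha g' ht hga hA)
  have h2 := card_two (Q := Q) hzy
  have hOA : Fintype.card F ^ (Fintype.card ι - 2) ≤ (Korb (Q := Q) y a).card :=
    (card_Qorb_A hQ hn ha ha0 hA).symm.le.trans (Finset.card_le_card (Qorb_sub_univ hQ hn ha))
  rcases split hQ hn hS h1 hlt ha ha0 z hzA with hL | hE
  swap
  · have := korb_E hQ hn ha ha0 hE
    omega
  rcases line_le hQ hn ha ha0 z hS hL with h | h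
  · omega
  have hTN := hS.hTN
  have hN : N = Fintype.card α + 1 := by omega
  let R : α → Submodule F (ι → F) → Prop := fun y' L => ∃ c, Ln c = L ∧ IsA hQ hn y' c
  have hscale : ∀ (y' : α) (c c' : Vec), Q c = 0 → Q c' = 0 → c' ≠ 0 → Ln c = Ln c' →
      IsA hQ hn y' c → IsA hQ hn y' c' := by
    intro y' c c' hc hc' hc'0 e h
    obtain ⟨k, hk, e'⟩ := mem_Ln_ne (show c' ∈ Ln c from e ▸ Submodule.mem_span_singleton_self c') hc'0
    have := isA_move hQ hn hc hc' (1 : Cfsg.Omega F ⇑Q) (inv_ne_zero hk)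
      (by rw [Subgroup.coe_one, act_one, e', smul_smul, inv_mul_cancel₀ hk, one_smul]) h
    rwa [one_smul] at this
  have hQc : ∀ L ∈ Pts Q, ∀ c, Ln c = L → Q c = 0 ∧ c ≠ 0 := by
    intro L hL c hc
    obtain ⟨b, hb, hb0, hbL⟩ := mem_Pts.1 hL
    obtain ⟨k, rfl⟩ := Submodule.mem_span_singleton.1
      (show c ∈ Ln b by rw [hbL, ← hc]; exact Submodule.mem_span_singleton_self c)
    refine ⟨by rw [Orth.map_smul', hb, mul_zero], fun h0 => hb0 ?_⟩
    have hb' : b ∈ Ln (k • b) := by rw [hc, ← hbL]; exact Submodule.mem_span_singleton_self b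
    rw [h0] at hb'
    simpa using hb'
  have hcol : ∀ L ∈ Pts Q, (Finset.univ.filter fun y' => R y' L).card = Fintype.card F ^ (Fintype.card ι - 2) := by
    intro L hL
    obtain ⟨b, hb, hb0, rfl⟩ := mem_Pts.1 hL
    obtain ⟨g', hg', hgb'⟩ := move_sing hQ hn ha ha0 hb hb0
    have hyb : IsA hQ hn ((⟨g', hg'⟩ : Cfsg.Omega F ⇑Q) • y) b :=
      isA_move hQ hn ha hb ⟨g', hg'⟩ one_ne_zero (by rw [one_smul]; exact hgb') hA
    rw [← card_Qorb_A hQ hn hb hb0 hyb]
    congr 1
    ext v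
    simp only [Finset.mem_filter, Finset.mem_univ, true_and]
    constructor
    · rintro ⟨c, hc, hv⟩
      exact conv _ b hyb hb hb0 v (hscale v c b (hQc _ hL c hc).1 hb hb0 hc hv)
    · intro hv
      refine ⟨b, rfl, ?_⟩
      have e := (Qorb_sub hQ hn hb (Korb_self _ b) hv).2
      have e2 := congrArg (ann Q) e
      rw [Us, Us, ann_ann hQ, ann_ann hQ] at e2
      intro w hw
      exact hyb w (by rwa [e2] at hw)
  have hrow : ∀ y', ((Pts Q).filter fun L => R y' L).card =
      ((Pts Q).filter fun L => R y L).card := by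
    intro y'
    obtain ⟨h', rfl⟩ := MulAction.exists_smul_eq (Cfsg.Omega F ⇑Q) y y'
    symm
    refine Finset.card_bij (fun L _ => L.map (act h'.1)) (fun L hL => ?_)
      (fun L _ L' _ e => Submodule.map_injective_of_injective (act_injective h'.1) e) fun L hL => ?_
    · obtain ⟨hLP, c, rfl, hc⟩ := Finset.mem_filter.1 hL
      obtain ⟨hQc', hc0⟩ := hQc _ hLP c rfl
      have e : (Ln c).map (act h'.1) = Ln (act h'.1 c) := by
        rw [Submodule.map_span, Set.image_singleton]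
      rw [e]
      refine Finset.mem_filter.2 ⟨mem_Pts.2 ⟨_, by rw [act_map, hQc'],
        fun h0 => hc0 (act_injective h'.1 (h0.trans (map_zero _).symm)), rfl⟩, _, rfl, ?_⟩
      exact isA_move hQ hn hQc' (by rw [act_map, hQc']) h' one_ne_zero (by rw [one_smul]) hc
    · obtain ⟨hLP, c, rfl, hc⟩ := Finset.mem_filter.1 hL
      obtain ⟨hQc', hc0⟩ := hQc _ hLP c rfl
      set d := act h'.1⁻¹ c with hd
      have hQd : Q d = 0 := by rw [hd, act_map, hQc']
      refine ⟨Ln d, Finset.mem_filter.2 ⟨mem_Pts.2 ⟨d, hQd,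
        fun h0 => hc0 (by rw [← act_cancel_inv h'.1 c, ← hd, h0, map_zero]), rfl⟩, d, rfl, ?_⟩, ?_⟩
      · have := isA_move hQ hn hQc' hQd h'⁻¹ one_ne_zero
          (by rw [Subgroup.coe_inv, one_smul]) hc
        rwa [inv_smul_smul] at this
      · rw [Submodule.map_span, Set.image_singleton, hd, act_cancel_inv]
  have hP : (Pts Q).card = N := by
    have h4 : (Pts Q).card * (Fintype.card F - 1) + 1 = N * (Fintype.card F - 1) + 1 := card_Pts.trans hS.hN.symm
    exact Nat.eq_of_mul_eq_mul_right (Nat.sub_pos_of_lt Fintype.one_lt_card) (Nat.add_right_cancel h4)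
  have hcount := Finset.sum_card_bipartiteAbove_eq_sum_card_bipartiteBelow R
    (s := (Finset.univ : Finset α)) (t := Pts Q)
  simp only [Finset.bipartiteAbove, Finset.bipartiteBelow] at hcount
  rw [Finset.sum_const_nat (fun y' _ => hrow y'), Finset.sum_const_nat hcol, Finset.card_univ,
    hP] at hcount
  have hdvd : Fintype.card α ∣ Fintype.card F ^ (Fintype.card ι - 2) := by
    refine Nat.Coprime.dvd_of_dvd_mul_left ?_ (Dvd.intro _ hcount)
    rw [hN]
    exact Nat.coprime_self_add_right.2 (Nat.coprime_one_right _)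
  have := Nat.le_of_dvd (pow_pos Fintype.card_pos (Fintype.card ι - 2)) hdvd
  have : 0 < (Korb (Q := Q) z a).card := Finset.card_pos.2 ⟨z, Korb_self z a⟩
  omega

theorem split' (hlt : Fintype.card α < T) {a : Vec} (ha : Q a = 0) (ha0 : a ≠ 0) (y : α) :
    IsL hQ hn y a ∨ IsE hQ hn y a :=
  split hQ hn hS h1 hlt ha ha0 y (no_A hQ hn hS h1 hlt ha ha0 y)

theorem no_E (hlt : Fintype.card α < T) {a : Vec} (ha : Q a = 0) (ha0 : a ≠ 0) (y : α) :
    ¬ IsE hQ hn y a := by
  intro hE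
  set U := Us hQ hn y a with hUdef
  have hT2 : T ≤ 2 * Fintype.card F ^ (Fintype.card ι - 2) := hS.hT2
  have hTN := hS.hTN
  have hOy : Fintype.card F ^ (Fintype.card ι - 2) + 1 ≤ (Korb (Q := Q) y a).card := korb_E hQ hn ha ha0 hE
  have hall : ∀ z : α, z ∈ Korb (Q := Q) y a := by
    intro z
    by_contra hz
    have h2 := card_two (Q := Q) hz
    rcases split' hQ hn hS h1 hlt ha ha0 z with hL | hE'
    · rcases line_le hQ hn ha ha0 z hS hL with h | h <;> omega
    · have := korb_E hQ hn ha ha0 hE'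
      omega
  have hcard : ∀ z : α, Nat.card (Us hQ hn z a) = Nat.card U := fun z =>
    natCard_Tr (Us_mem_Tr hQ hn ha (hall z))
  obtain ⟨h4, W, hW, hWts, h3, h5⟩ := hE
  rw [← hUdef] at hW h5
  have hmemU : ∀ u, u ∈ U ↔ u ∈ W := fun u => by rw [hW]; rfl
  have lift : ∀ (g : Cfsg.Omega F ⇑Q) (t : F), t ≠ 0 → act g.1 a = t • a →
      (∀ u ∈ W, act g.1 u ∈ W) → ∃ w, B a w = 0 ∧ el hQ hn a w • g • y = y := by
    intro g t ht hga hgW
    have hmap : U.map (sA g.1 t⁻¹) = U := by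
      refine AddSubgroup.eq_of_le_of_card_ge ?_
        (AddSubgroup.card_map_of_injective (sA_injective g.1 (inv_ne_zero ht))).ge
      rintro _ ⟨u, hu, rfl⟩
      exact (hmemU _).2 (W.smul_mem _ (hgW u ((hmemU u).1 hu)))
    have hUg : Us hQ hn (g • y) a = U := (Us_map hQ hn ha g ht hga y).trans hmap
    by_cases hq' : g • y ∈ Qorb hQ hn y a
    · obtain ⟨w, hw, he⟩ := (mem_Qorb hQ hn).1 hq'
      exact ⟨-w, by rw [QuadraticMap.polar_neg_right, hw, neg_zero],
        by rw [← he, ← el_inv hQ hn ha hw, inv_smul_smul]⟩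
    · have h2 := orb_bound_two hQ hn ha ha0 (hall (g • y)) hUg hq'
      rw [← hUdef] at h2
      have h6 : 2 * (Fintype.card F ^ (Fintype.card ι - 2) + 1) ≤ (Korb (Q := Q) y a).card := by
        refine Nat.le_of_mul_le_mul_left ?_ (show 0 < Fintype.card F from Fintype.card_pos)
        calc Fintype.card F * (2 * (Fintype.card F ^ (Fintype.card ι - 2) + 1)) = 2 * (Fintype.card F * (Fintype.card F ^ (Fintype.card ι - 2) + 1)) := by ring
          _ ≤ 2 * ((Tr Q a U).card * Nat.card U) := Nat.mul_le_mul_left _ h5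
          _ ≤ _ := h2
      have := Finset.card_le_univ (Korb (Q := Q) y a)
      omega
  obtain ⟨t, ht0, ht1, hts⟩ := exists_square_ne (F := F) h4
  obtain ⟨f₀, hf₀⟩ := exists_partner_top hQ ha ha0
  have hWa : ∀ u ∈ W, B a u = 0 := fun u hu => perp_Us hQ hn ha y u ((hmemU u).2 hu)
  have haW : a ∈ W :=
    (hmemU a).1 (line_le_Us hQ hn ha y a (Submodule.mem_span_singleton_self a))
  obtain ⟨f, hf, hτ⟩ := exists_fixing_scl hQ hn ha ht0 ht1 hts hf₀
    (lift ⟨scl Q a f₀ t, scl_omega hQ hn hf₀ ht0 hts⟩ t ht0 (act_scl_left hf₀ ht0) fun u hu => by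
      show act (scl Q a f₀ t) u ∈ W
      rw [act_scl hf₀ ht0, hWa u hu, mul_zero, zero_smul, add_zero]
      exact W.add_mem hu (W.smul_mem _ haW))
  obtain ⟨b, hbW, hb0⟩ := Submodule.exists_mem_ne_zero_of_ne_bot (p := W ⊓ sperp Q {f}) fun h => by
    have h6 := Submodule.finrank_sup_add_finrank_inf_eq W (sperp Q {f})
    rw [h, finrank_bot] at h6
    have h7 := Submodule.finrank_le (W ⊔ sperp Q {f})
    have h8 : Fintype.card ι ≤ finrank F ↥(sperp Q {f}) + 1 := by
      have a1 := finrank_perp hQ (Submodule.span F ({f} : Set Vec))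
      have a2 := finrank_span1 (F := F) f
      show _ ≤ finrank F ↥(perp Q _) + 1
      omega
    have h9 : finrank F Vec = Fintype.card ι := Module.finrank_fintype_fun_eq_card F
    omega
  have hQb := hWts b hbW.1
  have hab : B a b = 0 := hWa b hbW.1
  have hfb : B f b = 0 := mem_sperp1.1 hbW.2
  have key : ∀ w ∈ sperp Q {a, f, b}, w ∈ Xs hQ hn y b := by
    intro w hw
    obtain ⟨haw, hfw, hbw⟩ := mem_sperp3.1 hw
    obtain ⟨w', hw', hl⟩ := lift (el hQ hn b w) 1 one_ne_zero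
      (by
        show act (Ei Q b w) a = _
        rw [one_smul, act_Ei_fix hQb hbw hab haw]) fun u hu => by
      show act (Ei Q b w) u ∈ W
      rw [act_Ei_perp hQb hbw (polar_of_sing hWts hu hbW.1)]
      exact W.sub_mem hu (W.smul_mem _ hbW.1)
    have h6 := scl_lift hQ hn ha ht0 hts hf hτ hab hfb haw hfw hw' hl
    have hX : Xs hQ hn y a = (perp Q W).toAddSubgroup := by
      rw [← ann_sub hQ, ← hW, hUdef, Us, ann_ann hQ]
    have hwX : w' ∈ Xs hQ hn y a := by
      rw [hX] at h6 ⊢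
      have := (perp Q W).smul_mem (t - 1)⁻¹ h6
      rwa [smul_smul, inv_mul_cancel₀ (sub_ne_zero.2 ht1), one_smul] at this
    refine (mem_Xs hQ hn hQb).2 ⟨hbw, ?_⟩
    exact smul_left_cancel _ (hl.trans ((mem_Xs hQ hn ha).1 hwX).2.symm)
  rcases split' hQ hn hS h1 hlt hQb hb0 y with hL | ⟨-, W', hW', hW'ts, h3', -⟩
  · obtain ⟨g, hg, hgb⟩ := move_sing hQ hn hQb hb0 ha ha0
    have e := Us_move hQ hn hQb (⟨g, hg⟩ : Cfsg.Omega F ⇑Q) one_ne_zero ha
      (by rw [one_smul]; exact hgb) y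
    have e2 := hcard ((⟨g, hg⟩ : Cfsg.Omega F ⇑Q) • y)
    rw [e, AddSubgroup.card_map_of_injective (sA_injective g (inv_ne_zero one_ne_zero))] at e2
    have hl2 := natCard_L hQ hn hL
    rw [e2, hW, natCard_sub] at hl2
    have h6 : Fintype.card F ^ 2 < Fintype.card F ^ 3 := Nat.pow_lt_pow_right Fintype.one_lt_card (by norm_num)
    have h7 : Fintype.card F ^ 3 ≤ Fintype.card F ^ finrank F W := Nat.pow_le_pow_right Fintype.card_pos h3
    omega
  · have hle : W' ≤ Submodule.span F ({a, f, b} : Set Vec) := by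
      intro u hu
      have h6 : Us hQ hn y b ≤ ann Q (sperp Q {a, f, b}).toAddSubgroup :=
        ann_le fun w hw => key w hw
      rw [ann_sperp hQ, hW'] at h6
      exact h6 hu
    have h6 := finrank_span3 (F := F) a f b
    have he := Submodule.eq_of_le_of_finrank_le hle (by omega)
    refine one_ne_zero (hf.huv.symm.trans (polar_of_sing hW'ts ?_ ?_)) <;>
      exact he ▸ Submodule.subset_span (by simp)

include hQ hn in
/-- The smallest non-trivial transitive action has degree at least `T`. -/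
theorem min_action : T ≤ Fintype.card α := by
  by_contra hlt
  push Not at hlt
  obtain ⟨y⟩ : Nonempty α := Fintype.card_pos_iff.1 (by omega)
  refine lines_false (hQ := hQ) (hn := hn) (y := y) fun a ha ha0 => ?_
  obtain ⟨x, hx, hxa, hU⟩ :=
    (split' hQ hn hS h1 hlt ha ha0 y).resolve_right (no_E hQ hn hS h1 hlt ha ha0 y)
  refine ⟨x, hxa, perp_Us hQ hn ha y x hx, le_antisymm (Submodule.span_le.2 hU) ?_⟩
  rw [Submodule.span_le]
  rintro v (h | h) <;> subst h
  · exact Submodule.subset_span (line_le_Us hQ hn ha y _ (Submodule.mem_span_singleton_self _))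
  · exact Submodule.subset_span hx

end Cfsg.Agent.Classical.OrthMinIndex
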