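import Cfsg.Agent.Lib.Classical.OrthMinIndex.Linear

/-!
# Moves inside `Ω`
-/

set_option autoImplicit false
set_option linter.unusedSectionVars false
set_option linter.unusedSimpArgs false

namespace Cfsg.Agent.Classical.OrthMinIndex

open Cfsg.Agent.Forms Cfsg.Agent.Forms.QuadStd Cfsg.Agent.Forms.Reflections
open Cfsg.Agent.Classical.Orth Cfsg.Agent.Classical.OmegaCrit Cfsg.Agent.Classical.OmegaScale Module
open Cfsg.Agent.Forms.Max.Orth (perp mem_perp)

variable {F : Type*} [Field F] [Fintype F] {ι : Type} [Fintype ι] [DecidableEq ι]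
variable {Q : QuadraticForm F (ι → F)}

local notation "Vec" => (ι → F)
local notation "B" => QuadraticMap.polar Q

/-- The scaling of a hyperbolic pair. -/
noncomputable def scl (Q : QuadraticForm F (ι → F)) (e f : ι → F) (c : F) :
    Cfsg.isometryGroup F ⇑Q :=
  reflect Q (e - f) * reflect Q (e - c • f)

theorem act_scl {e f : Vec} (hp : IsPair Q e f) {c : F} (hc : c ≠ 0) (v : Vec) :
    act (scl Q e f c) v = v + ((c - 1) * B f v) • e + ((c⁻¹ - 1) * B e v) • f :=
  (act_scale hp.hu hp.hv hp.huv hc v).2.2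

theorem act_scl_left {e f : Vec} (hp : IsPair Q e f) {c : F} (hc : c ≠ 0) :
    act (scl Q e f c) e = c • e := by
  rw [act_scl hp hc, polar_self_zero hp.hu, hp.hvu]; module

theorem act_scl_right {e f : Vec} (hp : IsPair Q e f) {c : F} (hc : c ≠ 0) :
    act (scl Q e f c) f = c⁻¹ • f := by
  rw [act_scl hp hc, polar_self_zero hp.hv, hp.huv]; module

theorem act_scl_fix {e f v : Vec} (hp : IsPair Q e f) {c : F} (hc : c ≠ 0) (he : B e v = 0)
    (hf : B f v = 0) : act (scl Q e f c) v = v := by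
  rw [act_scl hp hc, he, hf]; simp

theorem act_reflect_fix {z v : Vec} (h : B z v = 0) : act (reflect Q z) v = v := by
  rw [act_reflect, h]; simp

/-- An isometry with prescribed images of an independent family. -/
theorem exists_isometry_fam (hQ : (QuadraticMap.polarBilin Q).Nondegenerate) {k : ℕ}
    (u v : Fin k → Vec) (hu : LinearIndependent F u) (hv : LinearIndependent F v)
    (hQuv : ∀ i, Q (u i) = Q (v i)) (hB : ∀ i j, B (u i) (u j) = B (v i) (v j)) :
    ∃ g : Cfsg.isometryGroup F ⇑Q, ∀ i, act g (u i) = v i := by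
  classical
  set Lu := Fintype.linearCombination F u
  set Lv := Fintype.linearCombination F v
  have hLu : Function.Injective Lu := linearIndependent_iff_injective_fintypeLinearCombination.1 hu
  have hLv : Function.Injective Lv := linearIndependent_iff_injective_fintypeLinearCombination.1 hv
  have hus : ∀ i, Lu (Pi.single i 1) = u i := fun i => by simp [Lu, Fintype.linearCombination_apply_single]
  have hvs : ∀ i, Lv (Pi.single i 1) = v i := fun i => by simp [Lv, Fintype.linearCombination_apply_single]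
  have hpol : ∀ c d, B (Lu c) (Lu d) = B (Lv c) (Lv d) := by
    intro c d
    simp only [Lu, Lv, Fintype.linearCombination_apply]
    rw [← QuadraticMap.polarBilin_apply_apply, ← QuadraticMap.polarBilin_apply_apply]
    simp only [map_sum, LinearMap.sum_apply, map_smul, LinearMap.smul_apply,
      QuadraticMap.polarBilin_apply_apply, hB]
  have heq : ∀ c, Q (Lv c) = Q (Lu c) := by
    intro c
    have hc : c ∈ Submodule.span F (Set.range fun i : Fin k => Pi.single i (1 : F)) := by
      rw [show (fun i : Fin k => Pi.single i (1 : F)) = ⇑(Pi.basisFun F (Fin k)) by ext; simp,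
        (Pi.basisFun F (Fin k)).span_eq]
      trivial
    induction hc using Submodule.span_induction with
    | mem x hx => obtain ⟨i, rfl⟩ := hx; rw [hus, hvs, hQuv]
    | zero => simp
    | add a b _ _ ha hb => rw [Lu.map_add, Lv.map_add, map_add' (Q := Q), map_add' (Q := Q), ha, hb, hpol]
    | smul t a _ ha => rw [Lu.map_smul, Lv.map_smul, Orth.map_smul' (Q := Q), Orth.map_smul' (Q := Q), ha]
  let e := LinearEquiv.ofInjective Lu hLu
  obtain ⟨f, hf, hfx⟩ := Witt.witt_quad Q hQ (LinearMap.range Lu) (Lv ∘ₗ e.symm.toLinearMap)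
    (hLv.comp e.symm.injective) (fun x => by
      show Q (Lv (e.symm x)) = Q x.1
      rw [heq]
      exact congrArg Q (congrArg Subtype.val (e.apply_symm_apply x)))
  refine ⟨isoOfEquiv _ f hf, fun i => ?_⟩
  rw [act_apply, isoOfEquiv_mulVec, ← hus i]
  rw [show f (Lu (Pi.single i 1)) = Lv (e.symm ⟨Lu (Pi.single i 1), ⟨_, rfl⟩⟩) from hfx ⟨_, _, rfl⟩,
    show (⟨Lu (Pi.single i 1), ⟨_, rfl⟩⟩ : LinearMap.range Lu) = e (Pi.single i 1) from rfl,
    e.symm_apply_apply, hvs]

variable (hQ : (QuadraticMap.polarBilin Q).Nondegenerate) (hn : 7 ≤ Fintype.card ι)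
include hQ hn

theorem card_ne : Fintype.card F ≠ 2 ∨ Fintype.card ι ≠ 4 := Or.inr (by omega)

theorem scl_theta {e f : Vec} (hp : IsPair Q e f) {c : F} (hc : c ≠ 0) :
    theta hQ (card_ne hQ hn) (scl Q e f c) = (1, chi c) :=
  theta_scale hQ (card_ne hQ hn) hp.hu hp.hv hp.huv hc

theorem scl_omega {e f : Vec} (hp : IsPair Q e f) {c : F} (hc : c ≠ 0) (hs : IsSquare c) :
    scl Q e f c ∈ Cfsg.Omega F ⇑Q := by
  rw [mem_omega_iff hQ (card_ne hQ hn), scl_theta hQ hn hp hc, chi_eq_one_iff.2 hs]; rfl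

/-- Fixing the parity of an isometry. -/
theorem exists_par {S : Submodule F Vec} (hS : 2 * finrank F S < Fintype.card ι)
    (g₀ : Cfsg.isometryGroup F ⇑Q) :
    ∃ g : Cfsg.isometryGroup F ⇑Q, (∀ s, act g₀ s ∈ S → act g s = act g₀ s) ∧ par g = 1 := by
  rcases Int.units_eq_one_or (par g₀) with hp | hp
  · exact ⟨g₀, fun _ _ => rfl, hp⟩
  · obtain ⟨z, hz, hQz⟩ := exists_nonsing hQ S hS
    refine ⟨reflect Q z * g₀, fun s hs => ?_, by rw [par_reflect_mul hQ hQz, hp, neg_neg]⟩
    rw [act_mul, act_reflect_fix]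
    exact Max.Orth.perp_comm hz hs

/-- An element of `Ω` agreeing with an isometry on a small subspace. -/
theorem exists_omega_small {S : Submodule F Vec} (hS : finrank F S ≤ 2)
    (g₀ : Cfsg.isometryGroup F ⇑Q) :
    ∃ g : Cfsg.isometryGroup F ⇑Q, g ∈ Cfsg.Omega F ⇑Q ∧ ∀ s, act g₀ s ∈ S → act g s = act g₀ s := by
  obtain ⟨g₁, hg₁, hp⟩ := exists_par hQ hn (S := S) (by omega) g₀
  rcases Int.units_eq_one_or (theta hQ (card_ne hQ hn) g₁).2 with hs | hs
  · exact ⟨g₁, (mem_omega_iff hQ _ g₁).2 (Prod.ext hp hs), hg₁⟩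
  · have h2 : (2 : F) ≠ 0 := fun h2 => by
      change sgn g₁ = -1 at hs
      rw [sgn, if_pos h2] at hs
      exact absurd hs (by decide)
    obtain ⟨c, hc, hchi⟩ := exists_nonsquare h2
    obtain ⟨x, hx, hx1⟩ := exists_value_perp hQ h2 S (by omega) (one_ne_zero (α := F))
    obtain ⟨y, hy, hyc⟩ := exists_value_perp hQ h2 S (by omega) hc
    refine ⟨reflect Q x * reflect Q y * g₁, (mem_omega_iff hQ (card_ne hQ hn) _).2 ?_, fun s hs' => ?_⟩
    · rw [map_mul, map_mul, theta_reflect hQ _ (by rw [hx1]; exact one_ne_zero),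
        theta_reflect hQ _ (by rw [hyc]; exact hc), hx1, hyc, chi_one, hchi]
      exact Prod.ext (by simp [theta_fst, hp]) (by simp [hs])
    · rw [act_mul, act_mul, hg₁ s hs', act_reflect_fix (Max.Orth.perp_comm hy hs'),
        act_reflect_fix (Max.Orth.perp_comm hx hs')]

/-- `Ω` is transitive on non-zero singular vectors. -/
theorem move_sing {a b : Vec} (ha : Q a = 0) (ha0 : a ≠ 0) (hb : Q b = 0) (hb0 : b ≠ 0) :
    ∃ g : Cfsg.isometryGroup F ⇑Q, g ∈ Cfsg.Omega F ⇑Q ∧ act g a = b := by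
  obtain ⟨g₀, hg₀⟩ := exists_isometry_fam hQ ![a] ![b] (linearIndependent_fin_cons.2 ⟨linearIndependent_empty_type, by simpa⟩)
    (linearIndependent_fin_cons.2 ⟨linearIndependent_empty_type, by simpa⟩) (fun i => by fin_cases i; simp [ha, hb])
    (fun i j => by fin_cases i; fin_cases j; simp [polar_self_zero ha, polar_self_zero hb])
  have h0 : act g₀ a = b := hg₀ 0
  obtain ⟨g, hg, hgg⟩ := exists_omega_small hQ hn (S := Submodule.span F {b})
    ((finrank_span1 b).trans one_le_two) g₀
  exact ⟨g, hg, by rw [hgg a (by rw [h0]; exact Submodule.mem_span_singleton_self b), h0]⟩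

theorem li_pair {a u : Vec} (ha0 : a ≠ 0) (hu : u ∉ Submodule.span F ({a} : Set Vec)) :
    LinearIndependent F ![a, u] :=
  (LinearIndependent.pair_iff' ha0).2 fun c hc => hu (Submodule.mem_span_singleton.2 ⟨c, hc⟩)

/-- The stabiliser of a singular point on the vectors of a given value in its complement. -/
theorem move_pair {a u u' : Vec} {t : F} (ht : t ≠ 0) (ha : Q a = 0) (ha0 : a ≠ 0)
    (hu : B a u = 0) (hu' : B a u' = 0) (hua : u ∉ Submodule.span F ({a} : Set Vec))
    (hu'a : u' ∉ Submodule.span F ({a} : Set Vec)) (hQu : Q u = Q u') :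
    ∃ g : Cfsg.isometryGroup F ⇑Q, g ∈ Cfsg.Omega F ⇑Q ∧ act g a = t • a ∧ act g u = u' := by
  obtain ⟨g₀, hg₀⟩ := exists_isometry_fam hQ ![a, u] ![t • a, u'] (li_pair hQ hn ha0 hua)
    (li_pair hQ hn (smul_ne_zero ht ha0)
      (by rw [Submodule.span_singleton_smul_eq (isUnit_iff_ne_zero.2 ht)]; exact hu'a))
    (fun i => by fin_cases i <;> simp [ha, Orth.map_smul', hQu])
    (fun i j => by
      fin_cases i <;> fin_cases j <;>
        simp [QuadraticMap.map_smul, ha, QuadraticMap.polar_smul_left, QuadraticMap.polar_smul_right, polar_self_zero ha, hu, hu',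
          QuadraticMap.polar_comm _ u a, QuadraticMap.polar_comm _ u' a, polar_self' u, polar_self' u',
          hQu])
  have h0 : act g₀ a = t • a := hg₀ 0
  have h1 : act g₀ u = u' := hg₀ 1
  obtain ⟨g, hg, hgg⟩ := exists_omega_small hQ hn (S := Submodule.span F {a, u'}) (finrank_span2 a u') g₀
  refine ⟨g, hg, ?_, ?_⟩
  · rw [hgg a (by rw [h0]; exact Submodule.smul_mem _ t (Submodule.subset_span (Or.inl rfl))), h0]
  · rw [hgg u (by rw [h1]; exact Submodule.subset_span (Or.inr rfl)), h1]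

theorem exists_dual {a : Vec} {s : Set Vec} (ha : Q a = 0) (has : ∀ v ∈ s, B v a = 0)
    (hna : a ∉ Submodule.span F s) : ∃ f ∈ sperp Q s, IsPair Q a f := by
  obtain ⟨y, hy, hay⟩ := exists_sperp_ne hQ hna
  obtain ⟨f, hf, hf0, haf⟩ := Max.Orth.exists_partner_in (mem_sperp.2 has) hy ha hay
  exact ⟨f, hf, ha, hf0, haf⟩

/-- Mutually orthogonal singular triples, up to a common scalar. -/
theorem move_triple {a x v v' : Vec} (ha : Q a = 0) (hx : Q x = 0) (hv : Q v = 0) (hv' : Q v' = 0)
    (ha0 : a ≠ 0) (hax : B a x = 0) (hav : B a v = 0) (hxv : B x v = 0) (hav' : B a v' = 0)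
    (hxv' : B x v' = 0) (hxa : x ∉ Submodule.span F ({a} : Set Vec))
    (hv0 : v ∉ Submodule.span F ({a, x} : Set Vec)) (hv0' : v' ∉ Submodule.span F ({a, x} : Set Vec)) :
    ∃ g : Cfsg.isometryGroup F ⇑Q, g ∈ Cfsg.Omega F ⇑Q ∧ ∃ ν : F, ν ≠ 0 ∧
      act g a = ν • a ∧ act g x = ν • x ∧ act g v = ν • v' := by
  have li : ∀ w : Vec, w ∉ Submodule.span F ({a, x} : Set Vec) → LinearIndependent F ![w, a, x] :=
    fun w hw => by
      refine linearIndependent_fin_cons.2 ⟨li_pair hQ hn ha0 hxa, ?_⟩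
      rwa [show Set.range ![a, x] = {a, x} by simp [Matrix.range_cons, Matrix.range_empty,
        Set.pair_comm]]
  obtain ⟨g₀, hg₀⟩ := exists_isometry_fam hQ ![v, a, x] ![v', a, x] (li v hv0) (li v' hv0')
    (fun i => by fin_cases i <;> simp [hv, hv'])
    (fun i j => by
      fin_cases i <;> fin_cases j <;>
        simp [polar_self_zero ha, polar_self_zero hx, polar_self_zero hv, polar_self_zero hv', hax,
          hav, hxv, hav', hxv', QuadraticMap.polar_comm _ v a, QuadraticMap.polar_comm _ v' a,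
          QuadraticMap.polar_comm _ v x, QuadraticMap.polar_comm _ v' x, QuadraticMap.polar_comm _ x a])
  obtain ⟨g₁, hg₁, hp⟩ := exists_par hQ hn (S := Submodule.span F {a, x, v'})
    (by have := finrank_span3 (F := F) a x v'; omega) g₀
  have e1 : act g₁ a = a := by
    rw [hg₁ a (by rw [show act g₀ a = a from hg₀ 1]; exact Submodule.subset_span (by simp))]
    exact hg₀ 1
  have e2 : act g₁ x = x := by
    rw [hg₁ x (by rw [show act g₀ x = x from hg₀ 2]; exact Submodule.subset_span (by simp))]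
    exact hg₀ 2
  have e3 : act g₁ v = v' := by
    rw [hg₁ v (by rw [show act g₀ v = v' from hg₀ 0]; exact Submodule.subset_span (by simp))]
    exact hg₀ 0
  rcases Int.units_eq_one_or (theta hQ (card_ne hQ hn) g₁).2 with hs | hs
  · exact ⟨g₁, (mem_omega_iff hQ _ g₁).2 (Prod.ext hp hs), 1, one_ne_zero, by rw [one_smul, e1],
      by rw [one_smul, e2], by rw [one_smul, e3]⟩
  · have h2 : (2 : F) ≠ 0 := fun h2 => by
      change sgn g₁ = -1 at hs
      rw [sgn, if_pos h2] at hs
      exact absurd hs (by decide)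
    obtain ⟨c, hc, hchi⟩ := exists_nonsquare h2
    have dual : ∀ p r s : Vec, Q p = 0 → B r p = 0 → B s p = 0 → LinearIndependent F ![p, r, s] →
        ∃ f, IsPair Q p f ∧ B f r = 0 ∧ B f s = 0 := by
      intro p r s hp0 hr hs' hli
      have hnp : p ∉ Submodule.span F ({r, s} : Set Vec) := by
        have := (linearIndependent_fin_cons.1 hli).2
        rwa [show Set.range ![r, s] = {r, s} by simp [Matrix.range_cons, Matrix.range_empty,
          Set.pair_comm]] at this
      obtain ⟨f, hf, hpf⟩ := exists_dual hQ hn (s := {r, s}) hp0 (by simp [hr, hs']) hnp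
      obtain ⟨h1, h2⟩ := mem_sperp2.1 hf
      exact ⟨f, hpf, by rw [QuadraticMap.polar_comm]; exact h1, by rw [QuadraticMap.polar_comm]; exact h2⟩
    have hvx := QuadraticMap.polar_comm ⇑Q v' x
    have hva := QuadraticMap.polar_comm ⇑Q v' a
    have hxa' := QuadraticMap.polar_comm ⇑Q x a
    obtain ⟨fv, pv, fva, fvx⟩ := dual v' a x hv' hav' hxv' (li v' hv0')
    obtain ⟨fa, pa, fax, fav⟩ := dual a x v' ha (by rw [hxa', hax]) (by rw [hva, hav']) (by
      have := (li v' hv0').comp ![1, 2, 0] (by decide)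
      convert this using 1
      ext i; fin_cases i <;> rfl)
    obtain ⟨fx, px, fxv, fxa⟩ := dual x v' a hx (by rw [hvx, hxv']) hax (by
      have := (li v' hv0').comp ![2, 0, 1] (by decide)
      convert this using 1
      ext i; fin_cases i <;> rfl)
    refine ⟨scl Q a fa c * scl Q x fx c * scl Q v' fv c * g₁,
      (mem_omega_iff hQ (card_ne hQ hn) _).2 ?_, c, hc, ?_, ?_, ?_⟩
    · simp only [map_mul, scl_theta hQ hn pa hc, scl_theta hQ hn px hc, scl_theta hQ hn pv hc, hchi]
      exact Prod.ext (by simp [theta_fst, hp]) (by simp [hs])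
    · rw [act_mul, act_mul, act_mul, e1, act_scl_fix pv hc (by rw [hva, hav']) fva,
        act_scl_fix px hc (by rw [hxa', hax]) fxa, act_scl_left pa hc]
    · rw [act_mul, act_mul, act_mul, e2, act_scl_fix pv hc (by rw [hvx, hxv']) fvx,
        act_scl_left px hc, map_smul, act_scl_fix pa hc hax fax]
    · rw [act_mul, act_mul, act_mul, e3, act_scl_left pv hc, map_smul, map_smul,
        act_scl_fix px hc hxv' fxv, act_scl_fix pa hc hav' fav]

end Cfsg.Agent.Classical.OrthMinIndex
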