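import Cfsg.Agent.Lib.Classical.OrthMinIndex.Ann
import Cfsg.Agent.Lib.Classical.OrthMinIndex.Count
import Cfsg.Agent.Lib.Classical.OrthMinIndex.Moves

/-!
# Translates of an additive group of vectors under the stabiliser of a singular point
-/

set_option autoImplicit false
set_option linter.unusedSectionVars false
set_option linter.unusedSimpArgs false

namespace Cfsg.Agent.Classical.OrthMinIndex

open Cfsg.Agent.Forms Cfsg.Agent.Forms.QuadStd Cfsg.Agent.Forms.Reflections
open Cfsg.Agent.Classical.Orth Module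

open scoped _root_.Classical

variable {F : Type*} [Field F] [Fintype F] {ι : Type} [Fintype ι] [DecidableEq ι]
variable {Q : QuadraticForm F (ι → F)}

local notation "Vec" => (ι → F)
local notation "B" => QuadraticMap.polar Q

/-- The line of a vector. -/
noncomputable abbrev Ln (a : ι → F) : Submodule F (ι → F) := Submodule.span F {a}

/-- An isometry followed by a scaling. -/
noncomputable def sA (g : Cfsg.isometryGroup F ⇑Q) (t : F) : (ι → F) →+ (ι → F) :=
  (t • act g).toAddMonoidHom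

theorem sA_apply (g : Cfsg.isometryGroup F ⇑Q) (t : F) (v : Vec) : sA g t v = t • act g v := rfl

theorem sA_comp (g h : Cfsg.isometryGroup F ⇑Q) (s t : F) :
    (sA g s).comp (sA h t) = sA (g * h) (s * t) :=
  AddMonoidHom.ext fun v => by
    simp [sA_apply, act_mul, map_smul, smul_smul, mul_comm]

theorem sA_one : sA (1 : Cfsg.isometryGroup F ⇑Q) 1 = AddMonoidHom.id _ :=
  AddMonoidHom.ext fun v => by simp [sA_apply, act_one]

theorem sA_injective (g : Cfsg.isometryGroup F ⇑Q) {t : F} (ht : t ≠ 0) :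
    Function.Injective (sA g t) :=
  fun x y h => act_injective g (smul_right_injective _ ht h)

/-- The translates. -/
noncomputable def Tr (Q : QuadraticForm F (ι → F)) (a : ι → F) (U : AddSubgroup (ι → F)) :
    Finset (AddSubgroup (ι → F)) :=
  letI := Fintype.ofFinite (AddSubgroup (ι → F))
  Finset.univ.filter fun U' => ∃ g ∈ Cfsg.Omega F ⇑Q, ∃ t : F, t ≠ 0 ∧ act g a = t • a ∧
    U' = U.map (sA g t⁻¹)

theorem mem_Tr {a : Vec} {U U' : AddSubgroup Vec} : U' ∈ Tr Q a U ↔
    ∃ g ∈ Cfsg.Omega F ⇑Q, ∃ t : F, t ≠ 0 ∧ act g a = t • a ∧ U' = U.map (sA g t⁻¹) := by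
  simp [Tr]

theorem self_mem_Tr (a : Vec) (U : AddSubgroup Vec) : U ∈ Tr Q a U :=
  mem_Tr.2 ⟨1, one_mem _, 1, one_ne_zero, by simp [act_one], by
    rw [inv_one, sA_one, AddSubgroup.map_id]⟩

theorem map_mem_Tr {a : Vec} {U U' : AddSubgroup Vec} (h : U' ∈ Tr Q a U)
    {g : Cfsg.isometryGroup F ⇑Q} (hg : g ∈ Cfsg.Omega F ⇑Q) {t : F} (ht : t ≠ 0)
    (hga : act g a = t • a) : U'.map (sA g t⁻¹) ∈ Tr Q a U := by
  obtain ⟨h', hh, s, hs, hha, rfl⟩ := mem_Tr.1 h
  refine mem_Tr.2 ⟨g * h', mul_mem hg hh, t * s, mul_ne_zero ht hs, ?_, ?_⟩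
  · rw [act_mul, hha, map_smul, hga, smul_smul, mul_comm]
  · rw [AddSubgroup.map_map, sA_comp, mul_inv]

theorem natCard_Tr {a : Vec} {U U' : AddSubgroup Vec} (h : U' ∈ Tr Q a U) :
    Nat.card U' = Nat.card U := by
  obtain ⟨g, -, t, ht, -, rfl⟩ := mem_Tr.1 h
  exact AddSubgroup.card_map_of_injective (sA_injective g (inv_ne_zero ht))

theorem line_le_Tr {a : Vec} {U U' : AddSubgroup Vec} (hU : ∀ v ∈ Ln a, v ∈ U)
    (h : U' ∈ Tr Q a U) : ∀ v ∈ Ln a, v ∈ U' := by
  obtain ⟨g, -, t, ht, hga, rfl⟩ := mem_Tr.1 h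
  intro v hv
  refine ⟨v, hU v hv, ?_⟩
  obtain ⟨c, rfl⟩ := Submodule.mem_span_singleton.1 hv
  rw [sA_apply, map_smul, hga, smul_smul, smul_smul]
  congr 1
  field_simp

theorem perp_Tr {a : Vec} {U U' : AddSubgroup Vec} (hU : ∀ v ∈ U, B a v = 0)
    (h : U' ∈ Tr Q a U) : ∀ v ∈ U', B a v = 0 := by
  obtain ⟨g, -, t, ht, hga, rfl⟩ := mem_Tr.1 h
  rintro _ ⟨v, hv, rfl⟩
  rw [sA_apply, QuadraticMap.polar_smul_right]
  have h0 : B (act g a) (act g v) = 0 := by rw [act_polar, hU v hv]
  rw [hga, QuadraticMap.polar_smul_left, smul_eq_mul, mul_eq_zero] at h0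
  rw [h0.resolve_left ht, smul_zero]

/-- The members outside a subspace. -/
noncomputable def off (W : Submodule F (ι → F)) (U : AddSubgroup (ι → F)) : Finset (ι → F) :=
  Finset.univ.filter fun y => y ∈ U ∧ y ∉ W

theorem mem_off {W : Submodule F Vec} {U : AddSubgroup Vec} {y : Vec} :
    y ∈ off W U ↔ y ∈ U ∧ y ∉ W := by simp [off]

theorem card_off (W : Submodule F Vec) (U : AddSubgroup Vec) :
    (off W U).card + Nat.card ↥(U ⊓ W.toAddSubgroup) = Nat.card U := by
  rw [Nat.card_eq_fintype_card, Nat.card_eq_fintype_card,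
    Fintype.card_of_subtype (Finset.univ.filter fun y => y ∈ U ∧ y ∈ W) (fun y => by simp),
    Fintype.card_of_subtype (Finset.univ.filter fun y => y ∈ U) (fun y => by simp),
    ← Finset.card_union_of_disjoint]
  · congr 1
    ext y
    simp only [off, Finset.mem_union, Finset.mem_filter, Finset.mem_univ, true_and]
    tauto
  · rw [Finset.disjoint_left]
    exact fun y h h' => (mem_off.1 h).2 (Finset.mem_filter.1 h').2.2

theorem natCard_Ln {a : Vec} (ha0 : a ≠ 0) : Nat.card (Ln a).toAddSubgroup = Fintype.card F := by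
  rw [natCard_sub, finrank_span_singleton ha0, pow_one]

theorem card_off_line {a : Vec} (ha0 : a ≠ 0) {U : AddSubgroup Vec} (hU : ∀ v ∈ Ln a, v ∈ U) :
    (off (Ln a) U).card + Fintype.card F = Nat.card U := by
  have h := card_off (Ln a) U
  rwa [show U ⊓ (Ln a).toAddSubgroup = (Ln a).toAddSubgroup from inf_eq_right.2 hU,
    natCard_Ln ha0] at h

/-- Double counting. -/
theorem double_count (T : Finset (AddSubgroup Vec)) (S : Finset Vec) (W : Submodule F Vec) {r k : ℕ}
    (hS : ∀ y ∈ S, y ∉ W) (hr : ∀ y ∈ S, r ≤ (T.filter (y ∈ ·)).card)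
    (hk : ∀ U' ∈ T, (off W U').card ≤ k) : S.card * r ≤ T.card * k :=
  Finset.card_mul_le_card_mul (fun y U' => y ∈ U') hr fun U' hU' =>
    (Finset.card_le_card fun y hy => by
      rw [Finset.mem_bipartiteBelow] at hy
      exact mem_off.2 ⟨hy.2, hS y hy.1⟩).trans (hk U' hU')

/-- The vectors in the class of `x`, off the line. -/
noncomputable def Sx (Q : QuadraticForm F (ι → F)) (a : ι → F) (c : F) : Finset (ι → F) :=
  (cls Q (sperp Q {a}) c).filter fun y => y ∉ Ln a

theorem mem_Sx {a y : Vec} {c : F} : y ∈ Sx Q a c ↔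
    B a y = 0 ∧ y ∉ Ln a ∧ ∃ s : F, s ≠ 0 ∧ Q y = s * s * c := by
  simp only [Sx, cls, Finset.mem_filter, Finset.mem_univ, true_and, mem_sperp1]
  tauto

theorem card_Sx {a : Vec} (ha : Q a = 0) {c : F} (hc : c ≠ 0) :
    (Sx Q a c).card = (sqs F).card * cnt Q (sperp Q {a}) c := by
  rw [← card_cls _ hc, Sx, Finset.filter_true_of_mem]
  intro y hy
  obtain ⟨s, hs, hQy⟩ := (Finset.mem_filter.1 hy).2.2
  intro hmem
  obtain ⟨k, rfl⟩ := Submodule.mem_span_singleton.1 hmem
  rw [Orth.map_smul', ha, mul_zero] at hQy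
  exact mul_ne_zero (mul_ne_zero hs hs) hc hQy.symm

theorem card_Sx_zero {a : Vec} (ha : Q a = 0) (ha0 : a ≠ 0) :
    (Sx Q a 0).card + Fintype.card F = cnt Q (sperp Q {a}) 0 := by
  rw [← cls_zero_card, ← natCard_Ln ha0, Nat.card_eq_fintype_card,
    Fintype.card_of_subtype (Finset.univ.filter fun y => y ∈ Ln a) (fun y => by simp),
    ← Finset.card_union_of_disjoint]
  · congr 1
    ext y
    simp only [Sx, Finset.mem_union, Finset.mem_filter, Finset.mem_univ, true_and, cls, mul_zero,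
      mem_sperp1]
    constructor
    · rintro (h | h)
      · exact h.1
      · obtain ⟨k, rfl⟩ := Submodule.mem_span_singleton.1 h
        exact ⟨by simp [QuadraticMap.polar_smul_right, polar_self_zero ha],
          1, one_ne_zero, by simp [Orth.map_smul', ha]⟩
    · intro h
      by_cases hy : y ∈ Ln a
      · exact Or.inr hy
      · exact Or.inl ⟨h, hy⟩
  · rw [Finset.disjoint_left]
    intro y hy hy'
    exact (Finset.mem_filter.1 hy).2 (Finset.mem_filter.1 hy').2

theorem Sx_disjoint {a : Vec} {c d : F} (h : ∀ s : F, s ≠ 0 → d ≠ s * s * c) :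
    Disjoint (Sx Q a c) (Sx Q a d) := by
  rw [Finset.disjoint_left]
  intro y hy hy'
  obtain ⟨-, -, s, hs, e⟩ := mem_Sx.1 hy
  obtain ⟨-, -, t, ht, e'⟩ := mem_Sx.1 hy'
  refine h (s / t) (div_ne_zero hs ht) ?_
  rw [e] at e'
  field_simp
  linear_combination -e'

/-- The vectors off the span, singular and orthogonal to it. -/
noncomputable def Phi (Q : QuadraticForm F (ι → F)) (a x : ι → F) : Finset (ι → F) :=
  Finset.univ.filter fun y => y ∈ sperp Q {a, x} ∧ Q y = 0 ∧ y ∉ Submodule.span F {a, x}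

theorem card_Phi {a x : Vec} (ha : Q a = 0) (ha0 : a ≠ 0) (hx : Q x = 0) (hax : B a x = 0)
    (hxa : x ∉ Ln a) :
    (Phi Q a x).card + Fintype.card F ^ 2 = cnt Q (sperp Q {a, x}) 0 := by
  have hspan : finrank F ↥(Submodule.span F ({a, x} : Set Vec)) = 2 := by
    have hli : LinearIndependent F ![a, x] :=
      (LinearIndependent.pair_iff' ha0).2 fun c hc => hxa (Submodule.mem_span_singleton.2 ⟨c, hc⟩)
    have h := finrank_span_eq_card hli
    rwa [Fintype.card_fin, show Set.range ![a, x] = {a, x} by simp [Matrix.range_cons, Matrix.range_empty, Set.pair_comm]] at h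
  have hsub : ∀ y ∈ Submodule.span F ({a, x} : Set Vec), y ∈ sperp Q {a, x} ∧ Q y = 0 := by
    intro y hy
    obtain ⟨k, l, rfl⟩ := Submodule.mem_span_pair.1 hy
    refine ⟨mem_sperp2.2 ⟨?_, ?_⟩, ?_⟩ <;>
      simp [QuadraticMap.polar_add_right, QuadraticMap.polar_smul_right, polar_self_zero ha,
        polar_self_zero hx, hax, QuadraticMap.polar_comm _ x a, map_add', QuadraticMap.map_smul,
        QuadraticMap.polar_smul_left, ha, hx]
  have e := natCard_sub (Submodule.span F ({a, x} : Set Vec))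
  rw [hspan] at e
  rw [← e, cnt, Nat.card_eq_fintype_card, Nat.card_eq_fintype_card,
    Fintype.card_of_subtype (Finset.univ.filter fun y => y ∈ Submodule.span F ({a, x} : Set Vec))
      (fun y => by simp),
    Fintype.card_subtype, ← Finset.card_union_of_disjoint]
  · congr 1
    ext y
    simp only [Phi, Finset.mem_union, Finset.mem_filter, Finset.mem_univ, true_and]
    refine ⟨?_, fun h => ?_⟩
    · rintro (h | h)
      · exact ⟨h.1, h.2.1⟩
      · exact hsub y h
    · by_cases hy : y ∈ Submodule.span F ({a, x} : Set Vec)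
      · exact Or.inr hy
      · exact Or.inl ⟨h.1, h.2, hy⟩
  · rw [Finset.disjoint_left]
    intro y hy hy'
    exact (Finset.mem_filter.1 hy).2.2.2 (Finset.mem_filter.1 hy').2

variable (hQ : (QuadraticMap.polarBilin Q).Nondegenerate) (hn : 7 ≤ Fintype.card ι)
  {a : ι → F} (ha : Q a = 0) (ha0 : a ≠ 0) {U : AddSubgroup (ι → F)}
  (hUa : ∀ v ∈ Ln a, v ∈ U) (hUp : ∀ v ∈ U, QuadraticMap.polar Q a v = 0)
include hQ hn ha ha0 hUa hUp

theorem off_le {U' : AddSubgroup Vec} (h : U' ∈ Tr Q a U) :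
    (off (Ln a) U').card ≤ Nat.card U - Fintype.card F := by
  have := card_off_line ha0 (line_le_Tr hUa h)
  rw [natCard_Tr h] at this
  omega

/-- The multiplicity does not depend on the member of the class. -/
theorem through_eq {x y : Vec} (hx : B a x = 0) (hxa : x ∉ Ln a) (hy : y ∈ Sx Q a (Q x)) :
    ((Tr Q a U).filter (x ∈ ·)).card ≤ ((Tr Q a U).filter (y ∈ ·)).card := by
  obtain ⟨hay, hya, s, hs, hQy⟩ := mem_Sx.1 hy
  obtain ⟨g, hg, hga, hgx⟩ := move_pair hQ hn (inv_ne_zero hs) ha ha0 hx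
    (u' := s⁻¹ • y) (by rw [QuadraticMap.polar_smul_right, hay, smul_zero]) hxa
    (fun h => hya (by simpa [smul_smul, mul_inv_cancel₀ hs] using Submodule.smul_mem _ s h))
    (by rw [Orth.map_smul', hQy]; field_simp)
  refine Finset.card_le_card_of_injOn (fun U' => U'.map (sA g s⁻¹⁻¹)) (fun U' hU' => ?_) ?_
  · obtain ⟨h1, h2⟩ := Finset.mem_filter.1 hU'
    refine Finset.mem_filter.2 ⟨map_mem_Tr h1 hg (inv_ne_zero hs) hga, x, h2, ?_⟩
    rw [sA_apply, hgx, smul_smul, inv_inv, mul_inv_cancel₀ hs, one_smul]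
  · exact fun U₁ _ U₂ _ h => AddSubgroup.map_injective (sA_injective g (by simpa using hs)) h

/-- The translates cover the class of each member. -/
theorem class_bound {x : Vec} (hxU : x ∈ U) (hxa : x ∉ Ln a) {r : ℕ}
    (hr : r ≤ ((Tr Q a U).filter (x ∈ ·)).card) :
    ∀ y ∈ Sx Q a (Q x), r ≤ ((Tr Q a U).filter (y ∈ ·)).card :=
  fun _ hy => hr.trans (through_eq hQ hn ha ha0 hUa hUp (hUp x hxU) hxa hy)

theorem one_le_through {x : Vec} (hxU : x ∈ U) : 1 ≤ ((Tr Q a U).filter (x ∈ ·)).card :=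
  Finset.card_pos.2 ⟨U, Finset.mem_filter.2 ⟨self_mem_Tr a U, hxU⟩⟩

/-- A root element moving `U` and fixing `a`, `x` gives `p` translates through `x`. -/
theorem p_le_through {x z w : Vec} (hxU : x ∈ U) (hz : Q z = 0) (hzw : B z w = 0)
    (haz : B a z = 0) (haw : B a w = 0) (hxz : B x z = 0) (hxw : B x w = 0)
    (hmove : U.map (sA (Ei Q z w) 1) ≠ U) :
    ringChar F ≤ ((Tr Q a U).filter (x ∈ ·)).card := by
  set f : AddSubgroup Vec → AddSubgroup Vec := fun V => V.map (sA (Ei Q z w) 1) with hf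
  have hit : ∀ (i : ℕ) (V : AddSubgroup Vec), f^[i] V = V.map (sA (Ei Q z ((i : F) • w)) 1) := by
    intro i
    induction i with
    | zero => intro V; simp [Ei_zero, sA_one]
    | succ i ih =>
      intro V
      rw [Function.iterate_succ_apply', ih]
      show (AddSubgroup.map (sA (Ei Q z ((i : F) • w)) 1) V).map (sA (Ei Q z w) 1) = _
      rw [AddSubgroup.map_map, sA_comp, one_mul,
        Ei_mul hz hzw (by rw [QuadraticMap.polar_smul_right, hzw, smul_zero])]
      congr 4
      push_cast; module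
  have hper : Function.IsPeriodicPt f (ringChar F) U := by
    show f^[ringChar F] U = U
    rw [hit, CharP.cast_eq_zero, zero_smul, Ei_zero, sA_one, AddSubgroup.map_id]
  have hp := (CharP.char_is_prime F (ringChar F))
  have hmin : Function.minimalPeriod f U = ringChar F :=
    ((Nat.dvd_prime hp).1 hper.minimalPeriod_dvd).resolve_left fun h =>
      hmove (Function.minimalPeriod_eq_one_iff_isFixedPt.1 h)
  rw [← hmin, ← Finset.card_range (Function.minimalPeriod f U)]
  refine Finset.card_le_card_of_injOn (fun i => f^[i] U) (fun i _ => ?_) ?_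
  · have hfix : ∀ v, B v z = 0 → B v w = 0 → act (Ei Q z ((i : F) • w)) v = v := fun v h1 h2 =>
      act_Ei_fix hz (by rw [QuadraticMap.polar_smul_right, hzw, smul_zero]) h1
        (by rw [QuadraticMap.polar_smul_right, h2, smul_zero])
    refine Finset.mem_filter.2 ⟨?_, ?_⟩
    · show f^[i] U ∈ _
      rw [hit]
      exact mem_Tr.2 ⟨_, Ei_omega hQ (by omega) _ _, 1, one_ne_zero,
        by rw [one_smul, hfix a haz haw], by rw [inv_one]⟩
    · show x ∈ f^[i] U
      rw [hit]
      exact ⟨x, hxU, by rw [sA_apply, one_smul, hfix x hxz hxw]⟩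
  · intro i hi j hj h
    exact Function.iterate_injOn_Iio_minimalPeriod (by simpa using hi) (by simpa using hj) h

omit hUa hUp in
/-- An invariant group contains the complement of a singular vector in the complement of `a`, `x`. -/
theorem exists_Y_le {x v : Vec} {W : AddSubgroup Vec} (hv : v ∈ W) (hva : B a v = 0)
    (hvs : v ∉ Submodule.span F ({a, x} : Set Vec))
    (hinv : ∀ z w : Vec, Q z = 0 → z ∈ sperp Q {a, x} → w ∈ sperp Q {a, x, z} →
      ∀ u ∈ W, act (Ei Q z w) u ∈ W) :
    ∃ z : Vec, Q z = 0 ∧ z ∈ sperp Q {a, x} ∧ B v z ≠ 0 ∧ ∀ y ∈ sperp Q {a, x, z}, y ∈ W := by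
  obtain ⟨z, hz, hQz, hβ⟩ : ∃ z ∈ sperp Q {a, x}, Q z = 0 ∧ B v z ≠ 0 := by
    by_contra hcon
    push Not at hcon
    obtain ⟨y, hy, hvy⟩ := exists_sperp_ne hQ hvs
    have hle := perp_le_of_sing hQ (Submodule.span F ({a, x} : Set Vec))
      (by have := finrank_span2 (F := F) a x; omega) (T := LinearMap.ker (polB Q v))
      (fun z hz hQz => hcon z hz hQz)
    exact hvy (hle hy)
  refine ⟨z, hQz, hz, hβ, ?_⟩
  have D : ∀ w ∈ sperp Q {a, x, z},
      B v z • w - (B v w + Q w * B v z) • z ∈ W := by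
    intro w hw
    have h := W.sub_mem (hinv z w hQz hz hw v hv) hv
    rw [act_Ei hQz (mem_sperp3.1 hw).2.2] at h
    convert h using 1
    module
  obtain ⟨w₀, hw₀, w₁, hw₁, h01⟩ := exists_nonsing_out hQ (Submodule.span F ({a, x, z} : Set Vec))
    (by have := finrank_span3 (F := F) a x z; omega)
  have hzline : ∀ s : F, s • z ∈ W := by
    intro s
    set w := (-s / (B v z * B w₀ w₁)) • w₀ with hw
    have hwS : w ∈ sperp Q {a, x, z} := Submodule.smul_mem _ _ hw₀
    have h := W.sub_mem (W.sub_mem (D (w + w₁) (Submodule.add_mem _ hwS hw₁)) (D w hwS)) (D w₁ hw₁)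
    convert h using 1
    rw [map_add' w w₁, hw, QuadraticMap.polar_smul_left, QuadraticMap.polar_add_right, smul_eq_mul]
    match_scalars <;> field_simp <;> ring
  intro y hy
  have h := W.add_mem (D ((B v z)⁻¹ • y) (Submodule.smul_mem _ _ hy))
    (hzline (B v ((B v z)⁻¹ • y) + Q ((B v z)⁻¹ • y) * B v z))
  rwa [smul_smul, mul_inv_cancel₀ hβ, one_smul, sub_add_cancel] at h

omit hUa in
/-- If all root elements fixing `a`, `x` fix `U`, the annihilator is tiny. -/
theorem ann_le_of_inv {x v : Vec} (hv : v ∈ U) (hvs : v ∉ Submodule.span F ({a, x} : Set Vec))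
    (haU : a ∈ U)
    (hinv : ∀ z w : Vec, Q z = 0 → z ∈ sperp Q {a, x} → w ∈ sperp Q {a, x, z} →
      U.map (sA (Ei Q z w) 1) = U) (hUa' : ∀ c : F, c • a ∈ U) :
    ∀ y ∈ ann Q U, y ∈ Submodule.span F ({a, x} : Set Vec) := by
  intro y hy
  by_contra hys
  obtain ⟨z, -, -, -, hY⟩ := exists_Y_le hQ hn ha ha0 hv (hUp v hv) hvs
    (fun z w h1 h2 h3 u hu => by
      rw [← hinv z w h1 h2 h3]; exact ⟨u, hu, by rw [sA_apply, one_smul]⟩)
  have hay : B a y = 0 := by
    by_contra h0
    obtain ⟨b, hb⟩ := exists_tr_ne h0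
    exact hb (by
      have := hy (b • a) (hUa' b)
      rwa [QuadraticMap.polar_smul_right, QuadraticMap.polar_comm, smul_eq_mul] at this)
  obtain ⟨z', hz', hz'S, -, hY'⟩ := exists_Y_le hQ hn ha ha0 (W := ann Q U) hy hay hys
    (fun z w h1 h2 h3 u hu u' hu' => by
      rw [← hinv z w h1 h2 h3] at hu'
      obtain ⟨u'', hu'', rfl⟩ := hu'
      rw [sA_apply, one_smul, act_polar]
      exact hu u'' hu'')
  have hle : sperp Q {a, x, z} ≤ Submodule.span F ({a, x, z'} : Set Vec) := by
    rw [← Max.Orth.perp_perp hQ (Submodule.span F ({a, x, z'} : Set Vec))]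
    intro w hw
    refine Max.Orth.mem_perp.2 fun s hs => ?_
    by_contra h0
    obtain ⟨b, hb⟩ := exists_tr_ne h0
    refine hb ?_
    have := hY' (b • s) (Submodule.smul_mem _ b hs) w (hY w hw)
    rwa [QuadraticMap.polar_smul_left, smul_eq_mul] at this
  have h1 := Submodule.finrank_mono hle
  have h2 := Max.Orth.finrank_perp hQ (Submodule.span F ({a, x, z} : Set Vec))
  have := finrank_span3 (F := F) a x z
  have := finrank_span3 (F := F) a x z'
  change finrank F ↥(Max.Orth.perp Q _) ≤ _ at h1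
  omega

/-- Either `p` translates pass through `x`, or the annihilator is tiny. -/
theorem through_or_small {x v : Vec} (hxU : x ∈ U) (hv : v ∈ U)
    (hvs : v ∉ Submodule.span F ({a, x} : Set Vec)) :
    ringChar F ≤ ((Tr Q a U).filter (x ∈ ·)).card ∨
      ∀ y ∈ ann Q U, y ∈ Submodule.span F ({a, x} : Set Vec) := by
  by_cases h : ∃ z w : Vec, Q z = 0 ∧ z ∈ sperp Q {a, x} ∧ w ∈ sperp Q {a, x, z} ∧
      U.map (sA (Ei Q z w) 1) ≠ U
  · obtain ⟨z, w, hz, hzS, hwS, hmove⟩ := h
    obtain ⟨h1, h2⟩ := mem_sperp2.1 hzS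
    obtain ⟨h3, h4, h5⟩ := mem_sperp3.1 hwS
    exact Or.inl (p_le_through hQ hn ha ha0 hUa hUp hxU hz h5 h1 h3 h2 h4 hmove)
  · push Not at h
    exact Or.inr (ann_le_of_inv hQ hn ha ha0 hUp hv hvs
      (hUa a (Submodule.mem_span_singleton_self a)) h
      fun c => hUa _ (Submodule.smul_mem _ c (Submodule.mem_span_singleton_self a)))

/-- Totally singular groups have many translates. -/
theorem ts_bound {x v : Vec} (hxU : x ∈ U) (hvU : v ∈ U) (hx : Q x = 0) (hv : Q v = 0)
    (hxv : B x v = 0) (hxa : x ∉ Ln a) (hvs : v ∉ Submodule.span F ({a, x} : Set Vec)) {L : ℕ}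
    (hL : ∀ U' ∈ Tr Q a U, x ∈ U' →
      L ≤ Nat.card ↥(U' ⊓ (Submodule.span F ({a, x} : Set Vec)).toAddSubgroup)) :
    (Sx Q a 0).card * (Phi Q a x).card ≤
      (Tr Q a U).card * ((Nat.card U - Fintype.card F) * (Nat.card U - L)) := by
  set r := ((Tr Q a U).filter (x ∈ ·)).card with hr
  have h1 : (Phi Q a x).card * 1 ≤ r * (Nat.card U - L) := by
    refine double_count _ _ (Submodule.span F ({a, x} : Set Vec))
      (fun y hy => (Finset.mem_filter.1 hy).2.2.2) (fun y hy => ?_) fun U' hU' => ?_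
    · obtain ⟨hyS, hy0, hys⟩ := (Finset.mem_filter.1 hy).2
      obtain ⟨hay, hxy⟩ := mem_sperp2.1 hyS
      obtain ⟨g, hg, ν, hν, hga, hgx, hgv⟩ := move_triple hQ hn ha hx hv hy0 ha0 (hUp x hxU)
        (hUp v hvU) hxv hay hxy hxa hvs hys
      refine Finset.card_pos.2 ⟨U.map (sA g ν⁻¹), ?_⟩
      simp only [Finset.mem_filter]
      refine ⟨⟨map_mem_Tr (self_mem_Tr a U) hg hν hga, ⟨x, hxU, ?_⟩⟩, ⟨v, hvU, ?_⟩⟩
      · rw [sA_apply, hgx, smul_smul, inv_mul_cancel₀ hν, one_smul]
      · rw [sA_apply, hgv, smul_smul, inv_mul_cancel₀ hν, one_smul]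
    · obtain ⟨hT, hxU'⟩ := Finset.mem_filter.1 hU'
      have := card_off (Submodule.span F ({a, x} : Set Vec)) U'
      rw [natCard_Tr hT] at this
      have := hL U' hT hxU'
      omega
  have h2 : (Sx Q a 0).card * r ≤ (Tr Q a U).card * (Nat.card U - Fintype.card F) :=
    double_count _ _ (Ln a) (fun y hy => (mem_Sx.1 hy).2.1)
      (fun y hy => class_bound hQ hn ha ha0 hUa hUp hxU hxa le_rfl y (by rwa [hx]))
      fun U' h => off_le hQ hn ha ha0 hUa hUp h
  rw [mul_one] at h1
  calc (Sx Q a 0).card * (Phi Q a x).card ≤ (Sx Q a 0).card * (r * (Nat.card U - L)) :=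
        Nat.mul_le_mul_left _ h1
    _ = (Sx Q a 0).card * r * (Nat.card U - L) := by ring
    _ ≤ (Tr Q a U).card * (Nat.card U - Fintype.card F) * (Nat.card U - L) :=
        Nat.mul_le_mul_right _ h2
    _ = _ := by ring

/-- A group meeting an anisotropic plane: four translates through a point. -/
theorem four_le_through {x v : Vec} (hxU : x ∈ U) (hv : v ∈ U)
    (hvs : v ∉ Submodule.span F ({a, x} : Set Vec)) (hk : Nat.card U ≤ 8)
    (h2 : Fintype.card F = 2) (hn8 : 8 ≤ Fintype.card ι) (hxa : x ∉ Ln a) :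
    4 ≤ ((Tr Q a U).filter (x ∈ ·)).card := by
  obtain ⟨z, hz, hQz, hβ⟩ : ∃ z ∈ sperp Q {a, x}, Q z = 0 ∧ B v z ≠ 0 := by
    by_contra hcon
    push Not at hcon
    obtain ⟨y, hy, hvy⟩ := exists_sperp_ne hQ hvs
    have hle := perp_le_of_sing hQ (Submodule.span F ({a, x} : Set Vec))
      (by have := finrank_span2 (F := F) a x; omega) (T := LinearMap.ker (polB Q v))
      (fun z hz hQz => hcon z hz hQz)
    exact hvy (hle hy)
  obtain ⟨haz, hxz⟩ := mem_sperp2.1 hz
  set W := Submodule.span F ({a, x} : Set Vec) with hW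
  set Y := sperp Q {a, x, z} with hY
  set img : Finset Vec :=
    (Finset.univ.filter fun w => w ∈ Y).image fun w => act (Ei Q z w) v with himg
  have hYcard : 32 ≤ (Finset.univ.filter fun w => w ∈ Y).card := by
    rw [← Fintype.card_subtype, ← Nat.card_eq_fintype_card,
      Module.natCard_eq_pow_finrank (K := F), Nat.card_eq_fintype_card, h2,
      show (32 : ℕ) = 2 ^ 5 from rfl]
    refine Nat.pow_le_pow_right (by norm_num) ?_
    have h3 := Max.Orth.finrank_perp hQ (Submodule.span F ({a, x, z} : Set Vec))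
    have := finrank_span3 (F := F) a x z
    show 5 ≤ finrank F ↥(Max.Orth.perp Q _)
    omega
  have hfib : (Finset.univ.filter fun w => w ∈ Y).card ≤ 2 * img.card := by
    refine Finset.card_le_mul_card_image _ 2 fun b hb => ?_
    obtain ⟨w, hw, rfl⟩ := Finset.mem_image.1 hb
    refine (Finset.card_le_card (t := {w, w + z}) fun w' hw' => ?_).trans Finset.card_le_two
    simp only [Finset.mem_filter, Finset.mem_univ, true_and] at hw hw'
    obtain ⟨hw'Y, he⟩ := hw'
    rw [act_Ei hQz (mem_sperp3.1 hw'Y).2.2, act_Ei hQz (mem_sperp3.1 hw).2.2] at he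
    have e : w' - w = ((B v w' + Q w' * B v z - B v w - Q w * B v z) / B v z) • z := by
      have he' : B v z • (w' - w) = (B v w' + Q w' * B v z - B v w - Q w * B v z) • z := by
        linear_combination (norm := module) he
      rw [eq_comm, div_eq_inv_mul, ← smul_smul, ← he', smul_smul, inv_mul_cancel₀ hβ, one_smul]
    have h01 : ∀ c : F, c = 0 ∨ c = 1 := fun c => by
      have : ({0, 1} : Finset F) = Finset.univ :=
        Finset.eq_univ_of_card _ (by rw [Finset.card_pair zero_ne_one, h2])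
      have hc := Finset.mem_univ c
      rw [← this] at hc
      simpa using hc
    simp only [Finset.mem_insert, Finset.mem_singleton]
    rcases h01 ((B v w' + Q w' * B v z - B v w - Q w * B v z) / B v z) with h | h <;> rw [h] at e
    · rw [zero_smul, sub_eq_zero] at e; exact Or.inl e
    · rw [one_smul, sub_eq_iff_eq_add] at e; exact Or.inr (by rw [e, add_comm])
  have hmain : img.card * 1 ≤ ((Tr Q a U).filter (x ∈ ·)).card * 4 := by
    refine double_count _ _ W (fun y hy => ?_) (fun y hy => ?_) fun U' hU' => ?_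
    · obtain ⟨w, hw, rfl⟩ := Finset.mem_image.1 hy
      simp only [Finset.mem_filter, Finset.mem_univ, true_and] at hw
      intro hmem
      refine hvs ?_
      obtain ⟨h3, h4, h5⟩ := mem_sperp3.1 hw
      obtain ⟨k, l, hkl⟩ := Submodule.mem_span_pair.1 hmem
      refine Submodule.mem_span_pair.2 ⟨k, l, act_injective (Ei Q z w) ?_⟩
      rw [← hkl, map_add, map_smul, map_smul,
        act_Ei_fix hQz h5 haz h3, act_Ei_fix hQz h5 hxz h4]
    · obtain ⟨w, hw, rfl⟩ := Finset.mem_image.1 hy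
      simp only [Finset.mem_filter, Finset.mem_univ, true_and] at hw
      obtain ⟨h3, h4, h5⟩ := mem_sperp3.1 hw
      refine Finset.card_pos.2 ⟨U.map (sA (Ei Q z w) (1 : F)⁻¹), ?_⟩
      simp only [Finset.mem_filter]
      refine ⟨⟨map_mem_Tr (self_mem_Tr a U) (Ei_omega hQ (by omega) z w) one_ne_zero
        (by rw [one_smul, act_Ei_fix hQz h5 haz h3]), ⟨x, hxU, ?_⟩⟩, ⟨v, hv, ?_⟩⟩
      · rw [sA_apply, inv_one, one_smul, act_Ei_fix hQz h5 hxz h4]
      · rw [sA_apply, inv_one, one_smul]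
    · obtain ⟨hT, hxU'⟩ := Finset.mem_filter.1 hU'
      have hle : W.toAddSubgroup ≤ U' := by
        intro y hy
        obtain ⟨k, l, rfl⟩ := Submodule.mem_span_pair.1 hy
        refine U'.add_mem (line_le_Tr hUa hT _ (Submodule.smul_mem _ k (Submodule.mem_span_singleton_self a))) ?_
        have h01 : l = 0 ∨ l = 1 := by
          have : ({0, 1} : Finset F) = Finset.univ :=
            Finset.eq_univ_of_card _ (by rw [Finset.card_pair zero_ne_one, h2])
          have hc := Finset.mem_univ l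
          rw [← this] at hc
          simpa using hc
        rcases h01 with rfl | rfl <;> simp [hxU', U'.zero_mem]
      have := card_off W U'
      rw [natCard_Tr hT, inf_eq_right.2 hle, natCard_sub, h2] at this
      have hd : finrank F W = 2 := by
        have hli : LinearIndependent F ![a, x] :=
          (LinearIndependent.pair_iff' ha0).2 fun c hc => hxa (Submodule.mem_span_singleton.2 ⟨c, hc⟩)
        have h := finrank_span_eq_card hli
        rw [hW]
        rwa [Fintype.card_fin, show Set.range ![a, x] = {a, x} by simp [Matrix.range_cons, Matrix.range_empty, Set.pair_comm]] at h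
      rw [hd] at this
      norm_num
      omega
  omega

end Cfsg.Agent.Classical.OrthMinIndex
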