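import Cfsg.Agent.Lib.Classical.OrthMinIndex.Main

/-!
# Transfer to the projective group and the actions attaining the bound
-/

set_option autoImplicit false
set_option linter.unusedSectionVars false
set_option linter.unusedSimpArgs false

namespace Cfsg.Agent.Classical.OrthMinIndex

open Cfsg.Agent.Forms Cfsg.Agent.Forms.QuadStd Cfsg.Agent.Forms.Reflections
open Cfsg.Agent.Classical.Orth Module

open scoped _root_.Classical

variable {F : Type*} [Field F] [Fintype F] {ι : Type} [Fintype ι] [DecidableEq ι]
variable {Q : QuadraticForm F (ι → F)}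

local notation "Vec" => (ι → F)
local notation "B" => QuadraticMap.polar Q
set_option quotPrecheck false in
local notation "Ω" => Cfsg.Omega F ⇑Q

variable (hQ : (QuadraticMap.polarBilin Q).Nondegenerate) (hn : 7 ≤ Fintype.card ι)
include hQ hn

/-- `Ω` is transitive on non-zero vectors of a given value. -/
theorem move_vec {u v : Vec} (hu : u ≠ 0) (hv : v ≠ 0) (h : Q u = Q v) :
    ∃ g : Cfsg.isometryGroup F ⇑Q, g ∈ Cfsg.Omega F ⇑Q ∧ act g u = v := by
  obtain ⟨g₀, hg₀⟩ := exists_isometry_fam hQ ![u] ![v]
    (linearIndependent_fin_cons.2 ⟨linearIndependent_empty_type, by simpa⟩)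
    (linearIndependent_fin_cons.2 ⟨linearIndependent_empty_type, by simpa⟩)
    (fun i => by fin_cases i; simpa using h)
    (fun i j => by fin_cases i; fin_cases j; simp [polar_self', h])
  have h0 : act g₀ u = v := hg₀ 0
  obtain ⟨g, hg, hgg⟩ := exists_omega_small hQ hn (S := Submodule.span F {v})
    ((finrank_span1 v).trans one_le_two) g₀
  exact ⟨g, hg, by rw [hgg u (by rw [h0]; exact Submodule.mem_span_singleton_self v), h0]⟩

omit hQ hn in
/-- The action on subspaces. -/
noncomputable def subAction (Q : QuadraticForm F (ι → F)) :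
    MulAction (Cfsg.Omega F ⇑Q) (Submodule F (ι → F)) where
  smul g L := L.map (act g.1)
  one_smul L := by
    show L.map (act (1 : Cfsg.Omega F ⇑Q).1) = L
    ext v
    simp [Submodule.mem_map, act_one]
  mul_smul g h L := by
    show L.map (act (g * h).1) = (L.map (act h.1)).map (act g.1)
    ext v
    simp [Submodule.mem_map, act_mul]

omit hQ hn in
/-- The lines of the vectors of a given value. -/
noncomputable def Lines (Q : QuadraticForm F (ι → F)) (c : F) : Finset (Submodule F (ι → F)) :=
  (Finset.univ.filter fun v : ι → F => Q v = c ∧ v ≠ 0).image Ln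

omit hQ hn in
theorem card_Lines {c : F} (hc : ∀ k : F, k ≠ 0 → k * k * c = c) :
    (Lines Q c).card * (Fintype.card F - 1) + (if c = 0 then 1 else 0) = cnt Q ⊤ c := by
  set S := Finset.univ.filter fun v : Vec => Q v = c ∧ v ≠ 0 with hS
  have h1 : S.card = (Lines Q c).card * (Fintype.card F - 1) := by
    rw [Finset.card_eq_sum_card_image Ln S]
    refine Finset.sum_const_nat fun L hL => ?_
    obtain ⟨a, ha, rfl⟩ := Finset.mem_image.1 hL
    simp only [hS, Finset.mem_filter, Finset.mem_univ, true_and] at ha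
    rw [← Finset.card_univ, ← Finset.card_erase_of_mem (Finset.mem_univ (0 : F))]
    symm
    refine Finset.card_bij (fun k _ => k • a) (fun k hk => ?_)
      (fun k _ k' _ h => smul_left_injective F ha.2 h) fun v hv => ?_
    · have hk0 : k ≠ 0 := (Finset.mem_erase.1 hk).1
      simp only [hS, Finset.mem_filter, Finset.mem_univ, true_and]
      exact ⟨⟨by rw [Orth.map_smul', ha.1, hc k hk0], smul_ne_zero hk0 ha.2⟩,
        Ln_eq_of_mem (Submodule.smul_mem _ k (Submodule.mem_span_singleton_self a))
          (smul_ne_zero hk0 ha.2)⟩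
    · simp only [hS, Finset.mem_filter, Finset.mem_univ, true_and] at hv
      have hm : v ∈ Ln a := hv.2 ▸ Submodule.mem_span_singleton_self v
      obtain ⟨k, hk, rfl⟩ := mem_Ln_ne hm hv.1.2
      exact ⟨k, Finset.mem_erase.2 ⟨hk, Finset.mem_univ _⟩, rfl⟩
  rw [← h1, cnt, Nat.card_eq_fintype_card, Fintype.card_subtype]
  split_ifs with h0
  · rw [← Finset.card_insert_of_notMem (a := (0 : Vec)) (s := S) (by simp [hS])]
    congr 1
    ext v
    by_cases hv : v = 0 <;> simp [hS, hv, h0]
  · rw [add_zero]
    congr 1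
    ext v
    by_cases hv : v = 0 <;> simp [hS, hv, Ne.symm h0]

/-- The stabiliser of a line, modulo the centre. -/
theorem exists_index {c : F} {v : Vec} (hv : v ≠ 0) (hvc : Q v = c) :
    ∃ H : Subgroup (Cfsg.POmega F ⇑Q), H.index = (Lines Q c).card := by
  letI := subAction Q
  have hsm : ∀ (g : Ω) (u : Vec), g • Ln u = Ln (act g.1 u) := fun g u => by
    show (Ln u).map (act g.1) = _
    rw [Submodule.map_span, Set.image_singleton]
  have horb : MulAction.orbit Ω (Ln v) = (Lines Q c : Set (Submodule F Vec)) := by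
    ext L
    simp only [Lines, Finset.coe_image, Set.mem_image, Finset.mem_coe, Finset.mem_filter,
      Finset.mem_univ, true_and, MulAction.mem_orbit_iff]
    constructor
    · rintro ⟨g, rfl⟩
      exact ⟨act g.1 v, ⟨by rw [act_map, hvc], act_ne_zero g.1 hv⟩, (hsm g v).symm⟩
    · rintro ⟨u, ⟨huc, hu0⟩, rfl⟩
      obtain ⟨g, hg, hgu⟩ := move_vec hQ hn hv hu0 (hvc.trans huc.symm)
      exact ⟨⟨g, hg⟩, by rw [hsm, hgu]⟩
  have hker : (QuotientGroup.mk' (Subgroup.center Ω)).ker ≤ MulAction.stabilizer Ω (Ln v) := by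
    rw [QuotientGroup.ker_mk']
    intro g hg
    obtain ⟨f⟩ := Max.Orth.exists_frame hQ (show 5 ≤ Fintype.card ι by omega)
    obtain ⟨l, hl, hgl⟩ := scalar_of_fixes hQ f g (fixes_of_central hQ f (by omega) hg)
    rw [MulAction.mem_stabilizer_iff, hsm, hgl]
    exact Submodule.span_singleton_smul_eq (isUnit_iff_ne_zero.2 fun h0 => by
      rw [h0, mul_zero] at hl; exact zero_ne_one hl) v
  refine ⟨(MulAction.stabilizer Ω (Ln v)).map (QuotientGroup.mk' _), ?_⟩
  rw [Subgroup.index_map_eq _ (QuotientGroup.mk'_surjective _) hker, MulAction.index_stabilizer,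
    horb, Set.ncard_coe_finset]

/-- The bound for the projective group. -/
theorem index_bound {T N σ : ℕ} (hS : Spec Q T N σ) (H : Subgroup (Cfsg.POmega F ⇑Q))
    (hH : H ≠ ⊤) : T ≤ H.index := by
  set K := H.comap (QuotientGroup.mk' (Subgroup.center Ω)) with hK
  have hKi : K.index = H.index :=
    H.index_comap_of_surjective (QuotientGroup.mk'_surjective _)
  have hKtop : K ≠ ⊤ := fun h => hH (Subgroup.comap_injective (QuotientGroup.mk'_surjective _)
    (h.trans (Subgroup.comap_top _).symm))
  letI : Fintype (Ω ⧸ K) := Fintype.ofFinite _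
  have hc : Fintype.card (Ω ⧸ K) = K.index := by
    rw [Subgroup.index, Nat.card_eq_fintype_card]
  have h1 : 1 < Fintype.card (Ω ⧸ K) := by
    have hne : K.index ≠ 1 := fun h => hKtop (Subgroup.index_eq_one.1 h)
    have : 0 < Fintype.card (Ω ⧸ K) := Fintype.card_pos
    omega
  rw [← hKi, ← hc]
  exact min_action hQ hn hS h1

end Cfsg.Agent.Classical.OrthMinIndex
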